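import Groth.Agent.NumTriv.Uniform
import Groth.Agent.EulerChar.Leray
import Groth.Agent.ProjForm.Derived
import Groth.Agent.ProjForm.Unit
import Groth.Agent.ModShf.GrothAb
import Groth.Agent.AlgSpCov.IntegralDim
import Groth.Agent.S0025
import Groth.Agent.ProperFin.PnBase

/-!
# Numerically trivial modules on proper schemes preserve Euler characteristics
-/

universe u

open CategoryTheory CategoryTheory.Limits AlgebraicGeometry TopologicalSpace

set_option linter.style.haveILetI false

noncomputable section

namespace Groth.Agent.NumTriv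

open ProjTwist

variable {k : Type u} [Field k]

section Push

variable {X Y : Scheme.{u}} [X.Over (Spec (CommRingCat.of k))] [Y.Over (Spec (CommRingCat.of k))]
  [IsProper (X ↘ Spec (CommRingCat.of k))] [IsProper (Y ↘ Spec (CommRingCat.of k))]
  (g : Y ⟶ X) (hg : g ≫ (X ↘ Spec (CommRingCat.of k)) = Y ↘ Spec (CommRingCat.of k))

include hg in
theorem isProper_of_over : IsProper g := by
  haveI : IsProper (g ≫ (X ↘ Spec (CommRingCat.of k))) := by rw [hg]; infer_instance
  exact IsProper.of_comp g (X ↘ Spec (CommRingCat.of k))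

include hg in
theorem isCoh_rpush {G : Y.Modules} (hG : Coh.IsCoh G) (q : ℕ) :
    Coh.IsCoh ((Coh.Rpush g q).obj G) :=
  haveI := isProper_of_over (k := k) g hg
  haveI := EulerChar.isNoetherian k (X := X)
  Groth.Agent.S0036.result g G hG q

include hg in
theorem exists_isZero_rpush {G : Y.Modules} (hG : Coh.IsCoh G) :
    ∃ T : ℕ, ∀ q, T ≤ q → IsZero ((Coh.Rpush g q).obj G) := by
  haveI := isProper_of_over (k := k) g hg
  let R := CohAff.FRes.ofMod G
  haveI : (R.Z 0).IsQuasicoherent := hG.1
  obtain ⟨T, hT⟩ := EulerChar.exists_bound_Rc (k := k) g R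
  refine ⟨T + 1, fun q hq => ?_⟩
  obtain ⟨n, rfl⟩ : ∃ n, q = n + 1 := ⟨q - 1, by omega⟩
  exact (hT n (by omega)).of_iso (R.rpushIsoRc g n)

include hg in
/-- The projection formula for Euler characteristics, as a finite sum. -/
theorem exists_euler_push_tens {G : Y.Modules} (hG : Coh.IsCoh G) :
    ∃ T : ℕ, ∀ (M : X.Modules), PicF.IsInvertible M →
      Curv2.euler k Y (CohB1.tensorMod G ((Scheme.Modules.pullback g).obj M)) =
        ∑ q ∈ Finset.range (T + 1), (-1 : ℤ) ^ q *
          Curv2.euler k X (CohB1.tensorMod ((Coh.Rpush g q).obj G) M) ∧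
      Curv2.euler k Y G = ∑ q ∈ Finset.range (T + 1), (-1 : ℤ) ^ q *
          Curv2.euler k X ((Coh.Rpush g q).obj G) := by
  haveI := isProper_of_over (k := k) g hg
  haveI : EnoughInjectives Y.Modules := ModShf.schemeModulesEnoughInjectives _
  obtain ⟨T, hT⟩ := exists_isZero_rpush (k := k) g hg hG
  have hsum : ∀ a : ℕ → ℤ, (∀ q, T ≤ q → a q = 0) →
      ∑ᶠ q, (-1 : ℤ) ^ q * a q = ∑ q ∈ Finset.range (T + 1), (-1 : ℤ) ^ q * a q := fun a ha => by
    refine finsum_eq_sum_of_support_subset _ fun q hq => ?_
    simp only [Finset.coe_range, Set.mem_Iio]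
    by_contra h
    exact hq (by simp [ha q (by omega)])
  refine ⟨T, fun M hM => ⟨?_, ?_⟩⟩
  · have hM' := PicCl.isInvertible_pullback g hM
    rw [EulerChar.euler_leray g hg _ (isCoh_tens k hM' hG)]
    have e : ∀ q, Curv2.euler k X
        ((Coh.Rpush g q).obj (CohB1.tensorMod G ((Scheme.Modules.pullback g).obj M))) =
        Curv2.euler k X (CohB1.tensorMod ((Coh.Rpush g q).obj G) M) := fun q => by
      obtain ⟨φ⟩ := ProjForm.nonempty_rpush_tensor g G
        (ProjForm.isFinLocFree_of_isInvertible hM) q
      exact EulerChar.euler_iso k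
        ((Coh.Rpush g q).mapIso (tensComm _ _) ≪≫ φ.symm ≪≫ tensComm _ _)
    rw [finsum_congr fun q => by rw [e q]]
    exact hsum _ fun q hq => EulerChar.euler_of_isZero k
      (((DCoh.tensorBi (X := X)).flip.obj M).map_isZero (hT q hq))
  · rw [EulerChar.euler_leray g hg _ hG]
    exact hsum _ fun q hq => EulerChar.euler_of_isZero k (hT q hq)

include hg in
/-- If `χ(- ⊗ M)` is unchanged on coherent modules on `X`, so is `χ(- ⊗ g^*M)` on `Y`. -/
theorem euler_pullback_eq {M : X.Modules} (hM : PicF.IsInvertible M)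
    (h : ∀ H : X.Modules, Coh.IsCoh H →
      Curv2.euler k X (CohB1.tensorMod H M) = Curv2.euler k X H)
    {G : Y.Modules} (hG : Coh.IsCoh G) :
    Curv2.euler k Y (CohB1.tensorMod G ((Scheme.Modules.pullback g).obj M)) = Curv2.euler k Y G := by
  obtain ⟨T, hT⟩ := exists_euler_push_tens (k := k) g hg hG
  rw [(hT M hM).1, (hT M hM).2]
  exact Finset.sum_congr rfl fun q _ => by rw [h _ (isCoh_rpush (k := k) g hg hG q)]

variable [IsClosedImmersion g]

include hg in
/-- The projection formula along a closed immersion. -/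
theorem euler_closed_tens {M : X.Modules} (hM : PicF.IsInvertible M) {G : Y.Modules}
    (hG : Coh.IsCoh G) :
    Curv2.euler k Y (CohB1.tensorMod G ((Scheme.Modules.pullback g).obj M)) =
      Curv2.euler k X (CohB1.tensorMod ((Coh.push g).obj G) M) := by
  haveI := (isCoh_tens k (PicCl.isInvertible_pullback g hM) hG).1
  rw [← EulerChar.euler_push g hg _ ‹_›]
  exact EulerChar.euler_iso k ((Scheme.Modules.pushforward g).mapIso (tensComm _ _) ≪≫
    ((ChgRings.projIso g G).app M).symm ≪≫ tensComm _ _)

include hg in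
/-- Restricting preservation of `χ` in bounded dimension to a closed subscheme. -/
theorem euler_closed_eq {M : X.Modules} (hM : PicF.IsInvertible M) {G : Y.Modules}
    (hG : Coh.IsCoh G)
    (h : Curv2.euler k X (CohB1.tensorMod ((Coh.push g).obj G) M) =
      Curv2.euler k X ((Coh.push g).obj G)) :
    Curv2.euler k Y (CohB1.tensorMod G ((Scheme.Modules.pullback g).obj M)) = Curv2.euler k Y G := by
  haveI := hG.1
  rw [euler_closed_tens (k := k) g hg hM hG, h]
  exact EulerChar.euler_push g hg G ‹_›

end Push

theorem dim_support_push_le' {X Y : Scheme.{u}} (f : Y ⟶ X) [IsClosedImmersion f] (N : Y.Modules) :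
    topologicalKrullDim ↥(CohB1.support ((Coh.push f).obj N)) ≤
      topologicalKrullDim ↥(CohB1.support N) := by
  refine (CohDev.dim_mono (ProperFin.support_push_subset f N)).trans ?_
  exact le_of_eq (IsHomeomorph.topologicalKrullDim_eq _
    (f.isClosedEmbedding.isEmbedding.homeomorphImage (CohB1.support N)).isHomeomorph).symm

/-- `Num1` is stable under pullback. -/
theorem num1_pullback {X Y : Scheme.{u}} [X.Over (Spec (CommRingCat.of k))]
    [Y.Over (Spec (CommRingCat.of k))] [IsProper (X ↘ Spec (CommRingCat.of k))]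
    [IsProper (Y ↘ Spec (CommRingCat.of k))]
    (g : Y ⟶ X) (hg : g ≫ (X ↘ Spec (CommRingCat.of k)) = Y ↘ Spec (CommRingCat.of k))
    {M : X.Modules} (hM : Num1 k M) : Num1 k ((Scheme.Modules.pullback g).obj M) := by
  haveI := EulerChar.isNoetherian k (X := Y)
  haveI := EulerChar.isNoetherian k (X := X)
  have hM' := PicCl.isInvertible_pullback g hM.1
  refine ⟨hM', fun F hF hd => sub_eq_zero.1 ?_⟩
  rw [← dev_kcl k hM' hF]
  have hmem := CohDev.kcl_mem_closure_oz hF
  revert hmem
  generalize CohDev.kcl F = c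
  intro hmem
  induction hmem using AddSubgroup.closure_induction with
  | zero => exact map_zero _
  | add x y _ _ hx hy => rw [map_add, hx, hy, add_zero]
  | neg x _ hx => rw [map_neg, hx, neg_zero]
  | mem c hc =>
    obtain ⟨x, hx, rfl⟩ := hc
    rw [dev_kcl k hM' (CohDev.isCoh_oz x), sub_eq_zero]
    have hsub : closure ({x} : Set Y) ⊆ CohB1.support F :=
      closure_minimal (Set.singleton_subset_iff.2 hx) (CohDev.isClosed_support hF)
    have hdx := (CohDev.dim_mono hsub).trans hd
    let ι := (IntMult.ptIdeal x).subschemeι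
    let h := ι ≫ g
    letI : (IntMult.ptIdeal x).subscheme.Over (Spec (CommRingCat.of k)) :=
      ⟨ι ≫ (Y ↘ Spec (CommRingCat.of k))⟩
    haveI : IsProper ((IntMult.ptIdeal x).subscheme ↘ Spec (CommRingCat.of k)) :=
      inferInstanceAs (IsProper (ι ≫ (Y ↘ Spec (CommRingCat.of k))))
    haveI : IsProper g := isProper_of_over (k := k) g hg
    haveI : IsProper h := inferInstanceAs (IsProper (ι ≫ g))
    haveI : QuasiCompact h := inferInstance
    letI : h.image.Over (Spec (CommRingCat.of k)) := ⟨h.imageι ≫ (X ↘ Spec (CommRingCat.of k))⟩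
    haveI : IsProper (h.image ↘ Spec (CommRingCat.of k)) :=
      inferInstanceAs (IsProper (h.imageι ≫ (X ↘ Spec (CommRingCat.of k))))
    have hto : h.toImage ≫ (h.image ↘ Spec (CommRingCat.of k)) =
        (IntMult.ptIdeal x).subscheme ↘ Spec (CommRingCat.of k) := by
      show h.toImage ≫ h.imageι ≫ (X ↘ Spec (CommRingCat.of k)) = ι ≫ (Y ↘ Spec (CommRingCat.of k))
      rw [Scheme.Hom.toImage_imageι_assoc, ← hg]
      rfl
    haveI : IsProper h.toImage := isProper_of_over (k := k) h.toImage hto
    haveI : Surjective h.toImage := ⟨fun y => by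
      have h1 : Dense (Set.range h.toImage.base) := h.toImage.denseRange
      have h2 : Set.range h.toImage.base = Set.univ :=
        (IsClosed.closure_eq h.toImage.isClosedMap.isClosed_range).symm.trans h1.closure_eq
      exact h2.ge (Set.mem_univ y)⟩
    have hdimC : topologicalKrullDim (IntMult.ptIdeal x).subscheme ≤ ((1 : ℕ) : WithBot ℕ∞) := by
      refine le_trans (le_of_eq ?_) hdx
      rw [← (IntMult.ptIdeal x).range_subschemeι.trans
        (show ((IntMult.ptIdeal x).support : Set Y) = closure {x} from rfl)]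
      exact IsHomeomorph.topologicalKrullDim_eq _
        (ι.isClosedEmbedding.isEmbedding.toHomeomorph).isHomeomorph
    have hdimI : topologicalKrullDim h.image ≤ ((1 : ℕ) : WithBot ℕ∞) :=
      (AlgSpCov.IntegralDim.topologicalKrullDim_le_of_closed_surjective h.toImage
        h.toImage.isClosedMap).trans hdimC
    have hI : ∀ H : h.image.Modules, Coh.IsCoh H → Curv2.euler k h.image
        (CohB1.tensorMod H ((Scheme.Modules.pullback h.imageι).obj M)) =
          Curv2.euler k h.image H := fun H hH =>
      euler_closed_eq (k := k) h.imageι rfl hM.1 hH (hM.2 _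
        (ProperFin.isCoh_push_of_isFinite h.imageι H hH)
        ((dim_support_push_le' h.imageι H).trans (EulerChar.dim_support_le hdimI)))
    have key := euler_pullback_eq (k := k) h.toImage hto
      (PicCl.isInvertible_pullback h.imageι hM.1) hI
      (ProperFin.isCoh_structureModule (IntMult.ptIdeal x).subscheme)
    have e : (Scheme.Modules.pullback h.toImage).obj ((Scheme.Modules.pullback h.imageι).obj M) ≅
        (Scheme.Modules.pullback ι).obj ((Scheme.Modules.pullback g).obj M) :=
      (Scheme.Modules.pullbackComp _ _).app M ≪≫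
        (Scheme.Modules.pullbackCongr h.toImage_imageι).app M ≪≫
        ((Scheme.Modules.pullbackComp ι g).app M).symm
    rw [EulerChar.euler_iso k (tensCongr (Iso.refl _) e),
      euler_closed_tens (k := k) ι rfl hM' (ProperFin.isCoh_structureModule _)] at key
    exact key.trans (EulerChar.euler_push ι rfl _
      (ProperFin.isCoh_structureModule _).1).symm

theorem unitMap_bijective {X Y : Scheme.{u}} (π : Y ⟶ X) (U : X.Opens) [IsIso (π ∣_ U)]
    (V : X.Opens) (hV : V ≤ U) :
    Function.Bijective ((Props.GenLocus.homOfSec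
      (L := (Scheme.Modules.pushforward π).obj (Coh.structureModule Y))
      (show Γ((Scheme.Modules.pushforward π).obj (Coh.structureModule Y), ⊤) from
        (1 : Γ(Y, π ⁻¹ᵁ ⊤)))).app V) := by
  have h1 : Function.Bijective (π.app V).hom := by
    haveI : IsIso (π.app V) := by
      have hi : IsIso ((π ∣_ U).app (U.ι ⁻¹ᵁ V)) := inferInstance
      rw [morphismRestrict_app] at hi
      have hi : IsIso (π.app (U.ι ''ᵁ (U.ι ⁻¹ᵁ V))) := @IsIso.of_isIso_comp_right _ _ _ _ _ (π.app (U.ι ''ᵁ (U.ι ⁻¹ᵁ V))) (Y.presheaf.map (eqToHom (image_morphismRestrict_preimage π U (U.ι ⁻¹ᵁ V))).op) inferInstance hi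
      have e : U.ι ''ᵁ (U.ι ⁻¹ᵁ V) = V := by
        rw [Scheme.Hom.image_preimage_eq_opensRange_inf, Scheme.Opens.opensRange_ι,
          inf_eq_right.mpr hV]
      rwa [e] at hi
    exact (ConcreteCategory.isIso_iff_bijective (π.app V)).1 inferInstance
  have key : ∀ a : Γ(X, V), (Props.GenLocus.homOfSec
      (L := (Scheme.Modules.pushforward π).obj (Coh.structureModule Y))
      (show Γ((Scheme.Modules.pushforward π).obj (Coh.structureModule Y), ⊤) from
        (1 : Γ(Y, π ⁻¹ᵁ ⊤)))).app V a = (π.app V).hom a := fun a => by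
    refine (Props.GenLocus.app_eq _ V a).trans ?_
    rw [Props.GenLocus.sec_homOfSec]
    refine (ProperFin.push_smul' π (Coh.structureModule Y) a _).trans ?_
    show π.app V a * Y.presheaf.map _ (1 : Γ(Y, π ⁻¹ᵁ ⊤)) = π.app V a
    exact (congrArg (fun t : Γ(Y, π ⁻¹ᵁ V) => (π.app V).hom a * t) (map_one (Y.presheaf.map _).hom)).trans (mul_one _)
  exact ⟨fun a b h => h1.1 ((key a).symm.trans (h.trans (key b))),
    fun y => let ⟨a, ha⟩ := h1.2 y; ⟨a, (key a).trans ha⟩⟩

set_option maxHeartbeats 1000000 in
/-- The main theorem: `χ(F ⊗ M) = χ(F)` on any proper scheme over an infinite field. -/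
theorem euler_tens_eq_proper [Infinite k] : ∀ (e : ℕ) (X : Scheme.{u})
    [X.Over (Spec (CommRingCat.of k))] [IsProper (X ↘ Spec (CommRingCat.of k))],
    ∀ F : X.Modules, Coh.IsCoh F → topologicalKrullDim ↥(CohB1.support F) < (e : WithBot ℕ∞) →
      ∀ M : X.Modules, Num1 k M → Curv2.euler k X (CohB1.tensorMod F M) = Curv2.euler k X F := by
  intro e
  induction e with
  | zero =>
    intro X _ _ F _ hd M _
    have hF : IsZero F :=
      CohDev.isZero_of_support_eq_empty (EulerChar.support_eq_empty_of_dim_lt hd)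
    exact (EulerChar.euler_of_isZero k (M := CohB1.tensorMod F M)
      (((DCoh.tensorBi (X := X)).flip.obj M).map_isZero hF)).trans
      (EulerChar.euler_of_isZero k hF).symm
  | succ e IH =>
    intro X _ _ F hF hd M hM
    haveI := EulerChar.isNoetherian k (X := X)
    refine sub_eq_zero.1 ?_
    rw [← dev_kcl k hM.1 hF]
    have hmem := CohDev.kcl_mem_closure_oz hF
    revert hmem
    generalize CohDev.kcl F = c
    intro hmem
    induction hmem using AddSubgroup.closure_induction with
    | zero => exact map_zero _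
    | add x y _ _ hx hy => rw [map_add, hx, hy, add_zero]
    | neg x _ hx => rw [map_neg, hx, neg_zero]
    | mem c hc =>
      obtain ⟨x, hx, rfl⟩ := hc
      rw [dev_kcl k hM.1 (CohDev.isCoh_oz x), sub_eq_zero]
      let ι := (IntMult.ptIdeal x).subschemeι
      let Z := (IntMult.ptIdeal x).subscheme
      haveI : IsIntegral Z := S16188.isIntegral_subscheme _ isIrreducible_singleton.closure
      letI : Z.Over (Spec (CommRingCat.of k)) := ⟨ι ≫ (X ↘ Spec (CommRingCat.of k))⟩
      haveI : IsProper (Z ↘ Spec (CommRingCat.of k)) :=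
        inferInstanceAs (IsProper (ι ≫ (X ↘ Spec (CommRingCat.of k))))
      haveI := EulerChar.isNoetherian k (X := Z)
      have hMZ : Num1 k ((Scheme.Modules.pullback ι).obj M) := num1_pullback ι rfl hM
      have hdZ : topologicalKrullDim Z ≤ (e : WithBot ℕ∞) := by
        refine le_trans (le_of_eq ?_) ((CohDev.dim_mono (closure_minimal
          (Set.singleton_subset_iff.2 hx) (CohDev.isClosed_support hF))).trans
            (Snapper.le_of_lt_succ hd))
        rw [← (IntMult.ptIdeal x).range_subschemeι.trans
          (show ((IntMult.ptIdeal x).support : Set X) = closure {x} from rfl)]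
        exact IsHomeomorph.topologicalKrullDim_eq _
          (ι.isClosedEmbedding.isEmbedding.toHomeomorph).isHomeomorph
      suffices HZ : Curv2.euler k Z (CohB1.tensorMod (Coh.structureModule Z)
          ((Scheme.Modules.pullback ι).obj M)) = Curv2.euler k Z (Coh.structureModule Z) by
        rw [euler_closed_tens (k := k) ι rfl hM.1 (ProperFin.isCoh_structureModule Z)] at HZ
        exact HZ.trans (EulerChar.euler_push ι rfl _ (ProperFin.isCoh_structureModule Z).1).symm
      -- Chow's lemma
      obtain ⟨n, Z', π, j₀, hj₀, hje, hπ, -, U, hU, hiso⟩ :=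
        S0025.result (Z ↘ Spec (CommRingCat.of k))
      obtain ⟨eP, heP⟩ := ProperFin.exists_iso_projSpaceOver n k
      let j := j₀ ≫ eP.hom
      letI : Z'.Over (Spec (CommRingCat.of k)) := ⟨π ≫ (Z ↘ Spec (CommRingCat.of k))⟩
      haveI : IsProper (Z' ↘ Spec (CommRingCat.of k)) :=
        inferInstanceAs (IsProper (π ≫ (Z ↘ Spec (CommRingCat.of k))))
      have hj : j ≫ CohB1.ProjSpace.toSpec n k = Z' ↘ Spec (CommRingCat.of k) := by
        rw [Category.assoc, heP]
        exact hje
      haveI := ProjProper.Basic.isProper_toSpec n k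
      haveI : IsProper (j ≫ CohB1.ProjSpace.toSpec n k) := by rw [hj]; infer_instance
      haveI : IsProper j := IsProper.of_comp j (CohB1.ProjSpace.toSpec n k)
      haveI : IsClosedImmersion j := .of_isPreimmersion j j.isClosedMap.isClosed_range
      have hO' := ProperFin.isCoh_structureModule Z'
      have htop := euler_tens_eq j hj hO' (num1_pullback π rfl hMZ)
      obtain ⟨T, hT⟩ := exists_euler_push_tens (k := k) π rfl hO'
      obtain ⟨h1, h2⟩ := hT _ hMZ.1
      rw [h1, h2, ← sub_eq_zero, ← Finset.sum_sub_distrib] at htop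
      have hlow : ∀ H : Z.Modules, Coh.IsCoh H →
          topologicalKrullDim ↥(CohB1.support H) < (e : WithBot ℕ∞) →
          Curv2.euler k Z (CohB1.tensorMod H ((Scheme.Modules.pullback ι).obj M)) =
            Curv2.euler k Z H := fun H hH h => IH Z H hH h _ hMZ
      have hUc : topologicalKrullDim ↥((U : Set Z)ᶜ) < (e : WithBot ℕ∞) := by
        refine CohDev.dim_lt_of_irreducible (C := Set.univ) U.2.isClosed_compl
          (IrreducibleSpace.isIrreducible_univ Z) (Set.subset_univ _) (fun h => ?_) ?_
        · obtain ⟨w, hw⟩ := hU.nonempty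
          exact h (Set.mem_univ w) hw
        · exact (IsHomeomorph.topologicalKrullDim_eq _
            (Homeomorph.Set.univ Z).isHomeomorph).trans_le hdZ
      haveI := hiso
      rw [Finset.sum_eq_single 0 (fun q _ hq => ?_) (by simp)] at htop
      swap
      · obtain ⟨q', rfl⟩ : ∃ q', q = q' + 1 := ⟨q - 1, by omega⟩
        have hR := isCoh_rpush (k := k) π rfl hO' (q' + 1)
        haveI := hO'.1
        haveI : EnoughInjectives Z'.Modules := ModShf.schemeModulesEnoughInjectives _
        let R := CohAff.FRes.ofMod (Coh.structureModule Z')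
        haveI : (R.Z 0).IsQuasicoherent := hO'.1
        have hsupp : CohB1.support ((Coh.Rpush π (q' + 1)).obj (Coh.structureModule Z')) ⊆
            (U : Set Z)ᶜ :=
          (CohDev.support_subset_of_mono (R.rpushIsoRc π q').hom).trans
            (ProperFin.support_Rc_subset π R q' U)
        rw [hlow _ hR (lt_of_le_of_lt (CohDev.dim_mono hsupp) hUc), sub_self]
      simp only [pow_zero, one_mul] at htop
      let P := (Scheme.Modules.pushforward π).obj (Coh.structureModule Z')
      haveI : EnoughInjectives Z'.Modules := ModShf.schemeModulesEnoughInjectives _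
      let e0 : (Coh.Rpush π 0).obj (Coh.structureModule Z') ≅ P :=
        (Scheme.Modules.pushforward π).rightDerivedZeroIsoSelf.app _
      rw [EulerChar.euler_iso k (tensCongr e0 (Iso.refl _)), EulerChar.euler_iso k e0] at htop
      have hP : Coh.IsCoh P := CohDev.isCoh_of_iso e0 (isCoh_rpush (k := k) π rfl hO' 0)
      have hOZ := ProperFin.isCoh_structureModule Z
      let η : Coh.structureModule Z ⟶ P := Props.GenLocus.homOfSec
        (L := (Scheme.Modules.pushforward π).obj (Coh.structureModule Z'))
        (show Γ((Scheme.Modules.pushforward π).obj (Coh.structureModule Z'), ⊤) from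
          (1 : Γ(Z', π ⁻¹ᵁ ⊤)))
      have hη := CohDev.kcl_sub_mem_of_map η hOZ hP (T := Set.univ) (U := (U : Set Z))
        (Set.subset_univ _) (Set.subset_univ _) fun y hy =>
          ProjTwist.stalkLin_bijective_of_app η U (fun V hV => unitMap_bijective π U V hV) y hy
      have hz : dev k hMZ.1 (CohDev.kcl (Coh.structureModule Z) - CohDev.kcl P) = 0 := by
        refine AddSubgroup.closure_induction (p := fun c _ => dev k hMZ.1 c = 0) ?_ (map_zero _)
          (fun a b _ _ ha hb => by rw [map_add, ha, hb, add_zero])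
          (fun a _ ha => by rw [map_neg, ha, neg_zero]) hη
        rintro _ ⟨H, hH, hHs, rfl⟩
        rw [dev_kcl k hMZ.1 hH, hlow H hH (lt_of_le_of_lt
          (CohDev.dim_mono (hHs.trans fun z hz => hz.2)) hUc), sub_self]
      rw [map_sub, dev_kcl k hMZ.1 hOZ, dev_kcl k hMZ.1 hP, htop, sub_zero, sub_eq_zero] at hz
      exact hz

/-- `χ(F ⊗ M) = χ(F)` for numerically trivial `M`. -/
theorem euler_tens_eq' [Infinite k] {X : Scheme.{u}} [X.Over (Spec (CommRingCat.of k))]
    [IsProper (X ↘ Spec (CommRingCat.of k))] {F M : X.Modules} (hF : Coh.IsCoh F)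
    (hM : Num1 k M) : Curv2.euler k X (CohB1.tensorMod F M) = Curv2.euler k X F := by
  haveI := EulerChar.isNoetherian k (X := X)
  obtain ⟨D, hD⟩ := HilbPolyX.exists_dim_le k X
  exact euler_tens_eq_proper (D + 1) X F hF (lt_of_le_of_lt (EulerChar.dim_support_le hD)
    (by exact_mod_cast Nat.lt_succ_self D)) M hM

end Groth.Agent.NumTriv
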