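import Groth.Agent.NumTriv.Uniform
import Groth.Agent.DimOneAmple.AmpleOfGG
import Groth.Agent.Props.AmpleGG
import Groth.Agent.AmpleLib.GlobGen
import Groth.Agent.S2330
import Groth.Agent.ProperFin.PnBase

/-!
# Numerically trivial twists of an ample module are ample
-/

universe u

open CategoryTheory CategoryTheory.Limits AlgebraicGeometry

set_option linter.style.haveILetI false

noncomputable section

namespace Groth.Agent.NumTriv

open ProjTwist ProjTwist.Pn

variable {k : Type u} [Field k] {X : Scheme.{u}} [X.Over (Spec (CommRingCat.of k))]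
  [IsProper (X ↘ Spec (CommRingCat.of k))]

/-- A proper scheme with an ample module is a closed subscheme of projective space. -/
theorem exists_closedImmersion_of_ample {H : X.Modules} (hH : CohB1.IsAmple H) :
    ∃ (n : ℕ) (i : X ⟶ CohB1.ProjSpace n k), IsClosedImmersion i ∧
      i ≫ CohB1.ProjSpace.toSpec n k = X ↘ Spec (CommRingCat.of k) := by
  obtain ⟨m, -, n, i, hi, hif, -⟩ :=
    (S2330.result (X ↘ Spec (CommRingCat.of k)) H hH.1).1.mp hH
  obtain ⟨e, he⟩ := ProperFin.exists_iso_projSpaceOver n k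
  haveI := hi
  haveI := ProjProper.Basic.isProper_toSpec n k
  have hw : (i ≫ e.hom) ≫ CohB1.ProjSpace.toSpec n k = X ↘ Spec (CommRingCat.of k) := by
    rw [Category.assoc, he]
    exact hif
  haveI : IsProper ((i ≫ e.hom) ≫ CohB1.ProjSpace.toSpec n k) := by rw [hw]; infer_instance
  haveI : IsProper (i ≫ e.hom) := IsProper.of_comp (i ≫ e.hom) (CohB1.ProjSpace.toSpec n k)
  exact ⟨n, i ≫ e.hom,
    .of_isPreimmersion (i ≫ e.hom) (i ≫ e.hom).isClosedMap.isClosed_range, hw⟩

omit [X.Over (Spec (CommRingCat.of k))] [IsProper (X ↘ Spec (CommRingCat.of k))] in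
theorem exists_genLocus_hom {M : X.Modules} (hM : PicF.IsInvertible M)
    (hg : Curv2.IsGloballyGenerated M) (x : X) :
    ∃ t : Coh.structureModule X ⟶ M, x ∈ CohB1.genLocus M t := by
  obtain ⟨σ, hσ⟩ := DimOneAmple.exists_genLocus_mem hM hg x
  exact ⟨Props.GenLocus.homOfSec σ, by rw [AmpleLib.genLocus_homOfSec]; exact hσ⟩

omit [X.Over (Spec (CommRingCat.of k))] [IsProper (X ↘ Spec (CommRingCat.of k))] in
/-- The product of globally generated invertible modules. -/
theorem gg_tens {M N : X.Modules} (hM : PicF.IsInvertible M) (hN : PicF.IsInvertible N)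
    (hgM : Curv2.IsGloballyGenerated M) (hgN : Curv2.IsGloballyGenerated N) :
    Curv2.IsGloballyGenerated (CohB1.tensorMod M N) := by
  refine Props.AmpleGG.isGloballyGenerated_of_genLocus fun x => ?_
  obtain ⟨σ, hσ⟩ := DimOneAmple.exists_genLocus_mem hM hgM x
  obtain ⟨τ, hτ⟩ := DimOneAmple.exists_genLocus_mem hN hgN x
  refine ⟨Props.GenLocus.homOfSec (Props.GenTensor.tmul σ τ), ?_⟩
  rw [AmpleLib.genLocus_homOfSec, AmpleLib.locus_tmul hM hN]
  exact ⟨hσ, hτ⟩

omit [X.Over (Spec (CommRingCat.of k))] [IsProper (X ↘ Spec (CommRingCat.of k))] in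
/-- Ample times globally generated is ample. -/
theorem isAmple_tens_gg {H M : X.Modules} (hH : CohB1.IsAmple H) (hM : PicF.IsInvertible M)
    (hg : Curv2.IsGloballyGenerated M) : CohB1.IsAmple (CohB1.tensorMod H M) := by
  refine Props.AmpleFrames.isAmple_of_iso (tensCongr (oneTens H) (Iso.refl M)) ?_
  refine Props.AmpleTensor.isAmple_of_frameMap2 hH hM one_pos one_pos
    (Props.AmpleTensor.FrameMap2.powTensor H M 1) fun x => ⟨0, ?_⟩
  obtain ⟨σ, hσ⟩ := DimOneAmple.exists_genLocus_mem hM hg x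
  refine ⟨Props.GenLocus.homOfSec
    (Props.GenTensor.tmul (Props.GenLocus.one' (⊤ : X.Opens)) σ), ?_⟩
  have h := AmpleLib.locus_tmul (LFFrame.isInvertible_structureModule X) hM
    (Props.GenLocus.one' (⊤ : X.Opens)) σ
  rw [DimOneAmple.locus_one, top_inf_eq] at h
  rw [AmpleLib.genLocus_homOfSec]
  exact h.symm ▸ hσ

/-- High powers of an ample module twisted by numerically trivial modules are globally generated,
uniformly. -/
theorem exists_uniform_gg [Infinite k] {H : X.Modules} (hH : CohB1.IsAmple H) :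
    ∃ N₀ : ℕ, ∀ N, N₀ ≤ N → ∀ M : X.Modules, Num1 k M →
      Curv2.IsGloballyGenerated (CohB1.tensorMod (CohB1.tensorPow H N) M) := by
  haveI := EulerChar.isNoetherian k (X := X)
  obtain ⟨n, i, hi, hw⟩ := exists_closedImmersion_of_ample (k := k) hH
  haveI := hi
  haveI := isLocallyNoetherian_projSpace n k
  obtain ⟨m, hm⟩ := exists_uniform_regular i hw (ProperFin.isCoh_structureModule X)
  obtain ⟨n₀, hn₀⟩ := AmpleLib.eventually_globallyGenerated hH
    (ProjTwist.isQCoh_of_isInvertible (isInvertible_oX i (-m)))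
    (VBLib.isCoh_of_ofRank (ProjTwist.isFinLocFreeOfRank_one (isInvertible_oX i (-m)))).2
  refine ⟨n₀, fun N hN M hM => ?_⟩
  have hc : Coh.IsCoh (CohB1.tensorMod (Coh.structureModule X) M) :=
    isCoh_tens k hM.1 (ProperFin.isCoh_structureModule X)
  haveI := hc.1
  have h1 : Curv2.IsGloballyGenerated
      (Pic13.twistOn k i (CohB1.tensorMod (Coh.structureModule X) M) m) :=
    CMReg.isGloballyGenerated_twistOn i _ m (isGloballyGenerated_of_isMRegular
      (ProperFin.isCoh_push_of_isFinite i _ hc) (CMReg.isMRegular_push i (hm M hM)))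
  have h2 : Curv2.IsGloballyGenerated (CohB1.tensorMod M (oX i m)) :=
    CMReg.isGloballyGenerated_iso
      (tensCongr (tensComm (Coh.structureModule X) M ≪≫ tensOne M) (Iso.refl _)) h1
  have h3 := gg_tens (AmpleLib.isInvertible_tensorMod (isInvertible_oX i (-m))
    (AmpleLib.isInvertible_tensorPow hH.1 N))
    (AmpleLib.isInvertible_tensorMod hM.1 (isInvertible_oX i m)) (hn₀ N hN) h2
  obtain ⟨e⟩ := nonempty_oX_add i (-m) m 0 (by ring)
  obtain ⟨e₀⟩ := nonempty_oX_zero i
  refine CMReg.isGloballyGenerated_iso ?_ h3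
  let A := oX i (-m)
  let B := oX i m
  let P := CohB1.tensorPow H N
  exact tensCongr (tensComm A P) (tensComm M B) ≪≫ tensAssoc P A (CohB1.tensorMod B M) ≪≫
    tensCongr (Iso.refl P) ((tensAssoc A B M).symm ≪≫ tensCongr (e ≪≫ e₀) (Iso.refl M) ≪≫
      tensComm (Coh.structureModule X) M ≪≫ tensOne M)

/-- Numerically trivial twists of an ample module are ample. -/
theorem isAmple_tens_num1 [Infinite k] {H : X.Modules} (hH : CohB1.IsAmple H) {M : X.Modules}
    (hM : Num1 k M) : CohB1.IsAmple (CohB1.tensorMod H M) := by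
  obtain ⟨N, hN⟩ := exists_uniform_gg (k := k) hH
  have hg := hN N le_rfl _ (num1_pow k hM (N + 1))
  have hinv : PicF.IsInvertible (CohB1.tensorMod (CohB1.tensorPow H N)
      (CohB1.tensorPow M (N + 1))) :=
    AmpleLib.isInvertible_tensorMod (AmpleLib.isInvertible_tensorPow hH.1 N)
      (AmpleLib.isInvertible_tensorPow hM.1 (N + 1))
  obtain ⟨φ, -⟩ := AmpleLib.exists_iso_tensorPow_tensor hH.1 hM.1 (N + 1)
  refine (Props.AmpleFrames.isAmple_tensorPow_iff
    (AmpleLib.isInvertible_tensorMod hH.1 hM.1) (Nat.succ_pos N)).2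
    (Props.AmpleFrames.isAmple_of_iso ?_ (isAmple_tens_gg hH hinv hg))
  exact (tensAssoc H _ _).symm ≪≫
    tensCongr (tensComm H (CohB1.tensorPow H N)) (Iso.refl _) ≪≫ φ

end Groth.Agent.NumTriv
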