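import Groth.Agent.NumTriv.Class
import Groth.Agent.ProjTwist.Pn.UniformVanish
import Groth.Agent.EulerFam.RegBounded
import Groth.Agent.TwistFlat.Pn
import Groth.Agent.Wt.AmpleThick
import Groth.Agent.ProjTwist.Pn.TopCohom

/-!
# Twists on a closed subscheme of projective space; bounds for `h⁰`
-/

universe u

open CategoryTheory CategoryTheory.Limits AlgebraicGeometry

set_option linter.style.haveILetI false

noncomputable section

namespace Groth.Agent.NumTriv

open ProjTwist ProjTwist.Pn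

variable {k : Type u} [Field k] {n : ℕ} {X : Scheme.{u}} (i : X ⟶ CohB1.ProjSpace n k)

/-- `O_X(d)` -/
abbrev oX (d : ℤ) : X.Modules := (Scheme.Modules.pullback i).obj (Twist.twistProjSpace n k d)

theorem isInvertible_oX (d : ℤ) : PicF.IsInvertible (oX i d) :=
  PicCl.isInvertible_pullback i (isInvertible_twistProjSpace n k d)

/-- `O(a) ⊗ O(b) ≅ O(a + b)` -/
theorem nonempty_oX_add (a b c : ℤ) (h : a + b = c) :
    Nonempty (CohB1.tensorMod (oX i a) (oX i b) ≅ oX i c) := by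
  subst h
  obtain ⟨e⟩ := nonempty_twistProjSpace_tensor n k a b
  exact ⟨(KFlat.PullTensor.pullTensorIso i _ _).symm ≪≫ (Scheme.Modules.pullback i).mapIso e⟩

theorem nonempty_oX_zero : Nonempty (oX i 0 ≅ Coh.structureModule X) :=
  ⟨(Scheme.Modules.pullback i).mapIso (twistZeroIso (CohB1.polyGrading n k)).symm ≪≫
    QCoh.pullbackUnitIso i⟩

theorem nonempty_oX_pow (t : ℕ) :
    Nonempty (CohB1.tensorPow (oX i 1) t ≅ oX i (t : ℤ)) := by
  obtain ⟨e⟩ := EulerFam.pullback_tensorPow i (Twist.twistProjSpace n k 1) t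
  obtain ⟨e'⟩ := TwistFlat.nonempty_tensorPow_twist n k t
  exact ⟨e.symm ≪≫ (Scheme.Modules.pullback i).mapIso e'⟩

theorem isAmple_oX_one [IsClosedImmersion i] : CohB1.IsAmple (oX i 1) :=
  Wt.AmpleThick.isAmple_pullback i isAmple_one

/-- `(F ⊗ M)(d) ≅ F(d) ⊗ M` -/
def twistTens (F M : X.Modules) (d : ℤ) :
    Pic13.twistOn k i (CohB1.tensorMod F M) d ≅ CohB1.tensorMod (Pic13.twistOn k i F d) M :=
  tensAssoc F M (oX i d) ≪≫ tensCongr (Iso.refl F) (tensComm M (oX i d)) ≪≫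
    (tensAssoc F (oX i d) M).symm

theorem nonempty_twistTwist (F : X.Modules) (a b c : ℤ) (h : a + b = c) :
    Nonempty (Pic13.twistOn k i (Pic13.twistOn k i F a) b ≅ Pic13.twistOn k i F c) := by
  obtain ⟨e⟩ := nonempty_oX_add i a b c h
  exact ⟨tensAssoc F (oX i a) (oX i b) ≪≫ tensCongr (Iso.refl F) e⟩

theorem dim_support_twistOn_le (F : X.Modules) (d : ℤ) :
    topologicalKrullDim ↥(CohB1.support (Pic13.twistOn k i F d)) ≤
      topologicalKrullDim ↥(CohB1.support F) := dim_support_tens_le F (oX i d)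

section Proper

variable [X.Over (Spec (CommRingCat.of k))] [IsProper (X ↘ Spec (CommRingCat.of k))]

theorem isCoh_twistOn {F : X.Modules} (hF : Coh.IsCoh F) (d : ℤ) :
    Coh.IsCoh (Pic13.twistOn k i F d) := isCoh_tens k (isInvertible_oX i d) hF

/-- `χ` of twists is additive. -/
theorem euler_twistOn_add {S : ShortComplex X.Modules} (hS : S.ShortExact) (h₁ : Coh.IsCoh S.X₁)
    (h₂ : Coh.IsCoh S.X₂) (h₃ : Coh.IsCoh S.X₃) (d : ℤ) :
    Curv2.euler k X (Pic13.twistOn k i S.X₂ d) = Curv2.euler k X (Pic13.twistOn k i S.X₁ d) +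
      Curv2.euler k X (Pic13.twistOn k i S.X₃ d) :=
  euler_add_map ((DCoh.tensorBi (X := X)).flip.obj (oX i d))
    (ProjTwist.shortExact_tensor (isInvertible_oX i d) hS)
    (isCoh_tens k (isInvertible_oX i d) h₁) (isCoh_tens k (isInvertible_oX i d) h₂)
    (isCoh_tens k (isInvertible_oX i d) h₃)

/-- `i_*(F ⊗ M)` -/
abbrev G (F M : X.Modules) : (CohB1.ProjSpace n k).Modules :=
  (Coh.push i).obj (CohB1.tensorMod F M)

variable [IsClosedImmersion i]

theorem isCoh_G {F M : X.Modules} (hM : PicF.IsInvertible M) (hF : Coh.IsCoh F) :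
    Coh.IsCoh (G i F M) :=
  haveI := isLocallyNoetherian_projSpace n k
  ProperFin.isCoh_push_of_isFinite i _ (isCoh_tens k hM hF)

variable (hi : i ≫ CohB1.ProjSpace.toSpec n k = X ↘ Spec (CommRingCat.of k))

include hi in
theorem chi_G {F M : X.Modules} (hM : PicF.IsInvertible M) (hF : Coh.IsCoh F) (d : ℤ) :
    chi (G i F M) d = Curv2.euler k X (CohB1.tensorMod (Pic13.twistOn k i F d) M) := by
  haveI := (isCoh_tens k hM hF).1
  exact (chi_push i hi (CohB1.tensorMod F M) d).trans (EulerChar.euler_iso k (twistTens i F M d))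

end Proper

variable {A : (CohB1.ProjSpace n k).Modules}

/-- `h⁰(A(j))` is monotone in `j`. -/
theorem h0Tw_mono [Infinite k] (hA : Coh.IsCoh A) {j j' : ℤ} (h : j ≤ j') :
    h0Tw A j ≤ h0Tw A j' := by
  obtain ⟨c, rfl⟩ : ∃ c : ℕ, j' = j + c := ⟨(j' - j).toNat, by omega⟩
  induction c with
  | zero => simp
  | succ c ih =>
    refine (ih (by omega)).trans ?_
    obtain ⟨τ, hτ, -⟩ := exists_hyperSection (fun _ : Fin 1 => A) fun _ => hA
    haveI : Mono (τ.app A) := hτ 0
    have h1 := EulerFam.h0Tw_le_of_mono (τ.app A) hA (j + (c + 1 : ℕ))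
    refine le_trans (le_of_eq ?_) h1
    exact finrank_iso (twTw A (-1) (j + (c + 1 : ℕ)) (j + c) (by push_cast; ring)).symm 0

theorem finrank_middle_le {V₁ V₂ V₃ : Type*} [AddCommGroup V₁] [Module k V₁] [AddCommGroup V₂]
    [Module k V₂] [AddCommGroup V₃] [Module k V₃] [Module.Finite k V₁] [Module.Finite k V₂]
    [Module.Finite k V₃] (f : V₁ →ₗ[k] V₂) (g : V₂ →ₗ[k] V₃)
    (h : ∀ x, g x = 0 → ∃ y, f y = x) :
    Module.finrank k V₂ ≤ Module.finrank k V₁ + Module.finrank k V₃ := by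
  have h1 : LinearMap.ker g ≤ LinearMap.range f := fun x hx => h x hx
  have h2 := g.finrank_range_add_finrank_ker
  have h3 := Submodule.finrank_mono h1
  have h4 := LinearMap.finrank_range_le f
  have h5 := (LinearMap.range g).finrank_le
  omega

/-- `h⁰` is subadditive. -/
theorem h0Tw_le_add {S : ShortComplex (CohB1.ProjSpace n k).Modules} (hS : S.ShortExact)
    (h₁ : Coh.IsCoh S.X₁) (h₂ : Coh.IsCoh S.X₂) (h₃ : Coh.IsCoh S.X₃) (j : ℤ) :
    h0Tw S.X₂ j ≤ h0Tw S.X₁ j + h0Tw S.X₃ j := by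
  haveI := finite_hh (isCoh_tw h₁ j) 0
  haveI := finite_hh (isCoh_tw h₂ j) 0
  haveI := finite_hh (isCoh_tw h₃ j) 0
  exact finrank_middle_le (CohLin.overLin k (CohLin.hMap ((twFun n k j).map S.f) 0))
    (CohLin.overLin k (CohLin.hMap ((twFun n k j).map S.g) 0))
    fun x hx => CohLin.exists_hMap_f_eq (shortExact_tw hS j) x hx

end Groth.Agent.NumTriv
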