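import Groth.Agent.NumTriv.AmpleDeg
import Groth.Agent.NumTriv.Proper
import Groth.Agent.NumTriv.Twist
import Groth.Agent.NefPos.Twist
import Groth.Agent.BigVol.FieldPoint
import Groth.Agent.AmpleLib.Functorial
import Groth.Agent.AmpleFam.Pullback
import Groth.Agent.EulerFam.Tau

/-!
# `χ(F ⊗ M) = χ(F)` for numerically trivial `M` over an arbitrary field
-/

universe u

open CategoryTheory CategoryTheory.Limits AlgebraicGeometry

set_option linter.style.haveILetI false

noncomputable section

namespace Groth.Agent.NumTriv.AnyField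

open ProjTwist

variable {k : Type u} [Field k] {X : Scheme.{u}} [X.Over (Spec (CommRingCat.of k))]
  [IsProper (X ↘ Spec (CommRingCat.of k))]

/-- A numerically trivial module is nef. -/
theorem nef_of_num1 {M : X.Modules} (hM : Num1 k M) : NefPos.Nef k X M := by
  intro C _ hC
  haveI := EulerChar.isNoetherian k (X := X)
  rw [hM.2 (ClSub.quotMod C) (EulerChar.isCoh_quotMod k C)
    ((CohDev.dim_mono (EulerChar.support_quotMod_subset C)).trans hC.le), sub_self]

/-- Ample twists of numerically trivial modules. -/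
theorem isAmple_twist_num1 {A M : X.Modules} (hA : CohB1.IsAmple A) (hM : Num1 k M) (m : ℕ) :
    CohB1.IsAmple (CohB1.tensorMod (CohB1.tensorPow M m) A) := by
  rcases Nat.eq_zero_or_pos m with rfl | hm
  · exact Props.AmpleFrames.isAmple_of_iso (oneTens A).symm hA
  · have h1 : CohB1.IsAmple (CohB1.tensorMod (CohB1.tensorPow M m) (CohB1.tensorPow A 1)) :=
      NefPos.isAmple_twist k hA hM.1 (nef_of_num1 hM) one_pos hm
    let P := CohB1.tensorPow M m
    let e₁ : CohB1.tensorPow A 1 ≅ A := oneTens A
    let e₂ : CohB1.tensorMod P (CohB1.tensorPow A 1) ≅ CohB1.tensorMod P A := tensCongr (Iso.refl P) e₁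
    exact Props.AmpleFrames.isAmple_of_iso e₂ h1

/-- The projective case, over any field. -/
theorem euler_tens_eq_proj {n : ℕ} (i : X ⟶ CohB1.ProjSpace n k) [IsClosedImmersion i]
    (_hi : i ≫ CohB1.ProjSpace.toSpec n k = X ↘ Spec (CommRingCat.of k)) {F M : X.Modules}
    (hF : Coh.IsCoh F) (hM : Num1 k M) :
    Curv2.euler k X (CohB1.tensorMod F M) = Curv2.euler k X F := by
  haveI := EulerChar.isNoetherian k (X := X)
  let K := AlgebraicClosure k
  let g := Spec.map (CommRingCat.ofHom (algebraMap k K))
  let Z := pullback (X ↘ Spec (CommRingCat.of k)) g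
  let p : Z ⟶ X := pullback.fst _ _
  letI : Z.Over (Spec (CommRingCat.of K)) := ⟨pullback.snd _ _⟩
  haveI : IsProper (Z ↘ Spec (CommRingCat.of K)) :=
    inferInstanceAs (IsProper (pullback.snd (X ↘ Spec (CommRingCat.of k)) g))
  haveI : IsAffineHom g := isAffineHom_of_isAffine _
  haveI : IsAffineHom p := MorphismProperty.pullback_fst _ _ inferInstance
  haveI := EulerChar.compactSpace K (X := Z)
  let A := oX i 1
  have hA : CohB1.IsAmple A := isAmple_oX_one i
  obtain ⟨M', hM', ⟨e⟩⟩ := PicLaw.exists_inverse hM.1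
  have hM'1 : Num1 k M' := num1_of_inverse k hM hM' (tensComm M' M ≪≫ e)
  let P := Scheme.Modules.pullback p
  have key : ∀ {N : X.Modules}, Num1 k N → ∀ m : ℕ,
      CohB1.IsAmple (CohB1.tensorMod (CohB1.tensorPow (P.obj N) m) (P.obj A)) := fun {N} hN m => by
    obtain ⟨em⟩ := EulerFam.pullback_tensorPow p N m
    exact Props.AmpleFrames.isAmple_of_iso
      (KFlat.PullTensor.pullTensorIso p (CohB1.tensorPow N m) A ≪≫ tensCongr em (Iso.refl _))
      (AmpleLib.isAmple_pullback_of_qaMor p (AmpleFam.Pullback.qaMor_of_isAffineHom p)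
        (isAmple_twist_num1 hA hN m))
  have hMK : Num1 K (P.obj M) := num1_of_ample_translates K (H := P.obj A) (L' := P.obj M')
    (PicCl.isInvertible_pullback p hM.1) (PicCl.isInvertible_pullback p hA.1)
    (PicCl.isInvertible_pullback p hM')
    ((KFlat.PullTensor.pullTensorIso p M M').symm ≪≫ P.mapIso e ≪≫ QCoh.pullbackUnitIso p)
    (key hM) (key hM'1)
  have hFK : Coh.IsCoh (P.obj F) := by
    haveI : IsLocallyNoetherian Z :=
      LocallyOfFiniteType.isLocallyNoetherian (Z ↘ Spec (CommRingCat.of K))
    exact ZClosLib.CohDescent.isCoh_pullback p F hF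
  have h := (EulerChar.euler_iso K (KFlat.PullTensor.pullTensorIso p F M)).trans
    (euler_tens_eq' (k := K) hFK hMK)
  have hsq : IsPullback p (Z ↘ Spec (CommRingCat.of K)) (X ↘ Spec (CommRingCat.of k)) g :=
    IsPullback.of_hasPullback _ g
  have b₁ := BigVol.FieldPoint.euler_baseChange (K := K) (X ↘ Spec (CommRingCat.of k)) p
    (Z ↘ Spec (CommRingCat.of K)) hsq _ (isCoh_tens k hM.1 hF)
  have b₂ := BigVol.FieldPoint.euler_baseChange (K := K) (X ↘ Spec (CommRingCat.of k)) p
    (Z ↘ Spec (CommRingCat.of K)) hsq F hF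
  exact b₁.symm.trans (h.trans b₂)

set_option maxHeartbeats 1000000 in
/-- `χ(F ⊗ M) = χ(F)` on any proper scheme over a field, by induction on dimension. -/
theorem euler_tens_eq_proper : ∀ (e : ℕ) (X : Scheme.{u})
    [X.Over (Spec (CommRingCat.of k))] [IsProper (X ↘ Spec (CommRingCat.of k))],
    ∀ F : X.Modules, Coh.IsCoh F → topologicalKrullDim ↥(CohB1.support F) < (e : WithBot ℕ∞) →
      ∀ M : X.Modules, Num1 k M → Curv2.euler k X (CohB1.tensorMod F M) = Curv2.euler k X F := by
  intro e
  induction e with
  | zero =>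
    intro X _ _ F _ hd M _
    have hF : IsZero F :=
      CohDev.isZero_of_support_eq_empty (EulerChar.support_eq_empty_of_dim_lt hd)
    exact (EulerChar.euler_of_isZero k (M := CohB1.tensorMod F M)
      (((DCoh.tensorBi (X := X)).flip.obj M).map_isZero hF)).trans
      (EulerChar.euler_of_isZero k hF).symm
  | succ e IH =>
    intro X _ _ F hF hd M hM
    haveI := EulerChar.isNoetherian k (X := X)
    refine sub_eq_zero.1 ?_
    rw [← dev_kcl k hM.1 hF]
    have hmem := CohDev.kcl_mem_closure_oz hF
    revert hmem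
    generalize CohDev.kcl F = c
    intro hmem
    induction hmem using AddSubgroup.closure_induction with
    | zero => exact map_zero _
    | add x y _ _ hx hy => rw [map_add, hx, hy, add_zero]
    | neg x _ hx => rw [map_neg, hx, neg_zero]
    | mem c hc =>
      obtain ⟨x, hx, rfl⟩ := hc
      rw [dev_kcl k hM.1 (CohDev.isCoh_oz x), sub_eq_zero]
      let ι := (IntMult.ptIdeal x).subschemeι
      let Z := (IntMult.ptIdeal x).subscheme
      haveI : IsIntegral Z := S16188.isIntegral_subscheme _ isIrreducible_singleton.closure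
      letI : Z.Over (Spec (CommRingCat.of k)) := ⟨ι ≫ (X ↘ Spec (CommRingCat.of k))⟩
      haveI : IsProper (Z ↘ Spec (CommRingCat.of k)) :=
        inferInstanceAs (IsProper (ι ≫ (X ↘ Spec (CommRingCat.of k))))
      haveI := EulerChar.isNoetherian k (X := Z)
      have hMZ : Num1 k ((Scheme.Modules.pullback ι).obj M) := num1_pullback ι rfl hM
      have hdZ : topologicalKrullDim Z ≤ (e : WithBot ℕ∞) := by
        refine le_trans (le_of_eq ?_) ((CohDev.dim_mono (closure_minimal
          (Set.singleton_subset_iff.2 hx) (CohDev.isClosed_support hF))).trans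
            (Snapper.le_of_lt_succ hd))
        rw [← (IntMult.ptIdeal x).range_subschemeι.trans
          (show ((IntMult.ptIdeal x).support : Set X) = closure {x} from rfl)]
        exact IsHomeomorph.topologicalKrullDim_eq _
          (ι.isClosedEmbedding.isEmbedding.toHomeomorph).isHomeomorph
      suffices HZ : Curv2.euler k Z (CohB1.tensorMod (Coh.structureModule Z)
          ((Scheme.Modules.pullback ι).obj M)) = Curv2.euler k Z (Coh.structureModule Z) by
        rw [euler_closed_tens (k := k) ι rfl hM.1 (ProperFin.isCoh_structureModule Z)] at HZ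
        exact HZ.trans (EulerChar.euler_push ι rfl _ (ProperFin.isCoh_structureModule Z).1).symm
      -- Chow's lemma
      obtain ⟨n, Z', π, j₀, hj₀, hje, hπ, -, U, hU, hiso⟩ :=
        S0025.result (Z ↘ Spec (CommRingCat.of k))
      obtain ⟨eP, heP⟩ := ProperFin.exists_iso_projSpaceOver n k
      let j := j₀ ≫ eP.hom
      letI : Z'.Over (Spec (CommRingCat.of k)) := ⟨π ≫ (Z ↘ Spec (CommRingCat.of k))⟩
      haveI : IsProper (Z' ↘ Spec (CommRingCat.of k)) :=
        inferInstanceAs (IsProper (π ≫ (Z ↘ Spec (CommRingCat.of k))))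
      have hj : j ≫ CohB1.ProjSpace.toSpec n k = Z' ↘ Spec (CommRingCat.of k) := by
        rw [Category.assoc, heP]
        exact hje
      haveI := ProjProper.Basic.isProper_toSpec n k
      haveI : IsProper (j ≫ CohB1.ProjSpace.toSpec n k) := by rw [hj]; infer_instance
      haveI : IsProper j := IsProper.of_comp j (CohB1.ProjSpace.toSpec n k)
      haveI : IsClosedImmersion j := .of_isPreimmersion j j.isClosedMap.isClosed_range
      have hO' := ProperFin.isCoh_structureModule Z'
      have htop := euler_tens_eq_proj j hj hO' (num1_pullback π rfl hMZ)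
      obtain ⟨T, hT⟩ := exists_euler_push_tens (k := k) π rfl hO'
      obtain ⟨h1, h2⟩ := hT _ hMZ.1
      rw [h1, h2, ← sub_eq_zero, ← Finset.sum_sub_distrib] at htop
      have hlow : ∀ H : Z.Modules, Coh.IsCoh H →
          topologicalKrullDim ↥(CohB1.support H) < (e : WithBot ℕ∞) →
          Curv2.euler k Z (CohB1.tensorMod H ((Scheme.Modules.pullback ι).obj M)) =
            Curv2.euler k Z H := fun H hH h => IH Z H hH h _ hMZ
      have hUc : topologicalKrullDim ↥((U : Set Z)ᶜ) < (e : WithBot ℕ∞) := by
        refine CohDev.dim_lt_of_irreducible (C := Set.univ) U.2.isClosed_compl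
          (IrreducibleSpace.isIrreducible_univ Z) (Set.subset_univ _) (fun h => ?_) ?_
        · obtain ⟨w, hw⟩ := hU.nonempty
          exact h (Set.mem_univ w) hw
        · exact (IsHomeomorph.topologicalKrullDim_eq _
            (Homeomorph.Set.univ Z).isHomeomorph).trans_le hdZ
      haveI := hiso
      rw [Finset.sum_eq_single 0 (fun q _ hq => ?_) (by simp)] at htop
      swap
      · obtain ⟨q', rfl⟩ : ∃ q', q = q' + 1 := ⟨q - 1, by omega⟩
        have hR := isCoh_rpush (k := k) π rfl hO' (q' + 1)
        haveI := hO'.1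
        haveI : EnoughInjectives Z'.Modules := ModShf.schemeModulesEnoughInjectives _
        let R := CohAff.FRes.ofMod (Coh.structureModule Z')
        haveI : (R.Z 0).IsQuasicoherent := hO'.1
        have hsupp : CohB1.support ((Coh.Rpush π (q' + 1)).obj (Coh.structureModule Z')) ⊆
            (U : Set Z)ᶜ :=
          (CohDev.support_subset_of_mono (R.rpushIsoRc π q').hom).trans
            (ProperFin.support_Rc_subset π R q' U)
        rw [hlow _ hR (lt_of_le_of_lt (CohDev.dim_mono hsupp) hUc), sub_self]
      simp only [pow_zero, one_mul] at htop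
      let P := (Scheme.Modules.pushforward π).obj (Coh.structureModule Z')
      haveI : EnoughInjectives Z'.Modules := ModShf.schemeModulesEnoughInjectives _
      let e0 : (Coh.Rpush π 0).obj (Coh.structureModule Z') ≅ P :=
        (Scheme.Modules.pushforward π).rightDerivedZeroIsoSelf.app _
      rw [EulerChar.euler_iso k (tensCongr e0 (Iso.refl _)), EulerChar.euler_iso k e0] at htop
      have hP : Coh.IsCoh P := CohDev.isCoh_of_iso e0 (isCoh_rpush (k := k) π rfl hO' 0)
      have hOZ := ProperFin.isCoh_structureModule Z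
      let η : Coh.structureModule Z ⟶ P := Props.GenLocus.homOfSec
        (L := (Scheme.Modules.pushforward π).obj (Coh.structureModule Z'))
        (show Γ((Scheme.Modules.pushforward π).obj (Coh.structureModule Z'), ⊤) from
          (1 : Γ(Z', π ⁻¹ᵁ ⊤)))
      have hη := CohDev.kcl_sub_mem_of_map η hOZ hP (T := Set.univ) (U := (U : Set Z))
        (Set.subset_univ _) (Set.subset_univ _) fun y hy =>
          ProjTwist.stalkLin_bijective_of_app η U (fun V hV => NumTriv.unitMap_bijective π U V hV) y hy
      have hz : dev k hMZ.1 (CohDev.kcl (Coh.structureModule Z) - CohDev.kcl P) = 0 := by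
        refine AddSubgroup.closure_induction (p := fun c _ => dev k hMZ.1 c = 0) ?_ (map_zero _)
          (fun a b _ _ ha hb => by rw [map_add, ha, hb, add_zero])
          (fun a _ ha => by rw [map_neg, ha, neg_zero]) hη
        rintro _ ⟨H, hH, hHs, rfl⟩
        rw [dev_kcl k hMZ.1 hH, hlow H hH (lt_of_le_of_lt
          (CohDev.dim_mono (hHs.trans fun z hz => hz.2)) hUc), sub_self]
      rw [map_sub, dev_kcl k hMZ.1 hOZ, dev_kcl k hMZ.1 hP, htop, sub_zero, sub_eq_zero] at hz
      exact hz

/-- `χ(F ⊗ M) = χ(F)` for numerically trivial `M`. -/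
theorem euler_tens_eq' {X : Scheme.{u}} [X.Over (Spec (CommRingCat.of k))]
    [IsProper (X ↘ Spec (CommRingCat.of k))] {F M : X.Modules} (hF : Coh.IsCoh F)
    (hM : Num1 k M) : Curv2.euler k X (CohB1.tensorMod F M) = Curv2.euler k X F := by
  haveI := EulerChar.isNoetherian k (X := X)
  obtain ⟨D, hD⟩ := HilbPolyX.exists_dim_le k X
  exact euler_tens_eq_proper (D + 1) X F hF (lt_of_le_of_lt (EulerChar.dim_support_le hD)
    (by exact_mod_cast Nat.lt_succ_self D)) M hM

end Groth.Agent.NumTriv.AnyField
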