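import Groth.Agent.PicAlg.SectionDim
import Groth.Agent.CycLib.FibreDim

/-!
# Points of codimension at most one in the zero locus of a section
-/

universe u

open CategoryTheory CategoryTheory.Limits AlgebraicGeometry TopologicalSpace

set_option linter.style.haveILetI false

noncomputable section

namespace Groth.Agent.NumTriv.Wall

open Groth.Agent.VarDim Groth.Agent.QCoh Groth.Agent.Props.GenLocus Groth.Agent.PullStalk.Sky
  Groth.Agent.PullStalk.Exact

attribute [local instance] Curv2.resAlgebra secAlgebra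

variable (k : Type u) [Field k] {X : Scheme.{u}} [X.Over (Spec (CommRingCat.of k))]
  [LocallyOfFiniteType (X ↘ Spec (CommRingCat.of k))]

/-- The dimension of the closure of a point. -/
theorem dim_closure (z : X) :
    topologicalKrullDim ↥(closure ({z} : Set X)) = ((dimPt k X z : ℕ) : WithBot ℕ∞) := by
  rw [CycLib.topologicalKrullDim_closure, VarDim.height_eq_dimPt k z]
  rfl

/-- The principal ideal theorem on points, on an affine open, with control of the specialisation. -/
theorem exists_wall {η x : X} (hx : η ⤳ x) {V : X.Opens} (hV : IsAffineOpen V) (hxV : x ∈ V)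
    (g' : Γ(X, V)) (hg : x ∉ X.basicOpen g') :
    ∃ y, η ⤳ y ∧ y ⤳ x ∧ y ∈ V ∧ y ∉ X.basicOpen g' ∧ dimPt k X η ≤ dimPt k X y + 1 := by
  have hηV : η ∈ V := hx.mem_open V.2 hxV
  haveI := finiteType_sections k hV
  have hmem : ∀ y (hy : y ∈ V), y ∉ X.basicOpen g' ↔ g' ∈ (hV.primeIdealOf ⟨y, hy⟩).asIdeal :=
    fun y hy => by
      rw [← evaluation_eq_zero_iff hV y hy, ← X.evaluation_ne_zero_iff_mem_basicOpen y hy g', not_not]
  set Q := hV.primeIdealOf ⟨η, hηV⟩
  set P := hV.primeIdealOf ⟨x, hxV⟩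
  have hQP : Q.asIdeal ≤ P.asIdeal := (primeIdealOf_le_iff hV η x hηV hxV).2 hx
  haveI := finiteType_quotient k Γ(X, V) Q.asIdeal
  haveI : IsNoetherianRing (Γ(X, V) ⧸ Q.asIdeal) := Algebra.FiniteType.isNoetherianRing k _
  have hle : Ideal.span {Ideal.Quotient.mk Q.asIdeal g'} ≤
      P.asIdeal.map (Ideal.Quotient.mk Q.asIdeal) := by
    rw [Ideal.span_le, Set.singleton_subset_iff]
    exact Ideal.mem_map_of_mem _ ((hmem x hxV).1 hg)
  haveI : (P.asIdeal.map (Ideal.Quotient.mk Q.asIdeal)).IsPrime :=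
    Ideal.map_isPrime_of_surjective Ideal.Quotient.mk_surjective (by rwa [Ideal.mk_ker])
  obtain ⟨p, hp, hpP⟩ := Ideal.exists_minimalPrimes_le hle
  haveI := hp.1.1
  have hht : p.height ≤ 1 := Ideal.height_le_one_of_isPrincipal_of_mem_minimalPrimes _ p hp
  obtain ⟨n, hn, hn'⟩ := trdeg_quotient_add_height k (Γ(X, V) ⧸ Q.asIdeal) p
  let R : PrimeSpectrum Γ(X, V) := ⟨p.comap (Ideal.Quotient.mk Q.asIdeal), inferInstance⟩
  obtain ⟨y, hy, hye⟩ := exists_eq_primeIdealOf hV R
  have hQR : Q.asIdeal ≤ R.asIdeal := fun a ha => by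
    show Ideal.Quotient.mk Q.asIdeal a ∈ p
    rw [Ideal.Quotient.eq_zero_iff_mem.2 ha]; exact zero_mem _
  have hgR : g' ∈ R.asIdeal := hp.1.2 (Ideal.subset_span rfl)
  have hRP : R.asIdeal ≤ P.asIdeal := fun a ha => by
    have h1 : Ideal.Quotient.mk Q.asIdeal a ∈ P.asIdeal.map (Ideal.Quotient.mk Q.asIdeal) := hpP ha
    rw [Ideal.mem_quotient_iff_mem_sup, sup_eq_left.2 hQP] at h1
    exact h1
  have hmap : R.asIdeal.map (Ideal.Quotient.mk Q.asIdeal) = p :=
    Ideal.map_comap_of_surjective _ Ideal.Quotient.mk_surjective p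
  rw [← hmap, trdeg_quotient_quotient k Γ(X, V) hQR, trdeg_quotient_primeIdealOf k hV η hηV, ← hye,
    trdeg_quotient_primeIdealOf k hV y hy] at hn'
  refine ⟨y, (primeIdealOf_le_iff hV η y hηV hy).1 (by rw [hye]; exact hQR),
    (primeIdealOf_le_iff hV y x hy hxV).1 (by rw [hye]; exact hRP), hy,
    (hmem y hy).2 (by rw [hye]; exact hgR), ?_⟩
  have h1 : dimPt k X y + n = dimPt k X η := by exact_mod_cast hn'
  have h2 : n ≤ 1 := by rw [hn] at hht; exact_mod_cast hht
  omega

/-- A point outside the locus where a section generates lies below such a point of codimension at most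
one in its variety. -/
theorem exists_wall_section [IsIntegral X] {L : X.Modules} (hL : PicF.IsInvertible L)
    (s : Coh.structureModule X ⟶ L) {x : X} (hx : x ∉ CohB1.genLocus L s) :
    ∃ y, y ⤳ x ∧ y ∉ CohB1.genLocus L s ∧
      dimPt k X (genericPoint X) ≤ dimPt k X y + 1 := by
  obtain ⟨U₀, e₀, hxU₀, he₀⟩ := exists_isGen hL x
  obtain ⟨U, hU, hxU, hle⟩ := exists_isAffineOpen_mem_and_subset (X := X) (U := U₀) hxU₀
  have he := he₀.restrict hle
  obtain ⟨f, hf, -⟩ := he.exists_eq le_rfl (sec s U)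
  rw [res_self] at hf
  have hloc := genLocus_inf he s hf
  have hxf : x ∉ X.basicOpen f := fun h => hx (hloc.ge h).1
  obtain ⟨y, -, hyx, hyU, hyf, hd⟩ := exists_wall k (genericPoint_specializes x) hU hxU f hxf
  exact ⟨y, hyx, fun h => hyf (hloc.le ⟨h, hyU⟩), hd⟩

/-- The cokernel of a section is supported where it does not generate. -/
theorem mem_support_cokernel {L : X.Modules} (hL : PicF.IsInvertible L)
    (s : Coh.structureModule X ⟶ L) [Mono s] {x : X} (hx : x ∉ CohB1.genLocus L s) :
    x ∈ CohB1.support (cokernel s) := fun hsub => by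
  have hsurj : Function.Surjective (stalkLin s x) := fun t => by
    haveI := hsub
    have h0 : stalkLin (cokernel.π s) x t = 0 := Subsingleton.elim _ _
    exact (((PullStalk.Exact.stalk_exact (S := ShortComplex.mk s (cokernel.π s) (cokernel.condition s))
      { exact := ShortComplex.exact_of_g_is_cokernel _ (cokernelIsCokernel _) }) x).2.1 t).mp h0
  obtain ⟨eL⟩ := EulerChar.stalk_ofRank (ProjTwist.isFinLocFreeOfRank_one hL) x
  haveI : Module.Finite (X.presheaf.stalk x) (L.presheaf.stalk x) := Module.Finite.equiv eL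
  have htop : IsLocalRing.maximalIdeal (X.presheaf.stalk x) •
      (⊤ : Submodule (X.presheaf.stalk x) (L.presheaf.stalk x)) = ⊤ :=
    eq_top_iff.2 fun m _ => by
      obtain ⟨t, rfl⟩ := hsurj m
      exact HilbPolyX.stalk_sec_mem s hL hx t
  have hbot := Submodule.eq_bot_of_le_smul_of_le_jacobson_bot _ _ Module.Finite.fg_top htop.ge
    (IsLocalRing.maximalIdeal_le_jacobson _)
  haveI : Subsingleton (L.presheaf.stalk x) :=
    (Submodule.subsingleton_iff _).1 (subsingleton_of_bot_eq_top hbot.symm)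
  haveI : Subsingleton (Fin 1 → X.presheaf.stalk x) := eL.injective.subsingleton
  exact one_ne_zero (congrFun (Subsingleton.elim (1 : Fin 1 → X.presheaf.stalk x) 0) 0)

end Groth.Agent.NumTriv.Wall
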