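import Groth.Agent.NumTriv.Quad
import Groth.Agent.NumTriv.Wall
import Groth.Agent.IntProd70.Positive
import Groth.Agent.S4357

/-!
# Numerical triviality on a hyperplane section in dimension at least three
-/

universe u

open CategoryTheory CategoryTheory.Limits AlgebraicGeometry

set_option linter.style.haveILetI false

noncomputable section

namespace Groth.Agent.NumTriv.Hodge

open ProjTwist OnSet Groth.Agent.VarDim

variable {k : Type u} [Field k] {n : ℕ}

/-- Numerical triviality of a restriction. -/
theorem numOn_range {X : Scheme.{u}} [X.Over (Spec (CommRingCat.of k))]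
    [IsProper (X ↘ Spec (CommRingCat.of k))] {W : Scheme.{u}} [W.Over (Spec (CommRingCat.of k))]
    [IsProper (W ↘ Spec (CommRingCat.of k))] (j : W ⟶ X) [IsClosedImmersion j]
    (hj : j ≫ (X ↘ Spec (CommRingCat.of k)) = W ↘ Spec (CommRingCat.of k)) {M : X.Modules}
    (hMi : PicF.IsInvertible M) (hM : Num1 k ((Scheme.Modules.pullback j).obj M)) :
    NumOn k (Set.range j.base) M := by
  refine numOn_of_curves hMi fun C ι _ hC hC1 hr => ?_
  haveI := hC
  obtain ⟨g, hg⟩ := RedSub.exists_lift j ι hr
  subst hg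
  haveI : IsClosedImmersion g := IsClosedImmersion.of_comp g j
  letI : C.Over (Spec (CommRingCat.of k)) := ⟨(g ≫ j) ≫ (X ↘ Spec (CommRingCat.of k))⟩
  haveI : IsProper (C ↘ Spec (CommRingCat.of k)) :=
    inferInstanceAs (IsProper ((g ≫ j) ≫ (X ↘ Spec (CommRingCat.of k))))
  have hd : topologicalKrullDim C ≤ ((1 : ℕ) : WithBot ℕ∞) := by rw [hC1]; simp
  have hN := num1_pullback (k := k) g (by rw [← hj, ← Category.assoc]; rfl) hM
  let e := (Scheme.Modules.pullbackComp g j).app M
  have hNC : Num1 k ((Scheme.Modules.pullback (g ≫ j)).obj M) :=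
    num1_iso k e (PicCl.isInvertible_pullback _ hMi) hN
  have hO := ProperFin.isCoh_structureModule C
  haveI := EulerChar.isNoetherian k (X := C)
  show FGA.eulerCharLE k C _ 1 - FGA.eulerCharLE k C _ 1 = 0
  rw [Snapper.eulerCharLE_eq k hd, Snapper.eulerCharLE_eq k hd, sub_eq_zero,
    ← EulerChar.euler_iso k (oneTens ((Scheme.Modules.pullback (g ≫ j)).obj M))]
  exact hNC.2 _ hO (EulerChar.dim_support_le hd)

variable {X : Scheme.{u}} [X.Over (Spec (CommRingCat.of k))] [IsProper (X ↘ Spec (CommRingCat.of k))]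
  (i : X ⟶ CohB1.ProjSpace n k) [IsClosedImmersion i]
  (hi : i ≫ CohB1.ProjSpace.toSpec n k = X ↘ Spec (CommRingCat.of k))

omit [X.Over (Spec (CommRingCat.of k))] [IsProper (X ↘ Spec (CommRingCat.of k))]
  [IsClosedImmersion i] in
/-- Restricting a form to a closed subscheme. -/
theorem exists_restrict [IsLocallyNoetherian X] {W : Scheme.{u}} (j : W ⟶ X)
    (σ : oX i (-1) ⟶ Coh.structureModule X) (hσ : Coh.IsCoh (cokernel σ)) :
    ∃ σ' : oX (j ≫ i) (-1) ⟶ Coh.structureModule W,
      CohB1.support (cokernel σ') ⊆ j.base ⁻¹' CohB1.support (cokernel σ) := by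
  haveI : (Scheme.Modules.pullback j).IsLeftAdjoint :=
    (Scheme.Modules.pullbackPushforwardAdjunction j).isLeftAdjoint
  let e₁ := (Scheme.Modules.pullbackComp j i).app (Twist.twistProjSpace n k (-1))
  refine ⟨e₁.inv ≫ (Scheme.Modules.pullback j).map σ ≫ (QCoh.pullbackUnitIso j).hom, ?_⟩
  let e₂ : cokernel (e₁.inv ≫ (Scheme.Modules.pullback j).map σ ≫ (QCoh.pullbackUnitIso j).hom) ≅
      (Scheme.Modules.pullback j).obj (cokernel σ) :=
    cokernelEpiComp e₁.inv _ ≪≫ cokernelCompIsIso ((Scheme.Modules.pullback j).map σ) _ ≪≫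
      (PreservesCokernel.iso (Scheme.Modules.pullback j) σ).symm
  refine (CohDev.support_subset_of_mono e₂.hom).trans ?_
  haveI := hσ.1
  exact (S4357.result j (cokernel σ) hσ.2).le

/-- The form vanishes on the whole scheme if it is zero. -/
theorem univ_subset_of_eq_zero {W : Scheme.{u}} {A : W.Modules}
    {σ : A ⟶ Coh.structureModule W} (h : σ = 0) {S : Set W}
    (hS : CohB1.support (cokernel σ) ⊆ S) (x : W) : x ∈ S := by
  subst h
  refine hS (fun hx => ?_)
  haveI : Subsingleton ((cokernel (0 : A ⟶ Coh.structureModule W)).presheaf.stalk x) := hx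
  have hu : x ∈ CohB1.support (Coh.structureModule W) := fun hs => by
    obtain ⟨e⟩ := EulerChar.stalk_ofRank
      (ProjTwist.isFinLocFreeOfRank_one (LFFrame.isInvertible_structureModule W)) x
    haveI : Subsingleton ((Coh.structureModule W).presheaf.stalk x) := hs
    haveI : Subsingleton (Fin 1 → W.presheaf.stalk x) := e.injective.subsingleton
    exact one_ne_zero (congrFun (Subsingleton.elim (1 : Fin 1 → W.presheaf.stalk x) 0) 0)
  exact CohDev.support_subset_of_mono (cokernelZeroIsoTarget (X := A)).inv hu hx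

omit [IsProper (X ↘ Spec (CommRingCat.of k))] [IsClosedImmersion i] in
theorem dim_ptIdeal (x : X) :
    topologicalKrullDim (IntMult.ptIdeal x).subscheme =
      topologicalKrullDim ↥(closure ({x} : Set X)) := by
  have hr : Set.range (IntMult.ptIdeal x).subschemeι = closure ({x} : Set X) :=
    (IntMult.ptIdeal x).range_subschemeι
  rw [← hr]
  exact IsHomeomorph.topologicalKrullDim_eq _
    ((IntMult.ptIdeal x).subschemeι.isClosedEmbedding.isEmbedding.toHomeomorph).isHomeomorph

include hi in
/-- The index inequality at a point of dimension two. -/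
theorem surf_point [Infinite k] {S : Set X} (σ : oX i (-1) ⟶ Coh.structureModule X)
    (hS : CohB1.support (cokernel σ) ⊆ S) {D : X.Modules} (hD : NumOn k S D) {x : X}
    (hx : topologicalKrullDim ↥(closure ({x} : Set X)) = ((2 : ℕ) : WithBot ℕ∞)) :
    Quad.quad (k := k) hD.1 (CohDev.kcl (Cyc.closureStructureSheaf x)) ≤ 0 ∧
      (Quad.quad (k := k) hD.1 (CohDev.kcl (Cyc.closureStructureSheaf x)) = 0 →
        NumOn k (closure ({x} : Set X)) D) := by
  haveI := EulerChar.isNoetherian k (X := X)
  let ι := (IntMult.ptIdeal x).subschemeι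
  letI : (IntMult.ptIdeal x).subscheme.Over (Spec (CommRingCat.of k)) :=
    ⟨ι ≫ (X ↘ Spec (CommRingCat.of k))⟩
  haveI : IsProper ((IntMult.ptIdeal x).subscheme ↘ Spec (CommRingCat.of k)) :=
    inferInstanceAs (IsProper (ι ≫ (X ↘ Spec (CommRingCat.of k))))
  haveI : IsIntegral (IntMult.ptIdeal x).subscheme :=
    S16188.isIntegral_subscheme _ isIrreducible_singleton.closure
  have hr : Set.range ι = closure ({x} : Set X) := (IntMult.ptIdeal x).range_subschemeι
  have hιi : (ι ≫ i) ≫ CohB1.ProjSpace.toSpec n k =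
      (IntMult.ptIdeal x).subscheme ↘ Spec (CommRingCat.of k) := by
    rw [Category.assoc, hi]; rfl
  have hO := ProperFin.isCoh_structureModule (IntMult.ptIdeal x).subscheme
  have htrans : ∀ {E : X.Modules}, PicF.IsInvertible E →
      Curv2.euler k X (CohB1.tensorMod (Cyc.closureStructureSheaf x) E) =
        Curv2.euler k _ (CohB1.tensorMod (Coh.structureModule (IntMult.ptIdeal x).subscheme)
          ((Scheme.Modules.pullback ι).obj E)) := fun {E} hE =>
    (euler_closed_tens (k := k) ι rfl hE hO).symm
  have hDD := AmpleLib.isInvertible_tensorMod hD.1 hD.1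
  have hq : Quad.quad (k := k) hD.1 (CohDev.kcl (Cyc.closureStructureSheaf x)) =
      Quad.quad (k := k) (PicCl.isInvertible_pullback ι hD.1)
        (CohDev.kcl (Coh.structureModule (IntMult.ptIdeal x).subscheme)) := by
    have hpt : Curv2.euler k _ (CohB1.tensorMod (Coh.structureModule (IntMult.ptIdeal x).subscheme)
        ((Scheme.Modules.pullback ι).obj (CohB1.tensorMod D D))) =
      Curv2.euler k _ (CohB1.tensorMod (Coh.structureModule (IntMult.ptIdeal x).subscheme)
        (CohB1.tensorMod ((Scheme.Modules.pullback ι).obj D) ((Scheme.Modules.pullback ι).obj D))) :=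
      EulerChar.euler_iso k (tensCongr (Iso.refl _) (KFlat.PullTensor.pullTensorIso ι D D))
    rw [Quad.quad_kcl hD.1 (CohDev.isCoh_oz x),
      Quad.quad_kcl (PicCl.isInvertible_pullback ι hD.1) hO, htrans hDD, htrans hD.1, hpt]
    have h0 : Curv2.euler k X (Cyc.closureStructureSheaf x) =
        Curv2.euler k _ (Coh.structureModule (IntMult.ptIdeal x).subscheme) :=
      EulerChar.euler_push ι rfl _ hO.1
    rw [h0]
  have hσc : Coh.IsCoh (cokernel σ) := CohDev.isCoh_cokernel σ
    (ProjTwist.isQCoh_of_isInvertible (isInvertible_oX i (-1))) (ProperFin.isCoh_structureModule X)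
  obtain ⟨σ', hσ'⟩ := exists_restrict i ι σ hσc
  have hS' : CohB1.support (cokernel σ') ⊆ ι.base ⁻¹' S :=
    hσ'.trans (Set.preimage_mono hS)
  by_cases h0 : σ' = 0
  · have hsub : closure ({x} : Set X) ⊆ S := by
      rw [← hr]
      rintro _ ⟨z, rfl⟩
      exact univ_subset_of_eq_zero h0 hS' z
    have h1 : Quad.quad (k := k) hD.1 (CohDev.kcl (Cyc.closureStructureSheaf x)) = 0 := by
      have hDDS := numOn_tens hD hD
      have hs : CohB1.support (Cyc.closureStructureSheaf x) ⊆ S :=
        (CohDev.support_oz_subset x).trans hsub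
      have hc := CohDev.isCoh_oz x
      rw [Quad.quad_kcl hD.1 hc, (uniform_on i hi hc hs).1 _ hD, (uniform_on i hi hc hs).1 _ hDDS]
      ring
    exact ⟨h1.le, fun _ => numOn_mono hsub hD⟩
  · obtain ⟨hle, heq⟩ := Quad.surface (ι ≫ i) hιi σ' h0 hS'
      ((dim_ptIdeal x).trans hx) (numOn_pullback hD ι rfl)
    exact ⟨hq.trans_le hle, fun h => hr ▸ numOn_range ι rfl hD.1 (heq (hq.symm.trans h))⟩

include hi in
/-- A surface with vanishing quadratic term. -/
theorem threefold [Infinite k] {S : Set X} (σ : oX i (-1) ⟶ Coh.structureModule X)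
    (hS : CohB1.support (cokernel σ) ⊆ S) {D : X.Modules} (hD : NumOn k S D) {A : X.Modules}
    (hA : Coh.IsCoh A) (hd : topologicalKrullDim ↥(CohB1.support A) ≤ ((2 : ℕ) : WithBot ℕ∞)) :
    Quad.quad (k := k) hD.1 (CohDev.kcl A) ≤ 0 ∧
      (Quad.quad (k := k) hD.1 (CohDev.kcl A) = 0 → ∀ z ∈ CohB1.support A,
        topologicalKrullDim ↥(closure ({z} : Set X)) = ((2 : ℕ) : WithBot ℕ∞) →
          NumOn k (closure ({z} : Set X)) D) := by
  haveI := EulerChar.isNoetherian k (X := X)
  refine CohDev.devissage_on (CohB1.support A)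
    (fun F => Quad.quad (k := k) hD.1 (CohDev.kcl F) ≤ 0 ∧
      (Quad.quad (k := k) hD.1 (CohDev.kcl F) = 0 → ∀ z ∈ CohB1.support F,
        topologicalKrullDim ↥(closure ({z} : Set X)) = ((2 : ℕ) : WithBot ℕ∞) →
          NumOn k (closure ({z} : Set X)) D)) ?_ ?_ ?_ hA subset_rfl
  · intro F hF
    have he := IntProd70.support_eq_empty_of_isZero hF
    rw [CohDev.kcl_of_isZero hF, map_zero]
    exact ⟨le_rfl, fun _ z hz => absurd hz (by rw [he]; exact id)⟩
  · intro T hT h₁ h₂ h₃ _ p₁ p₃
    rw [CohDev.kcl_add hT h₁ h₂ h₃, map_add]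
    refine ⟨add_nonpos p₁.1 p₃.1, fun h z hz hz2 => ?_⟩
    have q₁ := p₁.1
    have q₃ := p₃.1
    rcases CohDev.support_subset_union hT hz with hz1 | hz3
    · exact p₁.2 (by omega) z hz1 hz2
    · exact p₃.2 (by omega) z hz3 hz2
  · intro x hx J hJ _
    have hJs := hJ.support_subset
    obtain ⟨g, hg, hJc, hxJ⟩ := hJ
    have hsubA : closure ({x} : Set X) ⊆ CohB1.support A :=
      closure_minimal (Set.singleton_subset_iff.2 hx) (CohDev.isClosed_support hA)
    have hdx := (CohDev.dim_mono hsubA).trans hd
    rcases hdx.eq_or_lt with h2 | h1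
    · have hQ : Coh.IsCoh (cokernel g) := CohDev.isCoh_cokernel g hJc.1 (CohDev.isCoh_oz x)
      have hgx : Function.Bijective (PullStalk.Exact.stalkLin g x) := by
        refine ⟨CohDev.stalk_injective g x, ?_⟩
        obtain ⟨t, ht⟩ : ∃ t : J.presheaf.stalk x, t ≠ 0 := by
          by_contra hc
          push Not at hc
          exact hxJ (subsingleton_of_forall_eq 0 hc)
        have hgt : PullStalk.Exact.stalkLin g x t ≠ 0 := fun h =>
          ht (CohDev.stalk_injective g x (h.trans (map_zero _).symm))
        haveI : IsSimpleModule (X.presheaf.stalk x)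
            ((Cyc.closureStructureSheaf x).presheaf.stalk x) :=
          Module.length_eq_one_iff.1 (CohDev.length_stalk_oz x)
        exact LinearMap.surjective_of_ne_zero fun h => hgt (by rw [h]; rfl)
      have hxQ : x ∉ CohB1.support (cokernel g) := CohDev.not_mem_support_cokernel g hgx.2
      have hQd : topologicalKrullDim ↥(CohB1.support (cokernel g)) < ((2 : ℕ) : WithBot ℕ∞) :=
        CohDev.dim_lt_of_irreducible (CohDev.isClosed_support hQ) isIrreducible_singleton.closure
          ((CohDev.support_subset_of_epi (cokernel.π g)).trans (CohDev.support_oz_subset x))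
          (fun h => hxQ (h (subset_closure rfl))) h2.le
      have hK : Quad.quad (k := k) hD.1 (CohDev.kcl (Cyc.closureStructureSheaf x)) =
          Quad.quad (k := k) hD.1 (CohDev.kcl J) := by
        have h := congrArg (Quad.quad (k := k) hD.1)
          (CohDev.kcl_add (HilbPolyX.shortExact_of_mono g) hJc (CohDev.isCoh_oz x) hQ)
        rw [map_add, Quad.quad_eq_zero hD.1 hQ (Snapper.le_of_lt_succ hQd), add_zero] at h
        exact h
      obtain ⟨hle, heq⟩ := surf_point i hi σ hS hD h2
      rw [← hK]
      refine ⟨hle, fun h z hz hz2 => ?_⟩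
      have hzx : z ∈ closure ({x} : Set X) := hJs hz
      have e : x = z := IntProd70.eq_of_top isClosed_closure h2.le hz2 (subset_closure rfl)
        (specializes_iff_mem_closure.2 hzx) |>.symm
      exact e ▸ heq h
    · have hJd : topologicalKrullDim ↥(CohB1.support J) ≤ ((1 : ℕ) : WithBot ℕ∞) :=
        Snapper.le_of_lt_succ ((CohDev.dim_mono hJs).trans_lt h1)
      rw [Quad.quad_eq_zero hD.1 hJc hJd]
      refine ⟨le_rfl, fun _ z hz hz2 => absurd hz2 (ne_of_lt ?_)⟩
      exact (CohDev.dim_mono (closure_minimal (Set.singleton_subset_iff.2 (hJs hz))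
        isClosed_closure)).trans_lt h1

/-- Numerical triviality on an integral scheme of dimension at least three. -/
theorem num1_of_three_le [Infinite k] : ∀ (e : ℕ) {X : Scheme.{u}} [X.Over (Spec (CommRingCat.of k))]
    [IsProper (X ↘ Spec (CommRingCat.of k))] [IsIntegral X] (i : X ⟶ CohB1.ProjSpace n k)
    [IsClosedImmersion i] (_ : i ≫ CohB1.ProjSpace.toSpec n k = X ↘ Spec (CommRingCat.of k))
    (_ : topologicalKrullDim X = (e : WithBot ℕ∞)) (_ : 3 ≤ e)
    (σ : oX i (-1) ⟶ Coh.structureModule X) {S : Set X} (_ : CohB1.support (cokernel σ) ⊆ S)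
    {D : X.Modules} (_ : NumOn k S D), Num1 k D := by
  intro e
  induction e using Nat.strong_induction_on with
  | _ e IH =>
  intro X _ _ _ i _ hi he he3 σ S hS D hD
  haveI := EulerChar.isNoetherian k (X := X)
  by_cases hσ : σ = 0
  · exact ⟨hD.1, fun F hF hd =>
      hD.2 F hF (fun z _ => univ_subset_of_eq_zero hσ hS z) hd⟩
  have hη : dimPt k X (genericPoint X) = e := by
    have h := (VarDim.topologicalKrullDim_eq_of_irreducible k (X := X)).symm.trans he
    exact_mod_cast h
  refine ⟨hD.1, fun F hF hdF => sub_eq_zero.1 ?_⟩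
  rw [← dev_kcl k hD.1 hF]
  have hmem := CohDev.kcl_mem_closure_oz hF
  revert hmem
  generalize CohDev.kcl F = c
  intro hmem
  induction hmem using AddSubgroup.closure_induction with
  | zero => exact map_zero _
  | add x y _ _ hx hy => rw [map_add, hx, hy, add_zero]
  | neg x _ hx => rw [map_neg, hx, neg_zero]
  | mem c hc =>
    obtain ⟨y, hy, rfl⟩ := hc
    rw [dev_kcl k hD.1 (CohDev.isCoh_oz y), sub_eq_zero]
    have hdy : topologicalKrullDim ↥(CohB1.support (Cyc.closureStructureSheaf y)) ≤
        ((1 : ℕ) : WithBot ℕ∞) :=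
      ((CohDev.dim_mono ((CohDev.support_oz_subset y).trans
        (closure_minimal (Set.singleton_subset_iff.2 hy) (CohDev.isClosed_support hF)))).trans hdF)
    suffices H : ∃ S', y ∈ S' ∧ IsClosed S' ∧ NumOn k S' D by
      obtain ⟨S', hyS, hcl, hN⟩ := H
      exact hN.2 _ (CohDev.isCoh_oz y) ((CohDev.support_oz_subset y).trans
        (closure_minimal (Set.singleton_subset_iff.2 hyS) hcl)) hdy
    have hyη : genericPoint X ∉ closure ({y} : Set X) := fun h => by
      have h1 : closure ({y} : Set X) = Set.univ :=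
        Set.eq_univ_of_forall fun z => (genericPoint_specializes z).mem_closed isClosed_closure h
      have h2 := (CohDev.dim_mono (closure_minimal (Set.singleton_subset_iff.2 hy)
        (CohDev.isClosed_support hF))).trans hdF
      rw [h1, IsHomeomorph.topologicalKrullDim_eq _ (Homeomorph.Set.univ X).isHomeomorph, he] at h2
      have : e ≤ 1 := by exact_mod_cast h2
      omega
    obtain ⟨c, s, hηs, hsO, -⟩ := Props.AmpleBase.exists_affine_genLocus_le (isAmple_oX_one i)
      (show genericPoint X ∈ (⟨(closure {y})ᶜ, isClosed_closure.isOpen_compl⟩ : X.Opens) from hyη)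
    have hT : PicF.IsInvertible (CohB1.tensorPow (oX i 1) (c + 1)) :=
      AmpleLib.isInvertible_tensorPow (isInvertible_oX i 1) _
    have hys : y ∉ CohB1.genLocus _ s := fun h => hsO h (subset_closure rfl)
    obtain ⟨z, hzy, hzs, hdz⟩ := Wall.exists_wall_section k hT s hys
    rw [hη] at hdz
    have hzlt : dimPt k X z < e := by
      rw [← hη]
      refine VarDim.strictMono_dimPt k (lt_of_le_not_ge (genericPoint_specializes z : z ≤ genericPoint X)
        fun h => hzs ?_)
      have hzη : z = genericPoint X := (Specializes.antisymm (h : z ⤳ genericPoint X)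
        (genericPoint_specializes z)).eq
      rw [hzη]
      exact hηs
    have hzd := Wall.dim_closure k z
    rw [show dimPt k X z = e - 1 by omega] at hzd
    refine ⟨closure {z}, specializes_iff_mem_closure.1 hzy, isClosed_closure, ?_⟩
    rcases he3.eq_or_lt with h3 | h4
    · subst h3
      have hs0 : s ≠ 0 := fun h => by
        subst h
        obtain ⟨U, e₀, hU, he₀⟩ := Props.GenLocus.exists_isGen hT (genericPoint X)
        have hb := Props.GenLocus.genLocus_inf he₀ (0 : Coh.structureModule X ⟶ _) (f := 0)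
          ((show Props.GenLocus.sec (0 : Coh.structureModule X ⟶ CohB1.tensorPow (oX i 1) (c + 1)) U = 0
            from rfl).trans (zero_smul _ e₀).symm)
        rw [Scheme.basicOpen_zero] at hb
        exact (hb.le ⟨hηs, hU⟩ : _)
      haveI : Mono s := EulerChar.mono_of_ne_zero (LFFrame.isInvertible_structureModule X) hT s hs0
      have hQ : Coh.IsCoh (cokernel s) := CohDev.isCoh_cokernel s
        (ProjTwist.isQCoh_of_isInvertible (LFFrame.isInvertible_structureModule X))
        (CohDev.isCoh_of_iso (oneTens _) (isCoh_tens k hT (ProperFin.isCoh_structureModule X)))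
      have hconst : ∀ M : X.Modules, NumOn k S M →
          Curv2.euler k X (CohB1.tensorMod (cokernel s) M) = Curv2.euler k X (cokernel s) := by
        intro M hM
        obtain ⟨eT⟩ := nonempty_oX_pow i (c + 1)
        have hO := ProperFin.isCoh_structureModule X
        have hTc := isCoh_tens k hT hO
        let eT' : CohB1.tensorPow (oX i 1) (c + 1) ≅
            Pic13.twistOn k i (Coh.structureModule X) ((c + 1 : ℕ) : ℤ) :=
          eT ≪≫ (oneTens _).symm
        have hsh := HilbPolyX.shortExact_of_mono s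
        have hTc' : Coh.IsCoh (CohB1.tensorPow (oX i 1) (c + 1)) :=
          CohDev.isCoh_of_iso (oneTens _) hTc
        have h1 := EulerChar.euler_add k hsh hO hTc' hQ
        have h2 := EulerChar.euler_add k (ProjTwist.shortExact_tensor hM.1 hsh)
          (isCoh_tens k hM.1 hO) (isCoh_tens k hM.1 hTc') (isCoh_tens k hM.1 hQ)
        have h3 := IdealBound.euler_twist_const i hi σ hσ hS (𝟙 (Coh.structureModule X)) hO hM
          ((c + 1 : ℕ) : ℤ)
        rw [← EulerChar.euler_iso k eT', ← EulerChar.euler_iso k (tensCongr eT' (Iso.refl M))] at h3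
        dsimp only [Functor.flip_obj_obj, ShortComplex.map_X₁, ShortComplex.map_X₂,
          ShortComplex.map_X₃] at h1 h2
        change Curv2.euler k X (CohB1.tensorMod (CohB1.tensorPow (oX i 1) (c + 1)) M) =
          Curv2.euler k X (CohB1.tensorMod (Coh.structureModule X) M) +
            Curv2.euler k X (CohB1.tensorMod (cokernel s) M) at h2
        omega
      have hq0 : Quad.quad (k := k) hD.1 (CohDev.kcl (cokernel s)) = 0 := by
        rw [Quad.quad_kcl hD.1 hQ, hconst _ (numOn_tens hD hD), hconst _ hD]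
        ring
      have hQη : genericPoint X ∉ CohB1.support (cokernel s) := CohDev.not_mem_support_cokernel s
        (EulerChar.bijective_stalk_generic (LFFrame.isInvertible_structureModule X) hT s hs0).2
      have hQd : topologicalKrullDim ↥(CohB1.support (cokernel s)) ≤ ((2 : ℕ) : WithBot ℕ∞) :=
        Snapper.le_of_lt_succ (CohDev.dim_lt_of_irreducible (C := Set.univ) (CohDev.isClosed_support hQ)
          (IrreducibleSpace.isIrreducible_univ X) (Set.subset_univ _) (fun h => hQη (h (Set.mem_univ _)))
          ((IsHomeomorph.topologicalKrullDim_eq _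
            (Homeomorph.Set.univ X).isHomeomorph).trans_le he.le))
      exact (threefold i hi σ hS hD hQ hQd).2 hq0 z (Wall.mem_support_cokernel hT s hzs) hzd
    · let ι := (IntMult.ptIdeal z).subschemeι
      letI : (IntMult.ptIdeal z).subscheme.Over (Spec (CommRingCat.of k)) :=
        ⟨ι ≫ (X ↘ Spec (CommRingCat.of k))⟩
      haveI : IsProper ((IntMult.ptIdeal z).subscheme ↘ Spec (CommRingCat.of k)) :=
        inferInstanceAs (IsProper (ι ≫ (X ↘ Spec (CommRingCat.of k))))
      haveI : IsIntegral (IntMult.ptIdeal z).subscheme :=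
        S16188.isIntegral_subscheme _ isIrreducible_singleton.closure
      have hr : Set.range ι = closure ({z} : Set X) := (IntMult.ptIdeal z).range_subschemeι
      have hιi : (ι ≫ i) ≫ CohB1.ProjSpace.toSpec n k =
          (IntMult.ptIdeal z).subscheme ↘ Spec (CommRingCat.of k) := by
        rw [Category.assoc, hi]; rfl
      have hσc : Coh.IsCoh (cokernel σ) := CohDev.isCoh_cokernel σ
        (ProjTwist.isQCoh_of_isInvertible (isInvertible_oX i (-1)))
        (ProperFin.isCoh_structureModule X)
      obtain ⟨σ', hσ'⟩ := exists_restrict i ι σ hσc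
      exact hr ▸ numOn_range ι rfl hD.1 (IH (e - 1) (by omega) (ι ≫ i) hιi
        ((dim_ptIdeal z).trans hzd) (by omega) σ' (hσ'.trans (Set.preimage_mono hS))
        (numOn_pullback hD ι rfl))

include hi in
/-- Numerical triviality along a hyperplane section, when curves lie in components of dimension at
least three or in the section. -/
theorem num1_of_numOn [Infinite k] {S : Set X} (hScl : IsClosed S)
    (σ : oX i (-1) ⟶ Coh.structureModule X) (hS : CohB1.support (cokernel σ) ⊆ S)
    {D : X.Modules} (hD : NumOn k S D)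
    (hbig : ∀ y : X, topologicalKrullDim ↥(closure ({y} : Set X)) = ((1 : ℕ) : WithBot ℕ∞) →
      ∃ x, x ⤳ y ∧ (x ∈ S ∨ 3 ≤ dimPt k X x)) : Num1 k D := by
  haveI := EulerChar.isNoetherian k (X := X)
  refine ⟨hD.1, fun F hF hdF => sub_eq_zero.1 ?_⟩
  rw [← dev_kcl k hD.1 hF]
  have hmem := CohDev.kcl_mem_closure_oz hF
  revert hmem
  generalize CohDev.kcl F = c
  intro hmem
  induction hmem using AddSubgroup.closure_induction with
  | zero => exact map_zero _
  | add x y _ _ hx hy => rw [map_add, hx, hy, add_zero]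
  | neg x _ hx => rw [map_neg, hx, neg_zero]
  | mem c hc =>
    obtain ⟨y, hy, rfl⟩ := hc
    rw [dev_kcl k hD.1 (CohDev.isCoh_oz y), sub_eq_zero]
    have hdy : topologicalKrullDim ↥(closure ({y} : Set X)) ≤ ((1 : ℕ) : WithBot ℕ∞) :=
      (CohDev.dim_mono (closure_minimal (Set.singleton_subset_iff.2 hy)
        (CohDev.isClosed_support hF))).trans hdF
    have hdy' := (CohDev.dim_mono (CohDev.support_oz_subset y)).trans hdy
    rcases hdy.eq_or_lt with h1 | h0
    swap
    · exact euler_tens_dim_zero k hD.1 (CohDev.isCoh_oz y)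
        (Snapper.le_of_lt_succ ((CohDev.dim_mono (CohDev.support_oz_subset y)).trans_lt h0))
    obtain ⟨x, hxy, hx⟩ := hbig y h1
    suffices H : NumOn k (closure ({x} : Set X)) D from
      H.2 _ (CohDev.isCoh_oz y)
        ((CohDev.support_oz_subset y).trans hxy.closure_subset) hdy'
    rcases hx with hxS | hx3
    · exact numOn_mono (closure_minimal (Set.singleton_subset_iff.2 hxS) hScl) hD
    let ι := (IntMult.ptIdeal x).subschemeι
    letI : (IntMult.ptIdeal x).subscheme.Over (Spec (CommRingCat.of k)) :=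
      ⟨ι ≫ (X ↘ Spec (CommRingCat.of k))⟩
    haveI : IsProper ((IntMult.ptIdeal x).subscheme ↘ Spec (CommRingCat.of k)) :=
      inferInstanceAs (IsProper (ι ≫ (X ↘ Spec (CommRingCat.of k))))
    haveI : IsIntegral (IntMult.ptIdeal x).subscheme :=
      S16188.isIntegral_subscheme _ isIrreducible_singleton.closure
    have hr : Set.range ι = closure ({x} : Set X) := (IntMult.ptIdeal x).range_subschemeι
    have hιi : (ι ≫ i) ≫ CohB1.ProjSpace.toSpec n k =
        (IntMult.ptIdeal x).subscheme ↘ Spec (CommRingCat.of k) := by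
      rw [Category.assoc, hi]; rfl
    have hσc : Coh.IsCoh (cokernel σ) := CohDev.isCoh_cokernel σ
      (ProjTwist.isQCoh_of_isInvertible (isInvertible_oX i (-1)))
      (ProperFin.isCoh_structureModule X)
    obtain ⟨σ', hσ'⟩ := exists_restrict i ι σ hσc
    exact hr ▸ numOn_range ι rfl hD.1 (num1_of_three_le (dimPt k X x) (ι ≫ i) hιi
      ((dim_ptIdeal x).trans (Wall.dim_closure k x)) hx3 σ' (hσ'.trans (Set.preimage_mono hS))
      (numOn_pullback hD ι rfl))

end Groth.Agent.NumTriv.Hodge
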