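import Groth.Agent.NumTriv.Class
import Groth.Agent.AmpCrit.SerreVan
import Groth.Agent.AmpleLib.GenIso

/-!
# Degrees of ample modules on supports of dimension at most one
-/

universe u

open CategoryTheory CategoryTheory.Limits AlgebraicGeometry TopologicalSpace

set_option linter.style.haveILetI false

noncomputable section

namespace Groth.Agent.NumTriv

open ProjTwist

variable (k : Type u) [Field k] {X : Scheme.{u}} [X.Over (Spec (CommRingCat.of k))]
  [IsProper (X ↘ Spec (CommRingCat.of k))]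

/-- Invertible modules act trivially on `χ` of modules with finite support. -/
theorem euler_tens_dim_zero {M G : X.Modules} (hM : PicF.IsInvertible M) (hG : Coh.IsCoh G)
    (hd : topologicalKrullDim ↥(CohB1.support G) ≤ ((0 : ℕ) : WithBot ℕ∞)) :
    Curv2.euler k X (CohB1.tensorMod G M) = Curv2.euler k X G := by
  have hc := Snapper.kcl_tens_sub_small k hM hG hd
  have h1 := congrArg (Snapper.chiT k (LFFrame.isInvertible_structureModule X))
    (eq_zero_of_smallK_zero hc)
  rw [map_zero, map_sub, Snapper.chiT_kcl k _ (Snapper.isCoh_tensorMod k hM hG),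
    Snapper.chiT_kcl k _ hG, sub_eq_zero] at h1
  rwa [EulerChar.euler_iso k (tensComm _ _ ≪≫ tensOne (CohB1.tensorMod M G)),
    EulerChar.euler_iso k (tensComm _ _ ≪≫ tensOne G),
    EulerChar.euler_iso k (tensComm M G)] at h1

/-- The deviation `χ(F ⊗ A) - χ(F)`. -/
def deg1 (F A : X.Modules) : ℤ := Curv2.euler k X (CohB1.tensorMod F A) - Curv2.euler k X F

theorem deg1_iso (F : X.Modules) {A B : X.Modules} (e : A ≅ B) : deg1 k F A = deg1 k F B := by
  rw [deg1, deg1, EulerChar.euler_iso k (tensCongr (Iso.refl F) e)]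

theorem deg1_one (F : X.Modules) : deg1 k F (Coh.structureModule X) = 0 := by
  rw [deg1, EulerChar.euler_iso k (tensOne F), sub_self]

/-- Additivity in dimension at most one. -/
theorem deg1_tens {F A B : X.Modules} (hF : Coh.IsCoh F)
    (hd : topologicalKrullDim ↥(CohB1.support F) ≤ ((1 : ℕ) : WithBot ℕ∞))
    (hA : PicF.IsInvertible A) (hB : PicF.IsInvertible B) :
    deg1 k F (CohB1.tensorMod A B) = deg1 k F A + deg1 k F B := by
  have h := dev_tens_left k hB hA hF hd fun G hG hG1 =>
    euler_tens_dim_zero k hB hG (Snapper.le_of_lt_succ hG1)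
  rw [EulerChar.euler_iso k (tensAssoc F A B)] at h
  simp only [deg1]
  omega

theorem deg1_pow {F A : X.Modules} (hF : Coh.IsCoh F)
    (hd : topologicalKrullDim ↥(CohB1.support F) ≤ ((1 : ℕ) : WithBot ℕ∞))
    (hA : PicF.IsInvertible A) : ∀ j : ℕ, deg1 k F (CohB1.tensorPow A j) = j * deg1 k F A
  | 0 => by
    show deg1 k F (Coh.structureModule X) = _
    rw [deg1_one, Nat.cast_zero, zero_mul]
  | j + 1 => by
    show deg1 k F (CohB1.tensorMod (CohB1.tensorPow A j) A) = _
    rw [deg1_tens k hF hd (AmpleLib.isInvertible_tensorPow hA j) hA, deg1_pow hF hd hA j]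
    push_cast
    ring

/-- Ample modules have nonnegative degree. -/
theorem deg1_nonneg {F A : X.Modules} (hF : Coh.IsCoh F)
    (hd : topologicalKrullDim ↥(CohB1.support F) ≤ ((1 : ℕ) : WithBot ℕ∞))
    (hA : CohB1.IsAmple A) : 0 ≤ deg1 k F A := by
  by_contra hlt
  push Not at hlt
  obtain ⟨n₀, hn₀⟩ := AmpCrit.SerreVan.serre_vanishing (X ↘ Spec (CommRingCat.of k)) hA F hF
  let j := max n₀ ((Curv2.euler k X F).toNat + 1)
  have hv : 0 ≤ Curv2.euler k X (CohB1.tensorMod F (CohB1.tensorPow A j)) := by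
    rw [Curv2.euler, finsum_eq_single _ 0 fun p hp => ?_]
    · rw [pow_zero, one_mul]
      exact Int.natCast_nonneg _
    · rw [@Module.finrank_zero_of_subsingleton _ _ _ _ _ _
        (hn₀ j (le_max_left _ _) p (Nat.pos_of_ne_zero hp)), Nat.cast_zero, mul_zero]
  have h := deg1_pow k hF hd hA.1 j
  rw [deg1] at h
  have hj : Curv2.euler k X F + 1 ≤ (j : ℤ) :=
    le_trans (by omega) (Int.ofNat_le.2 (le_max_right n₀ ((Curv2.euler k X F).toNat + 1)))
  nlinarith

/-- If all `L^m ⊗ H`, `m : ℤ`, are ample, then `L` has degree zero in dimension at most one. -/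
theorem num1_of_ample_translates {H L L' : X.Modules} (hL : PicF.IsInvertible L)
    (hH : PicF.IsInvertible H) (hL' : PicF.IsInvertible L')
    (e : CohB1.tensorMod L L' ≅ Coh.structureModule X)
    (h₁ : ∀ m : ℕ, CohB1.IsAmple (CohB1.tensorMod (CohB1.tensorPow L m) H))
    (h₂ : ∀ m : ℕ, CohB1.IsAmple (CohB1.tensorMod (CohB1.tensorPow L' m) H)) : Num1 k L := by
  refine ⟨hL, fun F hF hd => sub_eq_zero.1 ?_⟩
  change deg1 k F L = 0
  have he : deg1 k F L + deg1 k F L' = 0 := by
    rw [← deg1_tens k hF hd hL hL', deg1_iso k F e, deg1_one]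
  have hb : ∀ {M : X.Modules}, PicF.IsInvertible M →
      (∀ m : ℕ, CohB1.IsAmple (CohB1.tensorMod (CohB1.tensorPow M m) H)) → 0 ≤ deg1 k F M := by
    intro M hM h
    by_contra hlt
    push Not at hlt
    let m := (deg1 k F H).toNat + 1
    have h0 := deg1_nonneg k hF hd (h m)
    rw [deg1_tens k hF hd (AmpleLib.isInvertible_tensorPow hM m) hH, deg1_pow k hF hd hM m] at h0
    have hm : deg1 k F H + 1 ≤ (m : ℤ) := by simp only [m]; omega
    nlinarith
  have := hb hL h₁
  have := hb hL' h₂
  omega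

end Groth.Agent.NumTriv
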