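import Groth.Agent.NumTriv.Proper
import Groth.Agent.GenFinite.Basic
import Groth.Agent.NumTriv.AmpleDeg
import Mathlib.AlgebraicGeometry.FunctionField

/-!
# Numerical triviality descends along surjective morphisms
-/

universe u

open CategoryTheory CategoryTheory.Limits AlgebraicGeometry TopologicalSpace

set_option linter.style.haveILetI false

noncomputable section

namespace Groth.Agent.NumTriv.Descend

open ProjTwist PullStalk.Exact PullStalk.Sky

variable {k : Type u} [Field k]

/-- Higher direct images vanish where the morphism is affine. -/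
theorem support_Rc_subset_of_affine {X Y : Scheme.{u}} (f : X ⟶ Y) [IsSeparated f] [QuasiCompact f]
    (R : CohAff.FRes X) [(R.Z 0).IsQuasicoherent] (i : ℕ) (U : Y.Opens) [IsAffineHom (f ∣_ U)] :
    CohB1.support (R.Rc f i) ⊆ (U : Set Y)ᶜ := by
  intro y hy hyU
  refine hy (subsingleton_of_forall_eq 0 fun t => ?_)
  obtain ⟨W, hyW, w, rfl⟩ := exists_germM_eq _ y t
  obtain ⟨_, ⟨V, hV, rfl⟩, hyV, hVW⟩ :=
    Y.isBasis_affineOpens.exists_subset_of_mem_open (show y ∈ W ⊓ U from ⟨hyW, hyU⟩) (W ⊓ U).2
  have hVW' : V ≤ W := fun z hz => (hVW hz).1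
  have hVU : V ≤ U := fun z hz => (hVW hz).2
  have haff : IsAffineOpen (f ⁻¹ᵁ V) := by
    have h1 : IsAffineOpen (U.ι ⁻¹ᵁ V) :=
      hV.preimage_of_isOpenImmersion U.ι (by rwa [Scheme.Opens.opensRange_ι])
    have h2 := (h1.preimage (f ∣_ U)).image_of_isOpenImmersion (f ⁻¹ᵁ U).ι
    have e : (f ⁻¹ᵁ U).ι ''ᵁ ((f ∣_ U) ⁻¹ᵁ (U.ι ⁻¹ᵁ V)) = f ⁻¹ᵁ V := by
      rw [image_morphismRestrict_preimage, Scheme.Hom.image_preimage_eq_opensRange_inf,
        Scheme.Opens.opensRange_ι, inf_eq_right.mpr hVU]
    rwa [e] at h2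
  obtain ⟨x, hx⟩ := R.π'_surjective f hV i (QCoh.res (R.Rc f i) hVW' w)
  have h0 : R.π' f i V x = 0 := R.π'_eq_zero_of_ex f i
    (CohAff.FRes.van_succ_of_isAffineOpen (R := R) haff i x)
  refine ((R.Rc f i).presheaf.germ_res_apply (homOfLE hVW') y hyV w).symm.trans ?_
  exact (congrArg ((R.Rc f i).presheaf.germ V y hyV) (hx.symm.trans h0)).trans (map_zero _)

/-- The rank of a module at the generic point. -/
def rkGen {C : Scheme.{u}} [IsIntegral C] (F : C.Modules) : ℕ :=
  (Module.length (C.presheaf.stalk (genericPoint C)) (F.presheaf.stalk (genericPoint C))).toNat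

theorem length_ne_top {C : Scheme.{u}} [IsIntegral C] [IsLocallyNoetherian C] {F : C.Modules}
    (hF : Coh.IsCoh F) :
    Module.length (C.presheaf.stalk (genericPoint C)) (F.presheaf.stalk (genericPoint C)) ≠ ⊤ := by
  haveI := FDesc.QuasiFlat.finite_stalk_of_isCoh F hF (genericPoint C)
  letI : Field (C.presheaf.stalk (genericPoint C)) := inferInstanceAs (Field C.functionField)
  haveI : IsFiniteLength (C.presheaf.stalk (genericPoint C)) (F.presheaf.stalk (genericPoint C)) :=
    isFiniteLength_iff_isNoetherian_isArtinian.2 ⟨inferInstance, inferInstance⟩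
  exact Module.length_ne_top_iff.2 ‹_›

theorem rkGen_add {C : Scheme.{u}} [IsIntegral C] [IsLocallyNoetherian C]
    {S : ShortComplex C.Modules} (hS : S.ShortExact) (h₁ : Coh.IsCoh S.X₁) (h₃ : Coh.IsCoh S.X₃) :
    (rkGen S.X₂ : ℤ) = rkGen S.X₁ + rkGen S.X₃ := by
  obtain ⟨hi, he, hs⟩ := stalk_exact hS (genericPoint C)
  rw [rkGen, Module.length_eq_add_of_exact _ _ hi hs he, ENat.toNat_add (length_ne_top h₁)
    (length_ne_top h₃)]
  push_cast
  rfl

set_option maxHeartbeats 800000 in
/-- Preservation of Euler characteristics descends to curves dominated through a proper morphism. -/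
theorem euler_tens_curve [Infinite k] {C Z : Scheme.{u}} [C.Over (Spec (CommRingCat.of k))]
    [Z.Over (Spec (CommRingCat.of k))] [IsProper (C ↘ Spec (CommRingCat.of k))]
    [IsProper (Z ↘ Spec (CommRingCat.of k))] [IsIntegral C]
    (hdimC : topologicalKrullDim C ≤ ((1 : ℕ) : WithBot ℕ∞)) (g : Z ⟶ C)
    (hg : g ≫ (C ↘ Spec (CommRingCat.of k)) = Z ↘ Spec (CommRingCat.of k)) [Surjective g]
    (hfin : (g.base ⁻¹' {genericPoint C}).Finite) {L : C.Modules} (hL : PicF.IsInvertible L)
    (hLZ : Num1 k ((Scheme.Modules.pullback g).obj L)) {F : C.Modules} (hF : Coh.IsCoh F) :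
    Curv2.euler k C (CohB1.tensorMod F L) = Curv2.euler k C F := by
  haveI := EulerChar.isNoetherian k (X := C)
  haveI := EulerChar.isNoetherian k (X := Z)
  haveI := isProper_of_over (k := k) g hg
  let η := genericPoint C
  have hη : closure ({η} : Set C) = Set.univ := genericPoint_spec C
  have hcomp : closure {η} ∈ irreducibleComponents C := by
    rw [hη, irreducibleComponents_eq_singleton]
    rfl
  obtain ⟨V, -, hηV, hfinV⟩ := GenFinite.exists_affine_isFinite_of_isSeparated g hcomp hfin
  haveI := hfinV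
  have hsmall : ∀ H : C.Modules, Coh.IsCoh H → η ∉ CohB1.support H →
      Curv2.euler k C (CohB1.tensorMod H L) = Curv2.euler k C H := fun H hH hη' => by
    refine euler_tens_dim_zero k hL hH (Snapper.le_of_lt_succ ?_)
    refine CohDev.dim_lt_of_irreducible (C := Set.univ) (CohDev.isClosed_support hH)
      (IrreducibleSpace.isIrreducible_univ C) (Set.subset_univ _) (fun h => hη' (h (Set.mem_univ _))) ?_
    exact (IsHomeomorph.topologicalKrullDim_eq _
      (Homeomorph.Set.univ C).isHomeomorph).trans_le hdimC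
  -- `χ(- ⊗ L) - χ` is the rank times a constant
  let rk : SGA6.Kcoh C →+ ℤ := EulerChar.liftK (fun H => (rkGen H : ℤ))
    fun S hS h₁ _ h₃ => rkGen_add hS h₁ h₃
  have hrk : ∀ H : C.Modules, Coh.IsCoh H → rk (CohDev.kcl H) = rkGen H := fun H hH =>
    EulerChar.liftK_kcl _ _ hH
  have hgen : ∀ H : C.Modules, Coh.IsCoh H → dev k hL (CohDev.kcl H) =
      rkGen H * dev k hL (CohDev.kcl (Cyc.closureStructureSheaf η)) := fun H hH => by
    rw [← hrk H hH]
    have hmem := CohDev.kcl_mem_closure_oz hH
    revert hmem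
    generalize CohDev.kcl H = c
    intro hmem
    induction hmem using AddSubgroup.closure_induction with
    | zero => simp
    | add x y _ _ hx hy => rw [map_add, map_add, hx, hy, add_mul]
    | neg x _ hx => rw [map_neg, map_neg, hx, neg_mul]
    | mem c hc =>
      obtain ⟨x, -, rfl⟩ := hc
      rw [hrk _ (CohDev.isCoh_oz x)]
      by_cases hx : x = η
      · subst hx
        rw [rkGen, CohDev.length_stalk_oz]
        simp
      · have h1 : η ∉ CohB1.support (Cyc.closureStructureSheaf x) := fun h => hx <| by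
          have h2 : η ⤳ x := specializes_iff_mem_closure.2 (by rw [hη]; trivial)
          exact (((specializes_iff_mem_closure.2 (CohDev.support_oz_subset x h)).antisymm h2)).eq
        haveI : Subsingleton ((Cyc.closureStructureSheaf x).presheaf.stalk η) := not_not.1 h1
        rw [dev_kcl k hL (CohDev.isCoh_oz x), hsmall _ (CohDev.isCoh_oz x) h1, sub_self,
          rkGen, Module.length_eq_zero]
        simp
  -- the direct image
  have hO := ProperFin.isCoh_structureModule Z
  obtain ⟨T, hT⟩ := exists_euler_push_tens (k := k) g hg hO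
  obtain ⟨h1, h2⟩ := hT L hL
  have htop := euler_tens_eq' hO hLZ
  rw [h1, h2, ← sub_eq_zero, ← Finset.sum_sub_distrib] at htop
  rw [Finset.sum_eq_single 0 (fun q _ hq => ?_) (by simp)] at htop
  swap
  · obtain ⟨q', rfl⟩ : ∃ q', q = q' + 1 := ⟨q - 1, by omega⟩
    have hR := isCoh_rpush (k := k) g hg hO (q' + 1)
    haveI := hO.1
    haveI : EnoughInjectives Z.Modules := ModShf.schemeModulesEnoughInjectives _
    let R := CohAff.FRes.ofMod (Coh.structureModule Z)
    haveI : (R.Z 0).IsQuasicoherent := hO.1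
    haveI : IsAffineHom (g ∣_ V) := inferInstance
    have hsupp : CohB1.support ((Coh.Rpush g (q' + 1)).obj (Coh.structureModule Z)) ⊆
        (V : Set C)ᶜ :=
      (CohDev.support_subset_of_mono (R.rpushIsoRc g q').hom).trans
        (support_Rc_subset_of_affine g R q' V)
    rw [hsmall _ hR (fun h => hsupp h hηV), sub_self]
  simp only [pow_zero, one_mul] at htop
  let P := (Coh.push g).obj (Coh.structureModule Z)
  haveI : EnoughInjectives Z.Modules := ModShf.schemeModulesEnoughInjectives _
  let e0 : (Coh.Rpush g 0).obj (Coh.structureModule Z) ≅ P :=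
    (Scheme.Modules.pushforward g).rightDerivedZeroIsoSelf.app _
  rw [EulerChar.euler_iso k (tensCongr e0 (Iso.refl _)), EulerChar.euler_iso k e0] at htop
  have hP : Coh.IsCoh P := CohDev.isCoh_of_iso e0 (isCoh_rpush (k := k) g hg hO 0)
  have hd : dev k hL (CohDev.kcl (Cyc.closureStructureSheaf η)) = 0 := by
    have h3 := hgen P hP
    rw [dev_kcl k hL hP, htop] at h3
    refine (mul_eq_zero.1 h3.symm).resolve_left fun h0 => ?_
    refine ProperFin.mem_support_push_structure g η ?_
    refine (Module.length_eq_zero_iff (R := C.presheaf.stalk η)).1 ?_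
    exact (ENat.toNat_eq_zero.1 (by exact_mod_cast h0)).resolve_right (length_ne_top hP)
  have h4 := hgen F hF
  rw [hd, mul_zero, dev_kcl k hL hF, sub_eq_zero] at h4
  exact h4

/-- `Num1` descends along surjective morphisms of proper schemes. -/
theorem num1_of_surjective [Infinite k] {X Y : Scheme.{u}} [X.Over (Spec (CommRingCat.of k))]
    [Y.Over (Spec (CommRingCat.of k))] [IsProper (X ↘ Spec (CommRingCat.of k))]
    [IsProper (Y ↘ Spec (CommRingCat.of k))]
    (f : Y ⟶ X) (hf : f ≫ (X ↘ Spec (CommRingCat.of k)) = Y ↘ Spec (CommRingCat.of k))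
    [Surjective f] {L : X.Modules} (hL : PicF.IsInvertible L)
    (h : Num1 k ((Scheme.Modules.pullback f).obj L)) : Num1 k L := by
  haveI := EulerChar.isNoetherian k (X := X)
  refine ⟨hL, fun F hF hd => sub_eq_zero.1 ?_⟩
  rw [← dev_kcl k hL hF]
  have hmem := CohDev.kcl_mem_closure_oz hF
  revert hmem
  generalize CohDev.kcl F = c
  intro hmem
  induction hmem using AddSubgroup.closure_induction with
  | zero => exact map_zero _
  | add x y _ _ hx hy => rw [map_add, hx, hy, add_zero]
  | neg x _ hx => rw [map_neg, hx, neg_zero]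
  | mem c hc =>
    obtain ⟨x, hx, rfl⟩ := hc
    rw [dev_kcl k hL (CohDev.isCoh_oz x), sub_eq_zero]
    let ι := (IntMult.ptIdeal x).subschemeι
    let C := (IntMult.ptIdeal x).subscheme
    haveI : IsIntegral C := S16188.isIntegral_subscheme _ isIrreducible_singleton.closure
    letI : C.Over (Spec (CommRingCat.of k)) := ⟨ι ≫ (X ↘ Spec (CommRingCat.of k))⟩
    haveI : IsProper (C ↘ Spec (CommRingCat.of k)) :=
      inferInstanceAs (IsProper (ι ≫ (X ↘ Spec (CommRingCat.of k))))
    haveI := EulerChar.isNoetherian k (X := C)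
    have hdC : topologicalKrullDim C ≤ ((1 : ℕ) : WithBot ℕ∞) := by
      refine le_trans (le_of_eq ?_) ((CohDev.dim_mono (closure_minimal
        (Set.singleton_subset_iff.2 hx) (CohDev.isClosed_support hF))).trans hd)
      rw [← (IntMult.ptIdeal x).range_subschemeι.trans
        (show ((IntMult.ptIdeal x).support : Set X) = closure {x} from rfl)]
      exact IsHomeomorph.topologicalKrullDim_eq _
        (ι.isClosedEmbedding.isEmbedding.toHomeomorph).isHomeomorph
    let W := pullback f ι
    let g₀ : W ⟶ C := pullback.snd f ι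
    letI : W.Over (Spec (CommRingCat.of k)) := ⟨g₀ ≫ (C ↘ Spec (CommRingCat.of k))⟩
    haveI : IsProper f := isProper_of_over (k := k) f hf
    haveI : IsProper g₀ := inferInstanceAs (IsProper (pullback.snd _ _))
    haveI : Surjective g₀ := inferInstanceAs (Surjective (pullback.snd _ _))
    haveI : IsProper (W ↘ Spec (CommRingCat.of k)) :=
      inferInstanceAs (IsProper (g₀ ≫ (C ↘ Spec (CommRingCat.of k))))
    haveI := EulerChar.isNoetherian k (X := W)
    obtain ⟨w, hw, hwc⟩ : ∃ w : W, g₀ w = genericPoint C ∧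
        ∀ z : W, g₀ z = genericPoint C → w ⤳ z → z = w := by
      let η := genericPoint C
      haveI : Nonempty (g₀.fiber η) := by
        obtain ⟨w, hw⟩ := g₀.surjective η
        exact ⟨(g₀.fiberHomeo η).symm ⟨w, hw⟩⟩
      haveI : CompactSpace (g₀.fiber η) :=
        QuasiCompact.compactSpace_of_compactSpace (g₀.fiberToSpecResidueField η)
      obtain ⟨v, -, hv⟩ := (isClosed_univ (X := g₀.fiber η)).exists_closed_singleton Set.univ_nonempty
      let w := g₀.fiberι η v
      have hw : g₀ w = η := (g₀.range_fiberι η).le ⟨v, rfl⟩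
      refine ⟨w, hw, fun z hz hwz => ?_⟩
      obtain ⟨v', rfl⟩ := (g₀.range_fiberι η).ge hz
      have h1 : v ⤳ v' := (g₀.fiberι η).isEmbedding.isInducing.specializes_iff.1 hwz
      rw [show v' = v from Set.eq_of_mem_singleton (h1.mem_closed hv rfl)]
    let ιZ := (IntMult.ptIdeal w).subschemeι
    let Z := (IntMult.ptIdeal w).subscheme
    letI : Z.Over (Spec (CommRingCat.of k)) := ⟨ιZ ≫ (W ↘ Spec (CommRingCat.of k))⟩
    haveI : IsProper (Z ↘ Spec (CommRingCat.of k)) :=
      inferInstanceAs (IsProper (ιZ ≫ (W ↘ Spec (CommRingCat.of k))))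
    let g := ιZ ≫ g₀
    haveI : IsProper g := inferInstanceAs (IsProper (ιZ ≫ g₀))
    have hrZ : Set.range ιZ = closure ({w} : Set W) := (IntMult.ptIdeal w).range_subschemeι
    haveI : Surjective g := ⟨fun y => by
      obtain ⟨v, hv⟩ := hrZ.ge (subset_closure rfl)
      have hcl : IsClosed (Set.range g) := g.isClosedMap.isClosed_range
      have hη : genericPoint C ∈ Set.range g :=
        ⟨v, by rw [Scheme.Hom.comp_apply, hv, hw]⟩
      exact (genericPoint_spec C).specializes trivial |>.mem_closed hcl hη⟩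
    have hfin : (g.base ⁻¹' {genericPoint C}).Finite := by
      refine Set.Subsingleton.finite fun a ha b hb => ιZ.isClosedEmbedding.injective ?_
      have key : ∀ a, g a = genericPoint C → ιZ a = w := fun a ha =>
        hwc _ ((Scheme.Hom.comp_apply ιZ g₀ a).symm.trans ha)
          (specializes_iff_mem_closure.2 (hrZ.le ⟨a, rfl⟩))
      rw [key a ha, key b hb]
    let hY : Z ⟶ Y := ιZ ≫ pullback.fst f ι
    have hYo : hY ≫ (Y ↘ Spec (CommRingCat.of k)) = Z ↘ Spec (CommRingCat.of k) := by
      show (ιZ ≫ pullback.fst f ι) ≫ _ = ιZ ≫ g₀ ≫ ι ≫ (X ↘ Spec (CommRingCat.of k))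
      rw [← hf, Category.assoc, pullback.condition_assoc]
    have e : hY ≫ f = g ≫ ι := by
      simp only [hY, g, g₀, Category.assoc, pullback.condition]
    have hLZ : Num1 k ((Scheme.Modules.pullback g).obj ((Scheme.Modules.pullback ι).obj L)) :=
      num1_iso k ((Scheme.Modules.pullbackComp hY f).app L ≪≫
          (Scheme.Modules.pullbackCongr e).app L ≪≫ ((Scheme.Modules.pullbackComp g ι).app L).symm)
        (PicCl.isInvertible_pullback g (PicCl.isInvertible_pullback ι hL))
        (num1_pullback hY hYo h)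
    have HZ := euler_tens_curve hdC g rfl hfin (PicCl.isInvertible_pullback ι hL) hLZ
      (ProperFin.isCoh_structureModule C)
    rw [euler_closed_tens (k := k) ι rfl hL (ProperFin.isCoh_structureModule C)] at HZ
    exact HZ.trans (EulerChar.euler_push ι rfl _ (ProperFin.isCoh_structureModule C).1).symm

end Groth.Agent.NumTriv.Descend
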