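import Groth.Agent.NumTriv.Translate
import Groth.Agent.NumTriv.Descend

/-!
# Preimages of bounded families under pullback along surjections
-/

universe u

open CategoryTheory CategoryTheory.Limits AlgebraicGeometry

set_option linter.style.haveILetI false

noncomputable section

namespace Groth.Agent.NumTriv.PullPreimage

open ProjTwist

variable {k : Type u} [Field k] {X Y : Scheme.{u}} [X.Over (Spec (CommRingCat.of k))]
  [Y.Over (Spec (CommRingCat.of k))] [IsProper (X ↘ Spec (CommRingCat.of k))]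
  [IsProper (Y ↘ Spec (CommRingCat.of k))]

/-- Preimages of bounded families are bounded, given descent of `Num1`. -/
theorem isBounded_preimage [Infinite k] (f : X ⟶ Y)
    (hdesc : ∀ N : Y.Modules, PicF.IsInvertible N →
      Num1 k ((Scheme.Modules.pullback f).obj N) → Num1 k N)
    {P : X.Modules → Prop} (hP : Pic13.IsBounded k X P) :
    Pic13.IsBounded k Y (fun M : Y.Modules => PicF.IsInvertible M ∧
      ∃ L : X.Modules, P L ∧ Nonempty ((Scheme.Modules.pullback f).obj M ≅ L)) := by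
  let P' : X.Modules → Prop := fun L => P L ∧ PicF.IsInvertible L
  have hP' : Pic13.IsBounded k X P' := by
    obtain ⟨T, q, hft, hqc, F, hF, h⟩ := hP
    exact ⟨T, q, hft, hqc, F, hF, fun L hL => h L hL.1⟩
  obtain ⟨ι, _, Cl, hcov, hpair⟩ := exists_algClasses_of_isBounded hP' fun L hL => hL.2
  refine Translate.isBounded_of_classes
    (fun a M => ∃ L, Nonempty ((Scheme.Modules.pullback f).obj M ≅ L) ∧ Cl a L)
    (fun M hM => hM.1) (fun M hM => ?_) fun a M M' hM hM' => ?_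
  · obtain ⟨hi, L, hL, ⟨e⟩⟩ := hM
    obtain ⟨a, ha⟩ := hcov L ⟨hL, PicCl.isInvertible_of_iso e (PicCl.isInvertible_pullback f hi)⟩
    exact ⟨a, L, ⟨e⟩, ha⟩
  · rintro ⟨L, ⟨e⟩, hc⟩ ⟨L', ⟨e'⟩, hc'⟩ F hF hd
    obtain ⟨hL', N, hN, hNalg, ⟨g⟩⟩ := hpair a L L' hc hc'
    have hN1 : Num1 k N := num1_of_isTauEquivZero k hN
      ⟨1, one_pos, EulerFam.isAlgEquivZero_of_iso (oneTens N).symm hNalg⟩
    obtain ⟨J, hJ, ⟨eJ⟩⟩ := PicLaw.exists_inverse hM'.1
    have hJM := AmpleLib.isInvertible_tensorMod hJ hM.1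
    obtain ⟨a₁⟩ := PicLaw.pullback_tensor f hJ hM.1
    obtain ⟨a₂⟩ := PicLaw.pullback_tensor f hJ hM'.1
    have h1 : Num1 k (CohB1.tensorMod J M) := hdesc _ hJM <| by
      refine num1_iso k ?_ (PicCl.isInvertible_pullback f hJM) hN1
      exact (oneTens N).symm ≪≫ tensCongr ((QCoh.pullbackUnitIso f).symm ≪≫
          (Scheme.Modules.pullback f).mapIso ((tensComm J M' ≪≫ eJ).symm) ≪≫ a₂) (Iso.refl N) ≪≫
        tensAssoc _ _ _ ≪≫ tensCongr (Iso.refl _) (tensCongr e' (Iso.refl N) ≪≫ g.symm ≪≫ e.symm) ≪≫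
        a₁.symm
    have h2 : deg1 k F (CohB1.tensorMod J M) = 0 := sub_eq_zero.2 (h1.2 F hF hd)
    have h0 : deg1 k F M' + deg1 k F J = 0 := by
      rw [← deg1_tens k hF hd hM'.1 hJ, deg1_iso k F eJ, deg1_one]
    rw [deg1_tens k hF hd hJ hM.1] at h2
    omega

end Groth.Agent.NumTriv.PullPreimage
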