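import Groth.Agent.NumTriv.Ample
import Groth.Agent.NumTriv.Hodge
import Groth.Agent.NumTriv.PullPreimage
import Groth.Agent.ZeroSchemeLib.Basic

/-!
# Numerical triviality descends from a hyperplane section
-/

universe u

open CategoryTheory CategoryTheory.Limits AlgebraicGeometry

set_option linter.style.haveILetI false

noncomputable section

namespace Groth.Agent.NumTriv.Section

open ProjTwist OnSet Groth.Agent.VarDim

variable {k : Type u} [Field k] {X : Scheme.{u}} [X.Over (Spec (CommRingCat.of k))]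
  [IsProper (X ↘ Spec (CommRingCat.of k))]

/-- A power of an ample module is a hyperplane bundle. -/
theorem exists_embedding_pow {H : X.Modules} (hH : CohB1.IsAmple H) :
    ∃ (a n : ℕ) (i : X ⟶ CohB1.ProjSpace n k), 0 < a ∧ IsClosedImmersion i ∧
      i ≫ CohB1.ProjSpace.toSpec n k = X ↘ Spec (CommRingCat.of k) ∧
      Nonempty (CohB1.tensorPow H a ≅ oX i 1) := by
  obtain ⟨a, ha, n, i, hi, hif, ⟨eH⟩⟩ :=
    (S2330.result (X ↘ Spec (CommRingCat.of k)) H hH.1).1.mp hH
  let φ : ULift.{u} ℤ →+* k := (Int.castRingHom k).comp (ULift.ringEquiv.toRingHom)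
  have h : IsPullback (ProperFin.pnMap n φ) (CohB1.ProjSpace.toSpec n k)
      (CohB1.ProjSpace.toSpec n (ULift.{u} ℤ))
      (specULiftZIsTerminal.from (Spec (CommRingCat.of k))) := by
    rw [show specULiftZIsTerminal.from (Spec (CommRingCat.of k)) =
      Spec.map (CommRingCat.ofHom φ) from specULiftZIsTerminal.hom_ext _ _]
    exact ProperFin.isPullback_pnMap n φ
  haveI := hi
  let e : CohB1.ProjSpaceOver n (Spec (CommRingCat.of k)) ⟶ CohB1.ProjSpace n k :=
    h.isoPullback.inv
  haveI : IsIso e := inferInstanceAs (IsIso h.isoPullback.inv)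
  have he1 : e ≫ ProperFin.pnMap n φ = pullback.fst _ _ := h.isoPullback_inv_fst
  have he2 : e ≫ CohB1.ProjSpace.toSpec n k = pullback.snd _ _ := h.isoPullback_inv_snd
  let j := i ≫ e
  have hw : j ≫ CohB1.ProjSpace.toSpec n k = X ↘ Spec (CommRingCat.of k) := by
    rw [Category.assoc, he2]
    exact hif
  haveI := ProjProper.Basic.isProper_toSpec n k
  haveI : IsProper (j ≫ CohB1.ProjSpace.toSpec n k) := by rw [hw]; infer_instance
  haveI : IsProper j := IsProper.of_comp j (CohB1.ProjSpace.toSpec n k)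
  have hjf : j ≫ ProperFin.pnMap n φ = i ≫ pullback.fst _ _ := by
    rw [Category.assoc, he1]
  obtain ⟨et⟩ := TwistFlat.nonempty_pullback_twist n φ 1
  refine ⟨a, n, j, ha, .of_isPreimmersion j j.isClosedMap.isClosed_range, hw, ⟨?_⟩⟩
  exact eH ≪≫ (Scheme.Modules.pullbackComp i _).app (Twist.twistProjSpace n (ULift.{u} ℤ) 1) ≪≫
    (Scheme.Modules.pullbackCongr hjf.symm).app _ ≪≫
    ((Scheme.Modules.pullbackComp j (ProperFin.pnMap n φ)).app _).symm ≪≫
    (Scheme.Modules.pullback j).mapIso et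

omit [X.Over (Spec (CommRingCat.of k))] [IsProper (X ↘ Spec (CommRingCat.of k))] in
/-- The cokernel of a section is supported on its zero scheme. -/
theorem support_cokernel_subset {H : X.Modules} (hH : PicF.IsInvertible H)
    (φ : Coh.structureModule X ⟶ H) :
    CohB1.support (cokernel φ) ⊆ ((PicF2.zeroScheme H φ).support : Set X) := by
  intro x hx
  by_contra hxs
  obtain ⟨U₀, e₀, hxU₀, he₀⟩ := Props.GenLocus.exists_isGen hH x
  obtain ⟨U, hU, hxU, hle⟩ := exists_isAffineOpen_mem_and_subset (X := X) (U := U₀) hxU₀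
  have he := he₀.restrict hle
  obtain ⟨f, hf, -⟩ := he.exists_eq le_rfl (Props.GenLocus.sec φ U)
  rw [QCoh.res_self] at hf
  have hid : (PicF2.zeroScheme H φ).ideal ⟨U, hU⟩ = Ideal.span {f} :=
    ZeroSchemeLib.zeroScheme_ideal_eq_span hH φ ⟨U, hU⟩ he hf
  have hxb : x ∈ X.basicOpen f := by
    by_contra hb
    refine hxs ?_
    have h := (Set.ext_iff.1 ((PicF2.zeroScheme H φ).coe_support_inter ⟨U, hU⟩) x).2 ⟨?_, hxU⟩
    · exact h.1
    rw [hid, Scheme.zeroLocus_span, Scheme.zeroLocus_singleton]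
    exact hb
  have hgen : x ∈ CohB1.genLocus H φ := ((Props.GenLocus.genLocus_inf he φ hf).ge hxb).1
  have hsurj : Function.Surjective (PullStalk.Exact.stalkLin φ x) :=
    (HilbPolyX.stalk_sec_bijective φ hgen).2
  exact CohDev.not_mem_support_cokernel φ hsurj hx

omit [X.Over (Spec (CommRingCat.of k))] [IsProper (X ↘ Spec (CommRingCat.of k))] in
/-- Off the support of the cokernel a map is surjective on stalks. -/
theorem surjective_of_not_mem {A B : X.Modules} (f : A ⟶ B) {x : X}
    (h : x ∉ CohB1.support (cokernel f)) :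
    Function.Surjective (PullStalk.Exact.stalkLin f x) := by
  intro t
  let S := ShortComplex.mk (kernel.ι (cokernel.π f)) (cokernel.π f) (kernel.condition _)
  have hS : S.ShortExact :=
    { exact := ShortComplex.exact_of_f_is_kernel _ (kernelIsKernel _) }
  haveI : Subsingleton ((cokernel f).presheaf.stalk x) := not_not.1 h
  obtain ⟨b, hb⟩ := ((PullStalk.Exact.stalk_exact hS x).2.1 t).mp (Subsingleton.elim _ _)
  haveI : Epi (Abelian.factorThruImage f) := inferInstance
  obtain ⟨a, ha⟩ := PullStalk.Exact.stalk_surjective (Abelian.factorThruImage f) x b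
  refine ⟨a, ?_⟩
  have hfac : Abelian.factorThruImage f ≫ S.f = f := Abelian.image.fac f
  rw [← hb, ← ha]
  exact (congrArg (fun g => PullStalk.Exact.stalkLin g x a) hfac).symm.trans
    (CohDev.stalkLin_comp_apply _ _ x a)

omit [X.Over (Spec (CommRingCat.of k))] [IsProper (X ↘ Spec (CommRingCat.of k))] in
/-- Supports of cokernels of composites. -/
theorem support_cokernel_comp [IsLocallyNoetherian X] {A B C : X.Modules} (f : A ⟶ B) (g : B ⟶ C)
    {S : Set X} (hf : CohB1.support (cokernel f) ⊆ S) (hg : CohB1.support (cokernel g) ⊆ S) :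
    CohB1.support (cokernel (f ≫ g)) ⊆ S := by
  intro x hx
  by_contra hxS
  refine CohDev.not_mem_support_cokernel (f ≫ g) ?_ hx
  have h1 : Function.Surjective (PullStalk.Exact.stalkLin f x) :=
    surjective_of_not_mem f fun h => hxS (hf h)
  have h2 : Function.Surjective (PullStalk.Exact.stalkLin g x) :=
    surjective_of_not_mem g fun h => hxS (hg h)
  intro t
  obtain ⟨b, rfl⟩ := h2 t
  obtain ⟨a, rfl⟩ := h1 b
  exact ⟨a, CohDev.stalkLin_comp_apply f g x a⟩

/-- A power of a section. -/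
theorem exists_section_pow [IsLocallyNoetherian X] {H : X.Modules} (hH : PicF.IsInvertible H)
    (φ : Coh.structureModule X ⟶ H) {S : Set X} (hS : CohB1.support (cokernel φ) ⊆ S) :
    ∀ a : ℕ, ∃ ψ : Coh.structureModule X ⟶ CohB1.tensorPow H a,
      CohB1.support (cokernel ψ) ⊆ S := by
  intro a
  induction a with
  | zero =>
    refine ⟨𝟙 _, fun x hx => absurd hx (CohDev.not_mem_support_cokernel _ fun t =>
      ⟨t, CohDev.stalkLin_id_apply x t⟩)⟩
  | succ a ih =>
    obtain ⟨ψ, hψ⟩ := ih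
    let T := (DCoh.tensorBi (X := X)).obj (CohB1.tensorPow H a)
    haveI : DCoh.HasSheafHom (CohB1.tensorPow H a) := KFlat.hasSheafHom_scheme _
    haveI : T.IsLeftAdjoint := (DCoh.sheafHomAdj (CohB1.tensorPow H a)).isLeftAdjoint
    let f₁ : CohB1.tensorMod (CohB1.tensorPow H a) (Coh.structureModule X) ⟶
        CohB1.tensorPow H (a + 1) := T.map φ
    let f₀ : CohB1.tensorPow H a ≅ CohB1.tensorMod (CohB1.tensorPow H a) (Coh.structureModule X) :=
      (tensOne _).symm
    refine ⟨ψ ≫ f₀.hom ≫ f₁, support_cokernel_comp _ _ hψ ?_⟩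
    let e₁ : cokernel (f₀.hom ≫ f₁) ≅ cokernel f₁ := cokernelEpiComp f₀.hom f₁
    let e : cokernel (f₀.hom ≫ f₁) ≅ CohB1.tensorMod (CohB1.tensorPow H a) (cokernel φ) :=
      e₁ ≪≫ (PreservesCokernel.iso T φ).symm
    refine (CohDev.support_subset_of_mono e.hom).trans (Set.Subset.trans ?_ hS)
    exact (CohDev.support_subset_of_mono (tensComm _ (cokernel φ)).hom).trans
      (HilbPolyX.support_tensorMod_subset _ _)

omit [IsProper (X ↘ Spec (CommRingCat.of k))] in
/-- The form attached to a section of the hyperplane bundle. -/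
theorem exists_form {n : ℕ} (i : X ⟶ CohB1.ProjSpace n k)
    (ψ : Coh.structureModule X ⟶ oX i 1) {S : Set X} (hS : CohB1.support (cokernel ψ) ⊆ S) :
    ∃ σ : oX i (-1) ⟶ Coh.structureModule X, CohB1.support (cokernel σ) ⊆ S := by
  obtain ⟨e⟩ := nonempty_oX_add i (-1) 1 0 (by norm_num)
  obtain ⟨e₀⟩ := nonempty_oX_zero i
  let T := (DCoh.tensorBi (X := X)).obj (oX i (-1))
  haveI : DCoh.HasSheafHom (oX i (-1)) := KFlat.hasSheafHom_scheme _
  haveI : T.IsLeftAdjoint := (DCoh.sheafHomAdj (oX i (-1))).isLeftAdjoint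
  let f₁ : CohB1.tensorMod (oX i (-1)) (Coh.structureModule X) ⟶
      CohB1.tensorMod (oX i (-1)) (oX i 1) := T.map ψ
  let f₂ : CohB1.tensorMod (oX i (-1)) (oX i 1) ≅ Coh.structureModule X := e ≪≫ e₀
  let f₀ : oX i (-1) ≅ CohB1.tensorMod (oX i (-1)) (Coh.structureModule X) := (tensOne _).symm
  refine ⟨f₀.hom ≫ f₁ ≫ f₂.hom, ?_⟩
  let c₁ : cokernel (f₀.hom ≫ f₁ ≫ f₂.hom) ≅ cokernel f₁ :=
    cokernelEpiComp f₀.hom (f₁ ≫ f₂.hom) ≪≫ cokernelCompIsIso f₁ f₂.hom
  let e' : cokernel (f₀.hom ≫ f₁ ≫ f₂.hom) ≅ CohB1.tensorMod (oX i (-1)) (cokernel ψ) :=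
    c₁ ≪≫ (PreservesCokernel.iso T ψ).symm
  refine (CohDev.support_subset_of_mono e'.hom).trans (Set.Subset.trans ?_ hS)
  exact (CohDev.support_subset_of_mono (tensComm _ (cokernel ψ)).hom).trans
    (HilbPolyX.support_tensorMod_subset _ _)

/-- Every curve lies in the zero locus or in a component of dimension at least three. -/
theorem exists_big {n : ℕ} (i : X ⟶ CohB1.ProjSpace n k) [IsClosedImmersion i]
    (hi : i ≫ CohB1.ProjSpace.toSpec n k = X ↘ Spec (CommRingCat.of k)) {S : Set X} (hScl : IsClosed S)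
    (σ : oX i (-1) ⟶ Coh.structureModule X) (hS : CohB1.support (cokernel σ) ⊆ S)
    (hdim : ∀ Z ∈ irreducibleComponents (X : Type u),
      ∀ W ∈ irreducibleComponents ↥(Z ∩ S), 2 ≤ topologicalKrullDim ↥W)
    (y : X) (hy : topologicalKrullDim ↥(closure ({y} : Set X)) = ((1 : ℕ) : WithBot ℕ∞)) :
    ∃ x, x ⤳ y ∧ (x ∈ S ∨ 3 ≤ dimPt k X x) := by
  haveI := EulerChar.isNoetherian k (X := X)
  let Z := irreducibleComponent y
  have hZ : IsIrreducible Z := isIrreducible_irreducibleComponent
  have hZc : IsClosed Z := isClosed_irreducibleComponent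
  obtain ⟨ξ, hξ⟩ := QuasiSober.sober hZ hZc
  refine ⟨ξ, hξ.specializes mem_irreducibleComponent, ?_⟩
  by_cases hξS : ξ ∈ S
  · exact Or.inl hξS
  refine Or.inr ?_
  by_cases hne : (Z ∩ S).Nonempty
  · haveI : Nonempty ↥(Z ∩ S) := hne.to_subtype
    obtain ⟨⟨w, hw⟩⟩ := (inferInstance : Nonempty ↥(Z ∩ S))
    let W : Set ↥(Z ∩ S) := irreducibleComponent ⟨w, hw⟩
    have h2 := hdim Z (irreducibleComponent_mem_irreducibleComponents y) W
      (irreducibleComponent_mem_irreducibleComponents _)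
    have h3 : topologicalKrullDim ↥W ≤ topologicalKrullDim ↥(Z ∩ S) :=
      Topology.IsInducing.topologicalKrullDim_le Topology.IsInducing.subtypeVal
    have hcl : closure ({ξ} : Set X) = Z := hξ.def
    by_contra hlt
    push Not at hlt
    have h4 : topologicalKrullDim ↥(Z ∩ S) < ((2 : ℕ) : WithBot ℕ∞) := by
      refine CohDev.dim_lt_of_irreducible (C := Z) (hZc.inter hScl) hZ Set.inter_subset_left
        (fun h => hξS (h (hcl ▸ subset_closure rfl)).2) ?_
      rw [← hcl, Wall.dim_closure k ξ]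
      exact_mod_cast (by omega : dimPt k X ξ ≤ 2)
    exact absurd ((h2.trans h3).trans_lt h4) (by simp)
  · -- the component misses the zero locus
    exfalso
    let ι := (IntMult.ptIdeal y).subschemeι
    letI : (IntMult.ptIdeal y).subscheme.Over (Spec (CommRingCat.of k)) :=
      ⟨ι ≫ (X ↘ Spec (CommRingCat.of k))⟩
    haveI : IsProper ((IntMult.ptIdeal y).subscheme ↘ Spec (CommRingCat.of k)) :=
      inferInstanceAs (IsProper (ι ≫ (X ↘ Spec (CommRingCat.of k))))
    haveI : IsIntegral (IntMult.ptIdeal y).subscheme :=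
      S16188.isIntegral_subscheme _ isIrreducible_singleton.closure
    haveI := EulerChar.isNoetherian k (X := (IntMult.ptIdeal y).subscheme)
    have hr : Set.range ι = closure ({y} : Set X) := (IntMult.ptIdeal y).range_subschemeι
    have hιi : (ι ≫ i) ≫ CohB1.ProjSpace.toSpec n k =
        (IntMult.ptIdeal y).subscheme ↘ Spec (CommRingCat.of k) := by
      rw [Category.assoc, hi]; rfl
    have hσc : Coh.IsCoh (cokernel σ) := CohDev.isCoh_cokernel σ
      (ProjTwist.isQCoh_of_isInvertible (isInvertible_oX i (-1)))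
      (ProperFin.isCoh_structureModule X)
    obtain ⟨σ', hσ'⟩ := Hodge.exists_restrict i ι σ hσc
    have hd1 := (Hodge.dim_ptIdeal y).trans hy
    have hempty : CohB1.support (cokernel σ') = ∅ := by
      refine Set.eq_empty_of_forall_notMem fun z hz => hne ⟨ι z, ?_, hS (hσ' hz)⟩
      exact closure_minimal (Set.singleton_subset_iff.2 mem_irreducibleComponent) hZc
        (hr ▸ ⟨z, rfl⟩)
    have hσ0 : σ' ≠ 0 := fun h => by
      obtain ⟨z⟩ : Nonempty (IntMult.ptIdeal y).subscheme := inferInstance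
      exact (hempty ▸ Hodge.univ_subset_of_eq_zero h subset_rfl z : z ∈ (∅ : Set _))
    haveI : Mono σ' := EulerChar.mono_of_ne_zero (isInvertible_oX (ι ≫ i) (-1))
      (LFFrame.isInvertible_structureModule _) σ' hσ0
    haveI : Epi σ' := Abelian.epi_of_cokernel_π_eq_zero _
      ((CohDev.isZero_of_support_eq_empty hempty).eq_zero_of_tgt _)
    haveI : IsIso σ' := isIso_of_mono_of_epi σ'
    have hO := ProperFin.isCoh_structureModule (IntMult.ptIdeal y).subscheme
    obtain ⟨e⟩ := nonempty_oX_add (ι ≫ i) (-1) 1 0 (by norm_num)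
    obtain ⟨e₀⟩ := nonempty_oX_zero (ι ≫ i)
    have h1 : oX (ι ≫ i) 1 ≅ Coh.structureModule _ :=
      (oneTens _).symm ≪≫ tensCongr (asIso σ').symm (Iso.refl _) ≪≫ e ≪≫ e₀
    obtain ⟨P, hP⟩ := HilbPolyX.exists_hilbPoly k (isInvertible_oX (ι ≫ i) 1) hO
    have hsupp : topologicalKrullDim ↥(CohB1.support (Coh.structureModule (IntMult.ptIdeal y).subscheme))
        = ((0 + 1 : ℕ) : WithBot ℕ∞) := by
      have hu : CohB1.support (Coh.structureModule (IntMult.ptIdeal y).subscheme) = Set.univ := by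
        refine Set.eq_univ_of_forall fun x hx => ?_
        obtain ⟨e⟩ := EulerChar.stalk_ofRank
          (ProjTwist.isFinLocFreeOfRank_one (LFFrame.isInvertible_structureModule _)) x
        haveI : Subsingleton ((Coh.structureModule (IntMult.ptIdeal y).subscheme).presheaf.stalk x) := hx
        haveI : Subsingleton (Fin 1 → (IntMult.ptIdeal y).subscheme.presheaf.stalk x) :=
          e.injective.subsingleton
        exact one_ne_zero (congrFun
          (Subsingleton.elim (1 : Fin 1 → (IntMult.ptIdeal y).subscheme.presheaf.stalk x) 0) 0)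
      rw [hu, IsHomeomorph.topologicalKrullDim_eq _ (Homeomorph.Set.univ _).isHomeomorph, hd1]
    have hpos : 0 < P.coeff (0 + 1) :=
      HilbPolyX.coeff_pos k (isAmple_oX_one (ι ≫ i)) (0 + 1) hO hP hsupp
    refine false_of_poly_le (d := 0) (c := 0) (t₀ := 0)
      (HilbPolyX.natDegree_le k (isInvertible_oX (ι ≫ i) 1) hO hP hsupp.le) hpos (fun _ => rfl)
      fun t _ => ?_
    rw [add_zero, ← hP t, ← hP (t + 1)]
    refine le_of_eq (congrArg Int.cast (EulerChar.euler_iso k ?_))
    exact tensCongr (Iso.refl _) (tensCongr (Iso.refl _) h1 ≪≫ tensOne _)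

/-- Numerical triviality descends from the zero scheme of a section of an ample module. -/
theorem num1_of_zeroScheme [Infinite k] {H : X.Modules} (hH : CohB1.IsAmple H)
    (φ : Coh.structureModule X ⟶ H)
    (hdim : ∀ Z ∈ irreducibleComponents (X : Type u),
      ∀ W ∈ irreducibleComponents ↥(Z ∩ Set.range (PicF2.zeroScheme H φ).subschemeι.base),
        2 ≤ topologicalKrullDim ↥W)
    {M : X.Modules} (hM : PicF.IsInvertible M)
    (hnum : @Num1 k _ (PicF2.zeroScheme H φ).subscheme
      ⟨(PicF2.zeroScheme H φ).subschemeι ≫ (X ↘ Spec (CommRingCat.of k))⟩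
      ((Scheme.Modules.pullback (PicF2.zeroScheme H φ).subschemeι).obj M)) :
    Num1 k M := by
  haveI := EulerChar.isNoetherian k (X := X)
  let J := PicF2.zeroScheme H φ
  letI : J.subscheme.Over (Spec (CommRingCat.of k)) :=
    ⟨J.subschemeι ≫ (X ↘ Spec (CommRingCat.of k))⟩
  haveI : IsProper (J.subscheme ↘ Spec (CommRingCat.of k)) :=
    inferInstanceAs (IsProper (J.subschemeι ≫ (X ↘ Spec (CommRingCat.of k))))
  have hr : Set.range J.subschemeι.base = (J.support : Set X) := J.range_subschemeι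
  have hD : NumOn k (J.support : Set X) M := hr ▸ Hodge.numOn_range J.subschemeι rfl hM hnum
  obtain ⟨a, n, i, -, hic, hi, ⟨eH⟩⟩ := exists_embedding_pow (k := k) hH
  haveI := hic
  obtain ⟨ψ, hψ⟩ := exists_section_pow hH.1 φ (support_cokernel_subset hH.1 φ) a
  obtain ⟨σ, hσ⟩ := exists_form i (ψ ≫ eH.hom)
    ((CohDev.support_subset_of_mono (cokernelCompIsIso ψ eH.hom).hom).trans hψ)
  exact Hodge.num1_of_numOn i hi J.support.isClosed σ hσ hD
    fun y hy => exists_big i hi J.support.isClosed σ hσ (by rw [← hr]; exact hdim) y hy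

end Groth.Agent.NumTriv.Section

namespace Groth.Agent.NumTriv.Section

/-- `Num1` implies numerical triviality. -/
theorem isNumEquivZero_of_num1 {k : Type u} [Field k] {X : Scheme.{u}}
    [X.Over (Spec (CommRingCat.of k))] [IsProper (X ↘ Spec (CommRingCat.of k))] {M : X.Modules}
    (h : Num1 k M) : Pic13.IsNumEquivZero k X M := by
  intro C ι _ hC hC1
  haveI := hC
  letI : C.Over (Spec (CommRingCat.of k)) := ⟨ι ≫ (X ↘ Spec (CommRingCat.of k))⟩
  haveI : IsProper (C ↘ Spec (CommRingCat.of k)) :=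
    inferInstanceAs (IsProper (ι ≫ (X ↘ Spec (CommRingCat.of k))))
  have hd : topologicalKrullDim C ≤ ((1 : ℕ) : WithBot ℕ∞) := by rw [hC1]; simp
  have hN := num1_pullback (k := k) ι rfl h
  haveI := EulerChar.isNoetherian k (X := C)
  show FGA.eulerCharLE k C _ 1 - FGA.eulerCharLE k C _ 1 = 0
  rw [Snapper.eulerCharLE_eq k hd, Snapper.eulerCharLE_eq k hd, sub_eq_zero,
    ← EulerChar.euler_iso k (ProjTwist.oneTens ((Scheme.Modules.pullback ι).obj M))]
  exact hN.2 _ (ProperFin.isCoh_structureModule C) (EulerChar.dim_support_le hd)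

end Groth.Agent.NumTriv.Section
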