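import Groth.Agent.NumTriv.Translate
import Groth.Agent.EulerFam.Bounded
import Groth.Agent.BigVol.QuotBounded
import Groth.Agent.EulerChar.Push

/-!
# A bounded family on a projective scheme: finitely many Hilbert polynomials, uniform regularity
-/

universe u

open CategoryTheory CategoryTheory.Limits AlgebraicGeometry

set_option linter.style.haveILetI false

noncomputable section

namespace Groth.Agent.NumTriv.BddHilb

open ProjTwist

variable {k : Type u} [Field k] {X : Scheme.{u}} [X.Over (Spec (CommRingCat.of k))]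
  [IsProper (X ↘ Spec (CommRingCat.of k))]

/-- The Euler characteristics of a fixed invertible twist of a bounded family form a finite set. -/
theorem finite_euler_twist {P : X.Modules → Prop} (hP : Pic13.IsBounded k X P) {M : X.Modules}
    (hM : PicF.IsInvertible M) :
    ∃ s : Finset ℤ, ∀ F, P F → Curv2.euler k X (CohB1.tensorMod F M) ∈ s := by
  obtain ⟨T, q, hft, hqc, G, hG, h⟩ := hP
  haveI := hft
  haveI := hqc
  haveI : IsLocallyNoetherian T := LocallyOfFiniteType.isLocallyNoetherian q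
  haveI : IsLocallyNoetherian (Pic13.prodK k X q) :=
    LocallyOfFiniteType.isLocallyNoetherian (pullback.snd (X ↘ Spec (CommRingCat.of k)) q)
  haveI : CompactSpace T := QuasiCompact.compactSpace_of_compactSpace q
  haveI : IsProper (pullback.snd (X ↘ Spec (CommRingCat.of k)) q) := inferInstance
  haveI : CompactSpace (Pic13.prodK k X q) :=
    QuasiCompact.compactSpace_of_compactSpace (pullback.snd (X ↘ Spec (CommRingCat.of k)) q)
  haveI : IsNoetherian (Pic13.prodK k X q) := ⟨⟩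
  let p : Pic13.prodK k X q ⟶ X := pullback.fst (X ↘ Spec (CommRingCat.of k)) q
  obtain ⟨s, hs⟩ := EulerFam.finite_euler q (CohDev.isCoh_of_iso (tensComm _ _)
    (ProjTwist.isCoh_tensor (PicCl.isInvertible_pullback p hM) hG) :
      Coh.IsCoh (CohB1.tensorMod ((Scheme.Modules.pullback p).obj M) G))
  refine ⟨s, fun F hF => ?_⟩
  obtain ⟨t, ht, ⟨e⟩⟩ := h F hF
  obtain ⟨f⟩ := EulerFam.nonempty_slice_iso q t ht M G
  let e' : Pic13.fibreMod k X q t ht (CohB1.tensorMod ((Scheme.Modules.pullback p).obj M) G) ≅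
      CohB1.tensorMod F M := f ≪≫ tensComm _ _ ≪≫ tensCongr e (Iso.refl M)
  rw [← EulerChar.euler_iso k e']
  exact hs t ht

/-- Every member of a bounded family is a quotient of one of finitely many coherent modules. -/
theorem exists_finite_epi {P : X.Modules → Prop} (hP : Pic13.IsBounded k X P) :
    ∃ (c : ℕ) (C : Fin c → X.Modules), (∀ j, Coh.IsCoh (C j)) ∧
      ∀ F, P F → ∃ j, ∃ a : C j ⟶ F, Epi a := by
  obtain ⟨T, q, hft, hqc, G, hG, hfib⟩ := hP
  haveI := hft
  haveI := hqc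
  haveI : CompactSpace T := QuasiCompact.compactSpace_of_compactSpace q
  haveI : IsLocallyNoetherian T := LocallyOfFiniteType.isLocallyNoetherian q
  haveI : IsLocallyNoetherian (Pic13.prodK k X q) :=
    LocallyOfFiniteType.isLocallyNoetherian (pullback.snd (X ↘ Spec (CommRingCat.of k)) q)
  let 𝒰 := T.affineCover.finiteSubcover
  obtain ⟨n, ⟨eI⟩⟩ := Finite.exists_equiv_fin 𝒰.I₀
  haveI : ∀ i, IsAffine (𝒰.X i) := fun i => by dsimp [𝒰]; infer_instance
  haveI : ∀ i, IsLocallyNoetherian (Pic13.prodK k X (𝒰.f i ≫ q)) := fun i =>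
    haveI : IsLocallyNoetherian (𝒰.X i) := LocallyOfFiniteType.isLocallyNoetherian (𝒰.f i)
    LocallyOfFiniteType.isLocallyNoetherian
      (pullback.snd (X ↘ Spec (CommRingCat.of k)) (𝒰.f i ≫ q))
  choose C hC a ha using fun i => KerFam.exists_epi_const (𝒰.f i ≫ q)
    (ZClosLib.CohDescent.isCoh_pullback (Union.pmap k X (𝒰.f i ≫ q) q (𝒰.f i) rfl) G hG)
  refine ⟨n, fun j => C (eI.symm j), fun j => hC _, fun F hF => ?_⟩
  obtain ⟨t, ht, ⟨e⟩⟩ := hfib F hF
  let z : Spec (CommRingCat.of k) := Classical.arbitrary _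
  obtain ⟨i, y, hy⟩ := 𝒰.exists_eq (t z)
  obtain ⟨g, hg⟩ := RedSub.exists_lift (𝒰.f i) t (by
    rintro _ ⟨w, rfl⟩
    rw [Subsingleton.elim w z]
    exact ⟨y, hy⟩)
  have hgq : g ≫ 𝒰.f i ≫ q = 𝟙 _ := by rw [← Category.assoc, hg, ht]
  let σ := Pic13.sliceAt k X (𝒰.f i ≫ q) g hgq
  haveI := ha i
  haveI : (Scheme.Modules.pullback σ).IsLeftAdjoint :=
    (Scheme.Modules.pullbackPushforwardAdjunction σ).isLeftAdjoint
  haveI : Epi ((Scheme.Modules.pullback σ).map (a i)) := inferInstance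
  let eC := (Scheme.Modules.pullbackComp σ
      (pullback.fst (X ↘ Spec (CommRingCat.of k)) (𝒰.f i ≫ q)) ≪≫
    Scheme.Modules.pullbackCongr (pullback.lift_fst _ _ _) ≪≫ Scheme.Modules.pullbackId X).app (C i)
  let e2 := Union.fibrePmapIso (𝒰.f i ≫ q) q (𝒰.f i) rfl g hgq t ht hg G ≪≫ e
  refine ⟨eI i, ?_⟩
  suffices h : ∃ a : C i ⟶ F, Epi a by
    convert h using 3 <;> simp
  exact ⟨eC.inv ≫ (Scheme.Modules.pullback σ).map (a i) ≫ e2.hom,
    @epi_comp _ _ _ _ _ _ inferInstance _ (@epi_comp _ _ _ _ _ _ ‹_› _ inferInstance)⟩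

variable {n : ℕ} (i : X ⟶ CohB1.ProjSpace n k) [IsClosedImmersion i]
  (hi : i ≫ CohB1.ProjSpace.toSpec n k = X ↘ Spec (CommRingCat.of k))

include hi in
/-- `χ(F(d))` is computed on projective space. -/
theorem chi_push_eq (F : X.Modules) (hF : Coh.IsCoh F) (d : ℤ) :
    ProjTwist.Pn.chi ((Coh.push i).obj F) d = FGA.eulerCharLE k X (Pic13.twistOn k i F d) n ∧
      ProjTwist.Pn.chi ((Coh.push i).obj F) d = Curv2.euler k X (Pic13.twistOn k i F d) := by
  haveI : Coh.IsQCoh F := hF.1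
  have hG : Coh.IsCoh ((Coh.push i).obj F) := ProperFin.isCoh_push_of_isFinite i F hF
  constructor
  · rw [CMReg.chi_eq_eulerCharLE k _ hG d]
    exact Finset.sum_congr rfl fun j _ => by rw [CMReg.finrank_twistOn i hi F d j]
  · haveI : IsProper (CohB1.ProjSpace n k ↘ Spec (CommRingCat.of k)) :=
      ProjProper.Basic.isProper_toSpec n k
    have h : Curv2.euler k (CohB1.ProjSpace n k) ((Coh.push i).obj (Pic13.twistOn k i F d)) =
        Curv2.euler k X (Pic13.twistOn k i F d) :=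
      EulerChar.euler_push i hi _ (CMReg.isQCoh_twistOn i F d)
    rw [← h]
    exact EulerChar.euler_iso k (CMReg.pushTwistIso i F d)

include hi in
/-- Bounded families on a projective scheme have finitely many Hilbert polynomials. -/
theorem finite_hilb {P : X.Modules → Prop} (hP : ∀ F, P F → Coh.IsCoh F)
    (hb : Pic13.IsBounded k X P) :
    ∃ s : Finset (Polynomial ℚ), ∀ F, P F → ∃ φ ∈ s, ∀ d : ℤ,
      (ProjTwist.Pn.chi ((Coh.push i).obj F) d : ℚ) = φ.eval (d : ℚ) := by
  classical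
  haveI : IsProper (CohB1.ProjSpace n k ↘ Spec (CommRingCat.of k)) :=
    ProjProper.Basic.isProper_toSpec n k
  haveI := EulerChar.isNoetherian k (X := CohB1.ProjSpace n k)
  obtain ⟨D, hD⟩ := HilbPolyX.exists_dim_le k (CohB1.ProjSpace n k)
  choose S hS using fun d : ℕ => finite_euler_twist hb
    (PicCl.isInvertible_pullback i (ProjTwist.isInvertible_twistProjSpace n k (d : ℤ)))
  let A : Set (Polynomial ℚ) := {φ | φ.natDegree ≤ D ∧ ∀ d : Fin (D + 1),
    φ.eval ((d : ℕ) : ℚ) ∈ (fun z : ℤ => (z : ℚ)) '' (S d : Set ℤ)}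
  have hA : A.Finite := by
    refine Set.Finite.of_finite_image
      (f := fun φ : Polynomial ℚ => fun d : Fin (D + 1) => φ.eval ((d : ℕ) : ℚ)) ?_ ?_
    · refine (Set.Finite.pi fun d : Fin (D + 1) =>
        ((S d).finite_toSet.image fun z : ℤ => (z : ℚ))).subset ?_
      rintro _ ⟨φ, hφ, rfl⟩ d -
      exact hφ.2 d
    · intro φ hφ ψ hψ he
      refine sub_eq_zero.1 (Polynomial.eq_zero_of_natDegree_lt_card_of_eval_eq_zero (φ - ψ)
        (f := fun d : Fin (D + 1) => ((d : ℕ) : ℚ)) ?_ ?_ ?_)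
      · intro a b h
        have h2 : ((a : ℕ) : ℚ) = ((b : ℕ) : ℚ) := h
        exact Fin.ext (by exact_mod_cast h2)
      · intro d
        rw [Polynomial.eval_sub, sub_eq_zero]
        exact congrFun he d
      · rw [Fintype.card_fin]
        exact Nat.lt_succ_of_le ((Polynomial.natDegree_sub_le _ _).trans (max_le hφ.1 hψ.1))
  refine ⟨hA.toFinset, fun F hF => ?_⟩
  have hG : Coh.IsCoh ((Coh.push i).obj F) := ProperFin.isCoh_push_of_isFinite i F (hP F hF)
  obtain ⟨φ, hφ, hneg⟩ := ProjTwist.Pn.exists_chi_poly hG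
  have hall : ∀ d : ℤ, (ProjTwist.Pn.chi ((Coh.push i).obj F) d : ℚ) = φ.eval (d : ℚ) := fun d => by
    obtain ⟨c, rfl | rfl⟩ := d.eq_nat_or_neg
    · exact (ProjTwist.Pn.chi_eq_hilb hφ c).trans (by push_cast; rfl)
    · exact (hneg c).trans (by push_cast; rfl)
  refine ⟨φ, (Set.Finite.mem_toFinset hA).2 ⟨?_, fun d => ?_⟩, hall⟩
  · exact HilbPolyX.natDegree_le k ProjTwist.Pn.isAmple_one.1 hG hφ
      ((topologicalKrullDim_subspace_le _ _).trans hD)
  · refine ⟨_, hS d F hF, ?_⟩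
    have h := hall ((d : ℕ) : ℤ)
    rw [(chi_push_eq i hi F (hP F hF) _).2] at h
    simpa [Pic13.twistOn] using h

include hi in
/-- Bounded families on a projective scheme are uniformly regular. -/
theorem exists_regular [Infinite k] {P : X.Modules → Prop} (hP : ∀ F, P F → Coh.IsCoh F)
    (hb : Pic13.IsBounded k X P) : ∃ m : ℤ, ∀ F, P F → Pic13.IsMRegular k i F m := by
  classical
  obtain ⟨s, hs⟩ := finite_hilb i hi hP hb
  obtain ⟨c, C, hC, hq⟩ := exists_finite_epi hb
  choose m hm using fun (j : Fin c) (φ : s) => BigVol.QuotBounded.exists_uniform_regular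
    (ProperFin.isCoh_push_of_isFinite i (C j) (hC j)) φ.1
  obtain ⟨M, hM⟩ := (Set.finite_range fun x : Fin c × s => m x.1 x.2).bddAbove
  refine ⟨M, fun F hF => ?_⟩
  haveI : Coh.IsQCoh F := (hP F hF).1
  obtain ⟨φ, hφ, hχ⟩ := hs F hF
  obtain ⟨j, a, ha⟩ := hq F hF
  haveI := ha
  have hG : Coh.IsCoh ((Coh.push i).obj F) := ProperFin.isCoh_push_of_isFinite i F (hP F hF)
  have hpush : Epi ((Coh.push i).map a) :=
    (ProjTwist.Pn.shortExact_push i (S := ShortComplex.mk (kernel.ι a) a (kernel.condition a))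
      { exact := ShortComplex.exact_of_f_is_kernel _ (kernelIsKernel a) }).epi_g
  refine CMReg.isMRegular_of_push i (ProjTwist.Pn.isMRegular_of_le hG.1
    (hm j ⟨φ, hφ⟩ _ ((Coh.push i).map a) hG hpush hχ) ?_)
  exact hM ⟨(j, ⟨φ, hφ⟩), rfl⟩

end Groth.Agent.NumTriv.BddHilb
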