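import Groth.Agent.NumTriv.Ample
import Groth.Agent.EulerFam.Bounded
import Groth.Agent.EulerFam.RegBounded
import Groth.Agent.FreeAlong.Stalk
import Groth.Agent.RankLocus.Basic
import Groth.Agent.SchPoints.Basic
import Groth.Agent.PicLaw.Basic

/-!
# Bounded families of invertible modules meet finitely many algebraic equivalence classes
-/

universe u

open CategoryTheory CategoryTheory.Limits AlgebraicGeometry TopologicalSpace

set_option linter.style.haveILetI false

noncomputable section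

namespace Groth.Agent.NumTriv

open ProjTwist

section Locus

variable {W : Scheme.{u}} (G : W.Modules)

/-- The locus where `G` is invertible. -/
def invLocus : W.Opens :=
  sSup {V : W.Opens | Nonempty (G.restrict V.ι ≅ Coh.structureModule (V : Scheme.{u}))}

theorem fibreRank_eq_of_restrict_iso [G.IsQuasicoherent] {V : W.Opens} {n : ℕ}
    (e : G.restrict V.ι ≅ FlatMod.freeMod (V : Scheme.{u}) n) {z : W} (hz : z ∈ V)
    [Module.Free (W.presheaf.stalk z) (G.presheaf.stalk z)] : Props.QRank.fibreRank G z = n := by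
  obtain ⟨U, hU, hzU, hUV⟩ := exists_isAffineOpen_mem_and_subset hz
  obtain ⟨b⟩ := Props.QProj.free_sections_of_restrict_iso G e hU hUV
  rw [Props.QRank.fibreRank_eq_of_free]
  let _ := Props.QStalk.moduleSections G hzU
  let _ := W.presheaf.algebra_section_stalk ⟨z, hzU⟩
  have : IsScalarTower Γ(W, U) (W.presheaf.stalk z) (G.presheaf.stalk z) :=
    IsScalarTower.of_algebraMap_smul fun _ _ ↦ rfl
  have hL := Props.QStalk.isLocalizedModule_germLin G hzU hU
  have hA : IsLocalization.AtPrime (W.presheaf.stalk z) (hU.primeIdealOf ⟨z, hzU⟩).asIdeal :=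
    hU.isLocalization_stalk ⟨z, hzU⟩
  have : Module.Free Γ(W, U) Γ(G, U) := .of_basis b
  have : Nontrivial Γ(W, U) := (algebraMap Γ(W, U) (W.presheaf.stalk z)).domain_nontrivial
  rw [Module.finrank_of_isLocalizedModule_of_free (W.presheaf.stalk z)
    (hU.primeIdealOf ⟨z, hzU⟩).asIdeal.primeCompl (Props.QStalk.germLin G hzU),
    Module.finrank_eq_card_basis b, Fintype.card_fin]

theorem fibreRank_of_isInvertible {M : W.Modules} (hM : PicF.IsInvertible M) (z : W) :
    Props.QRank.fibreRank M z = 1 := by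
  haveI : M.IsQuasicoherent := isQCoh_of_isInvertible hM
  obtain ⟨V, hz, ⟨φ⟩⟩ := (isFinLocFreeOfRank_one hM) z
  haveI := (Props.QProj.free_stalk M (fun x => by
    obtain ⟨V, hx, e⟩ := (isFinLocFreeOfRank_one hM) x
    exact ⟨V, 1, hx, e⟩) z).1
  exact fibreRank_eq_of_restrict_iso M φ hz

/-- A flat coherent module invertible on a fibre is invertible at its points. -/
theorem mem_invLocus_of_fibre {S X' S' : Scheme.{u}} {f : W ⟶ S} {g : S' ⟶ S} {f' : X' ⟶ S'}
    {g' : X' ⟶ W} [IsLocallyNoetherian W] (hc : IsPullback g' f' f g) (hG : Coh.IsCoh G)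
    (hfl : FlatMod.IsFlatOver f G) (hinv : PicF.IsInvertible ((Scheme.Modules.pullback g').obj G))
    (x' : X') : g' x' ∈ invLocus G := by
  haveI : G.IsQuasicoherent := hG.1
  obtain ⟨U, hU, hxU, -⟩ := exists_isAffineOpen_mem_and_subset (X := W) (Opens.mem_top (g' x'))
  have hfp : Module.FinitePresentation Γ(W, U) Γ(G, U) :=
    (Props.QFP.isFP_iff G).mp (HomShQC.isFP_of_isCoh G hG) U hU
  haveI : IsNoetherianRing Γ(W, U) := IsLocallyNoetherian.component_noetherian ⟨U, hU⟩
  haveI := hfp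
  haveI : Module.Finite (W.presheaf.stalk (g' x')) (G.presheaf.stalk (g' x')) :=
    Props.QProj.finite_stalk G hU hxU
  haveI : Module.FinitePresentation (W.presheaf.stalk (g' x')) (G.presheaf.stalk (g' x')) :=
    Module.finitePresentation_of_finite _ _
  haveI : ((Scheme.Modules.pullback g').obj G).IsQuasicoherent := isQCoh_of_isInvertible hinv
  have hfree' := (Props.QProj.free_stalk ((Scheme.Modules.pullback g').obj G) (fun x => by
    obtain ⟨V, hx, e⟩ := (isFinLocFreeOfRank_one hinv) x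
    exact ⟨V, 1, hx, e⟩) x').1
  have hfree := FreeAlong.free_stalk_of_isPullback hc G x' (hfl _) hfree'
  obtain ⟨V, n, hxV, ⟨e⟩⟩ := Props.QProj.exists_free_nhd G hU hxU hfp hfree
  haveI := hfree
  have hn : n = 1 := by
    rw [← fibreRank_eq_of_restrict_iso G e hxV, ← RankLocus.fibreRank_pullback g' G x',
      fibreRank_of_isInvertible hinv x']
  subst hn
  exact Opens.mem_sSup.mpr ⟨V, ⟨e ≪≫
    coproductUniqueIso fun _ : Fin 1 => Coh.structureModule (V : Scheme.{u})⟩, hxV⟩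

theorem isInvertible_restrict_le {U : W.Opens} (hU : U ≤ invLocus G) :
    PicF.IsInvertible ((Scheme.Modules.pullback U.ι).obj G) := by
  intro x
  obtain ⟨V, hV, hxV⟩ := Opens.mem_sSup.mp (hU x.2)
  obtain ⟨e⟩ := hV
  let V' : (U : Scheme.{u}).Opens := U.ι ⁻¹ᵁ V
  let φ : (V' : Scheme.{u}) ⟶ ((V : W.Opens) : Scheme.{u}) := U.ι ∣_ V
  have hφ : φ ≫ Scheme.Opens.ι (X := W) V = V'.ι ≫ U.ι := morphismRestrict_ι U.ι V
  have e₁ : (Scheme.Modules.pullback (Scheme.Opens.ι (X := W) V)).obj G ≅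
      Coh.structureModule ((V : W.Opens) : Scheme.{u}) :=
    ((Scheme.Modules.restrictFunctorIsoPullback _).app G).symm ≪≫ e
  have e₂ : (Scheme.Modules.pullback (V'.ι ≫ U.ι)).obj G ≅
      Coh.structureModule (V' : Scheme.{u}) :=
    (Scheme.Modules.pullbackCongr hφ.symm).app G ≪≫
      ((Scheme.Modules.pullbackComp φ _).app G).symm ≪≫
      (Scheme.Modules.pullback φ).mapIso e₁ ≪≫ QCoh.pullbackUnitIso φ
  exact ⟨V', hxV, ⟨(Scheme.Modules.restrictFunctorIsoPullback V'.ι).app _ ≪≫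
    (Scheme.Modules.pullbackComp V'.ι U.ι).app G ≪≫ e₂⟩⟩

end Locus

variable {k : Type u} [Field k] {X : Scheme.{u}} [X.Over (Spec (CommRingCat.of k))]

/-- Two fibres of an invertible family over a connected base differ by a module algebraically
equivalent to zero. -/
theorem algEquiv_of_family {T : Scheme.{u}} (q : T ⟶ Spec (CommRingCat.of k)) [ConnectedSpace T]
    [LocallyOfFiniteType q] [QuasiCompact q] {G : (Pic13.prodK k X q).Modules}
    (hG : PicF.IsInvertible G) (t t₀ : Spec (CommRingCat.of k) ⟶ T) (ht : t ≫ q = 𝟙 _)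
    (ht₀ : t₀ ≫ q = 𝟙 _) {L M : X.Modules} (eL : Pic13.fibreMod k X q t ht G ≅ L)
    (eM : Pic13.fibreMod k X q t₀ ht₀ G ≅ M) (hM : PicF.IsInvertible M) :
    ∃ N : X.Modules, PicF.IsInvertible N ∧ Pic13.IsAlgEquivZero k X N ∧
      Nonempty (L ≅ CohB1.tensorMod M N) := by
  obtain ⟨M', hM', ⟨e⟩⟩ := PicLaw.exists_inverse hM
  have hL : PicF.IsInvertible L :=
    PicCl.isInvertible_of_iso eL (PicCl.isInvertible_pullback _ hG)
  let p : Pic13.prodK k X q ⟶ X := pullback.fst (X ↘ Spec (CommRingCat.of k)) q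
  refine ⟨CohB1.tensorMod L M', AmpleLib.isInvertible_tensorMod hL hM', ?_, ⟨?_⟩⟩
  · refine ⟨T, q, ‹_›, ‹_›, ‹_›, CohB1.tensorMod ((Scheme.Modules.pullback p).obj M') G,
      AmpleLib.isInvertible_tensorMod (PicCl.isInvertible_pullback p hM') hG, t, t₀, ht, ht₀,
      ?_, ?_⟩
    · obtain ⟨f⟩ := EulerFam.nonempty_slice_iso q t ht M' G
      exact ⟨f ≪≫ tensCongr (Iso.refl M') eL ≪≫ tensComm _ _⟩
    · obtain ⟨f⟩ := EulerFam.nonempty_slice_iso q t₀ ht₀ M' G
      exact ⟨f ≪≫ tensCongr (Iso.refl M') eM ≪≫ tensComm _ _ ≪≫ e⟩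
  · exact (tensOne L).symm ≪≫ tensCongr (Iso.refl L) (e.symm ≪≫ tensComm M M') ≪≫
      (tensAssoc L M' M).symm ≪≫ tensComm _ M

omit [Field k] [X.Over (Spec (CommRingCat.of k))] in
theorem nonempty_powAdd (L : X.Modules) (a : ℕ) : ∀ b : ℕ,
    Nonempty (CohB1.tensorMod (CohB1.tensorPow L a) (CohB1.tensorPow L b) ≅
      CohB1.tensorPow L (a + b))
  | 0 => ⟨tensOne _⟩
  | b + 1 => by
    obtain ⟨e⟩ := nonempty_powAdd L a b
    exact ⟨(tensAssoc _ _ L).symm ≪≫ tensCongr e (Iso.refl L)⟩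

omit [Field k] [X.Over (Spec (CommRingCat.of k))] in
theorem nonempty_cancel {M A B : X.Modules} (hM : PicF.IsInvertible M)
    (e : CohB1.tensorMod M A ≅ CohB1.tensorMod M B) : Nonempty (A ≅ B) := by
  obtain ⟨M', -, ⟨f⟩⟩ := PicLaw.exists_inverse hM
  have g : ∀ C : X.Modules, Nonempty (C ≅ CohB1.tensorMod M' (CohB1.tensorMod M C)) := fun C =>
    ⟨(tensOne C).symm ≪≫ tensComm _ _ ≪≫ tensCongr (f.symm ≪≫ tensComm M M') (Iso.refl C) ≪≫
      tensAssoc M' M C⟩
  obtain ⟨gA⟩ := g A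
  obtain ⟨gB⟩ := g B
  exact ⟨gA ≪≫ tensCongr (Iso.refl M') e ≪≫ gB.symm⟩

variable [IsProper (X ↘ Spec (CommRingCat.of k))]

/-- The classes of a family over one flat piece. -/
theorem exists_classes_flat {T Z : Scheme.{u}} (q : T ⟶ Spec (CommRingCat.of k))
    [LocallyOfFiniteType q] [QuasiCompact q] {G : (Pic13.prodK k X q).Modules} (hG : Coh.IsCoh G)
    (j : Z ⟶ T) [IsImmersion j]
    (hfl : FlatMod.IsFlatOver (pullback.snd (pullback.snd (X ↘ Spec (CommRingCat.of k)) q) j)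
      ((Scheme.Modules.pullback
        (pullback.fst (pullback.snd (X ↘ Spec (CommRingCat.of k)) q) j)).obj G)) :
    ∃ (ι : Type u) (_ : Finite ι) (Cl : ι → X.Modules → Prop),
      (∀ (t : Spec (CommRingCat.of k) ⟶ T) (ht : t ≫ q = 𝟙 _) (L : X.Modules), PicF.IsInvertible L →
        Set.range t ⊆ Set.range j →
        Nonempty (Pic13.fibreMod k X q t ht G ≅ L) → ∃ a, Cl a L) ∧
      ∀ a L M, Cl a L → Cl a M → PicF.IsInvertible M ∧ ∃ N : X.Modules, PicF.IsInvertible N ∧
          Pic13.IsAlgEquivZero k X N ∧ Nonempty (L ≅ CohB1.tensorMod M N) := by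
  classical
  let f := pullback.snd (X ↘ Spec (CommRingCat.of k)) q
  let f' := pullback.snd f j
  haveI : IsProper f := inferInstanceAs (IsProper (pullback.snd _ _))
  haveI : IsProper f' := inferInstanceAs (IsProper (pullback.snd _ _))
  haveI : IsLocallyNoetherian T := LocallyOfFiniteType.isLocallyNoetherian q
  haveI : IsLocallyNoetherian Z := LocallyOfFiniteType.isLocallyNoetherian j
  haveI : IsLocallyNoetherian (Pic13.prodK k X q) := LocallyOfFiniteType.isLocallyNoetherian f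
  haveI : IsLocallyNoetherian (pullback f j) := LocallyOfFiniteType.isLocallyNoetherian f'
  haveI : CompactSpace T := QuasiCompact.compactSpace_of_compactSpace q
  haveI : IsNoetherian T := ⟨⟩
  haveI : NoetherianSpace Z := j.isEmbedding.isInducing.noetherianSpace
  let G' := (Scheme.Modules.pullback (pullback.fst f j)).obj G
  have hG' : Coh.IsCoh G' := ZClosLib.CohDescent.isCoh_pullback _ G hG
  let U : Z.Opens := ⟨(f' '' ((invLocus G' : Set (pullback f j : Scheme.{u})))ᶜ)ᶜ,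
    (f'.isClosedMap _ (invLocus G').2.isClosed_compl).isOpen_compl⟩
  haveI : NoetherianSpace (U : Scheme.{u}) := U.ι.isOpenEmbedding.isInducing.noetherianSpace
  let C : ↥(U : Scheme.{u}) → (U : Scheme.{u}).Opens := fun u =>
    ⟨connectedComponent u, SchPoints.isOpen_connectedComponent_of_noetherian u⟩
  obtain ⟨F, hF⟩ := isCompact_univ.elim_finite_subcover (fun u => (C u : Set (U : Scheme.{u})))
    (fun u => (C u).2) fun u _ => Set.mem_iUnion.2 ⟨u, mem_connectedComponent⟩
  let Hit : ↥(U : Scheme.{u}) → X.Modules → Prop := fun u L =>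
    ∃ (t : Spec (CommRingCat.of k) ⟶ T) (ht : t ≫ q = 𝟙 _)
      (g : Spec (CommRingCat.of k) ⟶ (C u : Scheme.{u})), g ≫ (C u).ι ≫ U.ι ≫ j = t ∧
      PicF.IsInvertible L ∧ Nonempty (Pic13.fibreMod k X q t ht G ≅ L)
  refine ⟨{u // u ∈ F}, inferInstance, fun u => Hit u.1, ?_, ?_⟩
  swap
  · intro a L M hLa hMa
    obtain ⟨u, _⟩ := a
    obtain ⟨t, ht, g, hg, -, ⟨e⟩⟩ := hLa
    obtain ⟨t₀, ht₀, g₀, hg₀, hM, ⟨e₀⟩⟩ := hMa
    refine ⟨hM, ?_⟩
    let qC : (C u : Scheme.{u}) ⟶ Spec (CommRingCat.of k) := (C u).ι ≫ U.ι ≫ j ≫ q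
    haveI : ConnectedSpace (C u : Scheme.{u}) :=
      isConnected_iff_connectedSpace.1 isConnected_connectedComponent
    haveI : NoetherianSpace (C u : Scheme.{u}) := (C u).ι.isOpenEmbedding.isInducing.noetherianSpace
    haveI : QuasiCompact qC :=
      (HasAffineProperty.iff_of_isAffine (P := @QuasiCompact)).2 inferInstance
    let P₀ : Pic13.prodK k X qC ⟶ Pic13.prodK k X q :=
      pullback.map _ _ _ _ (𝟙 X) ((C u).ι ≫ U.ι ≫ j) (𝟙 _) (by simp) (by simp [qC])
    let P : Pic13.prodK k X qC ⟶ pullback f j :=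
      pullback.lift P₀ (pullback.snd _ qC ≫ (C u).ι ≫ U.ι) (by
        simp only [P₀, f, pullback.map, pullback.lift_snd, Category.assoc])
    have hP : ∀ (s : Spec (CommRingCat.of k) ⟶ (C u : Scheme.{u})) (hs : s ≫ qC = 𝟙 _)
        (r : Spec (CommRingCat.of k) ⟶ T) (hr : r ≫ q = 𝟙 _), s ≫ (C u).ι ≫ U.ι ≫ j = r →
        Pic13.sliceAt k X qC s hs ≫ P ≫ pullback.fst f j = Pic13.sliceAt k X q r hr :=
      fun s hs r hr h => by
      rw [show P ≫ pullback.fst f j = P₀ from pullback.lift_fst _ _ _]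
      refine pullback.hom_ext ?_ ?_
      · simp only [Pic13.sliceAt, P₀, pullback.map, Category.assoc, Category.comp_id]
        erw [pullback.lift_fst, pullback.lift_fst, pullback.lift_fst]
      · simp only [Pic13.sliceAt, P₀, pullback.map, Category.assoc, pullback.lift_snd,
          pullback.lift_snd_assoc]
        rw [h]
    have hGP : PicF.IsInvertible ((Scheme.Modules.pullback P).obj G') := by
      let V : (pullback f j : Scheme.{u}).Opens := f' ⁻¹ᵁ U
      have hV : V ≤ invLocus G' := fun w hw => by_contra fun h => hw ⟨w, h, rfl⟩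
      have hrP : Set.range P ⊆ Set.range V.ι := by
        rintro _ ⟨w, rfl⟩
        rw [Scheme.Opens.range_ι]
        show f' (P w) ∈ U
        have : P ≫ f' = pullback.snd _ qC ≫ (C u).ι ≫ U.ι := pullback.lift_snd _ _ _
        rw [← Scheme.Hom.comp_apply, this]
        exact ((C u).ι (pullback.snd _ qC w)).2
      exact PicCl.isInvertible_of_iso
        (((Scheme.Modules.pullbackComp _ V.ι).app G') ≪≫
          (Scheme.Modules.pullbackCongr (IsOpenImmersion.lift_fac V.ι P hrP)).app G')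
        (PicCl.isInvertible_pullback (IsOpenImmersion.lift V.ι P hrP)
          (isInvertible_restrict_le G' hV))
    have hs : ∀ (s : Spec (CommRingCat.of k) ⟶ (C u : Scheme.{u}))
        (r : Spec (CommRingCat.of k) ⟶ T), r ≫ q = 𝟙 _ → s ≫ (C u).ι ≫ U.ι ≫ j = r → s ≫ qC = 𝟙 _ :=
      fun s r hr h => by
        rw [show s ≫ qC = (s ≫ (C u).ι ≫ U.ι ≫ j) ≫ q by simp [qC], h, hr]
    have efib : ∀ (s : Spec (CommRingCat.of k) ⟶ (C u : Scheme.{u})) (hs' : s ≫ qC = 𝟙 _)
        (r : Spec (CommRingCat.of k) ⟶ T) (hr : r ≫ q = 𝟙 _), s ≫ (C u).ι ≫ U.ι ≫ j = r →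
        Nonempty (Pic13.fibreMod k X qC s hs' ((Scheme.Modules.pullback P).obj G') ≅
          Pic13.fibreMod k X q r hr G) := fun s hs' r hr h =>
      ⟨(Scheme.Modules.pullback (Pic13.sliceAt k X qC s hs')).mapIso
          ((Scheme.Modules.pullbackComp _ _).app G) ≪≫
        (Scheme.Modules.pullbackComp _ _).app G ≪≫
        (Scheme.Modules.pullbackCongr (hP s hs' r hr h)).app G⟩
    obtain ⟨a⟩ := efib g (hs g t ht hg) t ht hg
    obtain ⟨a₀⟩ := efib g₀ (hs g₀ t₀ ht₀ hg₀) t₀ ht₀ hg₀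
    exact algEquiv_of_family qC hGP g g₀ (hs g t ht hg) (hs g₀ t₀ ht₀ hg₀)
      (a ≪≫ e) (a₀ ≪≫ e₀) hM
  intro t ht L hL hrt ⟨e⟩
  let z : Spec (CommRingCat.of k) := Classical.arbitrary _
  obtain ⟨g₁, hg₁⟩ := RedSub.exists_lift j t hrt
  have hsl : Pic13.sliceAt k X q t ht ≫ f = (X ↘ Spec (CommRingCat.of k)) ≫ g₁ ≫ j := by
    rw [hg₁]
    exact pullback.lift_snd _ _ _
  let σ : X ⟶ pullback f j := pullback.lift (Pic13.sliceAt k X q t ht)
    ((X ↘ Spec (CommRingCat.of k)) ≫ g₁) (by rw [hsl, Category.assoc])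
  have sq : IsPullback σ (X ↘ Spec (CommRingCat.of k)) f' g₁ := by
    refine IsPullback.of_right ?_ (pullback.lift_snd _ _ _) (IsPullback.of_hasPullback f j)
    rw [show σ ≫ pullback.fst f j = Pic13.sliceAt k X q t ht from pullback.lift_fst _ _ _, hg₁]
    exact EulerFam.isPullback_slice q t ht
  have eσ : (Scheme.Modules.pullback σ).obj G' ≅ Pic13.fibreMod k X q t ht G :=
    (Scheme.Modules.pullbackComp _ _).app G ≪≫
      (Scheme.Modules.pullbackCongr (pullback.lift_fst _ _ _)).app G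
  have htU : g₁ z ∈ U := by
    rintro ⟨w, hw, hwt⟩
    refine hw ?_
    obtain ⟨v, hv, -⟩ := Scheme.Pullback.exists_preimage_pullback (f := f') (g := g₁) w z hwt
    have hr : w ∈ Set.range σ := ⟨sq.isoPullback.inv v, by
      rw [← Scheme.Hom.comp_apply, sq.isoPullback_inv_fst]
      exact hv⟩
    obtain ⟨x', rfl⟩ := hr
    exact mem_invLocus_of_fibre G' sq hG' hfl
      (PicCl.isInvertible_of_iso (eσ ≪≫ e).symm hL) x'
  obtain ⟨u, huF, huC⟩ := Set.mem_iUnion₂.1 (hF (Set.mem_univ (⟨g₁ z, htU⟩ : (U : Scheme.{u}))))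
  have hr : Set.range g₁ ⊆ Set.range ((C u).ι ≫ U.ι) := by
    rintro _ ⟨w, rfl⟩
    rw [Subsingleton.elim w z]
    exact ⟨(⟨⟨g₁ z, htU⟩, huC⟩ : (C u : Scheme.{u})), rfl⟩
  obtain ⟨g, hg⟩ : ∃ g : Spec (CommRingCat.of k) ⟶ (C u : Scheme.{u}),
      g ≫ (C u).ι ≫ U.ι ≫ j = t :=
    ⟨IsOpenImmersion.lift ((C u).ι ≫ U.ι) g₁ hr, by
      rw [← Category.assoc (C u).ι, IsOpenImmersion.lift_fac_assoc, hg₁]⟩
  exact ⟨⟨u, huF⟩, t, ht, g, hg, hL, ⟨e⟩⟩

/-- A bounded family of invertible modules is covered by finitely many sets of algebraically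
equivalent modules. -/
theorem exists_algClasses_of_isBounded {P : X.Modules → Prop} (hb : Pic13.IsBounded k X P)
    (hP : ∀ L, P L → PicF.IsInvertible L) :
    ∃ (ι : Type u) (_ : Finite ι) (Cl : ι → X.Modules → Prop), (∀ L, P L → ∃ a, Cl a L) ∧
      ∀ a L M, Cl a L → Cl a M → PicF.IsInvertible M ∧ ∃ N : X.Modules, PicF.IsInvertible N ∧
        Pic13.IsAlgEquivZero k X N ∧ Nonempty (L ≅ CohB1.tensorMod M N) := by
  classical
  obtain ⟨T, q, hft, hqc, G, hG, hfib⟩ := hb
  haveI := hft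
  haveI := hqc
  let f := pullback.snd (X ↘ Spec (CommRingCat.of k)) q
  haveI : IsProper f := inferInstanceAs (IsProper (pullback.snd _ _))
  haveI : IsLocallyNoetherian T := LocallyOfFiniteType.isLocallyNoetherian q
  haveI : IsLocallyNoetherian (Pic13.prodK k X q) := LocallyOfFiniteType.isLocallyNoetherian f
  haveI : CompactSpace T := QuasiCompact.compactSpace_of_compactSpace q
  haveI : IsNoetherian T := ⟨⟩
  haveI : LocallyOfFinitePresentation f := MonoVal.locallyOfFinitePresentation_of_lft f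
  obtain ⟨n, I, hmono, htop, h0, -, hflat⟩ := S1455.result f G hG.1 (HomShQC.isFP_of_isCoh G hG)
  let Z : ∀ i : Fin n, Scheme.{u} := fun i =>
    (((I i.castSucc).subschemeι ⁻¹ᵁ (I i.succ).support.compl : (I i.castSucc).subscheme.Opens))
  let j : ∀ i : Fin n, Z i ⟶ T := fun i =>
    ((I i.castSucc).subschemeι ⁻¹ᵁ (I i.succ).support.compl).ι ≫ (I i.castSucc).subschemeι
  haveI : ∀ i, IsImmersion (j i) := fun i => by
    dsimp only [j]; infer_instance
  haveI : ∀ i, IsLocallyNoetherian (Z i) := fun i =>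
    LocallyOfFiniteType.isLocallyNoetherian (j i)
  haveI : ∀ i, NoetherianSpace (Z i) := fun i => (j i).isEmbedding.isInducing.noetherianSpace
  choose ι hι Cl hcov hpair using fun i => exists_classes_flat q hG (j i) (hflat i)
  haveI := hι
  refine ⟨(i : Fin n) × ι i, inferInstance, fun a => Cl a.1 a.2, fun L hL => ?_,
    fun a => hpair a.1 a.2⟩
  obtain ⟨t, ht, ⟨e⟩⟩ := hfib L hL
  let z : Spec (CommRingCat.of k) := Classical.arbitrary _
  obtain ⟨i, hi1, hi2⟩ : ∃ i : Fin n, t.base z ∈ (I i.castSucc).support ∧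
      t.base z ∉ (I i.succ).support := by
    by_contra hno
    push Not at hno
    have : ∀ a : Fin (n + 1), t.base z ∈ (I a).support := fun a => by
      induction a using Fin.induction with
      | zero => rw [← SetLike.mem_coe, h0]; trivial
      | succ a ih => exact hno a ih
    have h1 := this (Fin.last n)
    rw [htop, Scheme.IdealSheafData.support_top] at h1
    exact h1.elim
  have hr : Set.range t ⊆ Set.range (j i) := by
    rintro _ ⟨w, rfl⟩
    rw [Subsingleton.elim w z]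
    have hs : t.base z ∈ Set.range (I i.castSucc).subschemeι := by
      rw [Scheme.IdealSheafData.range_subschemeι]
      exact hi1
    obtain ⟨y, hy⟩ := hs
    refine ⟨⟨y, ?_⟩, hy⟩
    change (I i.castSucc).subschemeι y ∈ ((I i.succ).support.compl : T.Opens)
    rw [hy]
    exact hi2
  obtain ⟨a, ha⟩ := hcov i t ht L (hP L hL) hr ⟨e⟩
  exact ⟨⟨i, a⟩, ha⟩

/-- A bounded family of invertible modules meets finitely many algebraic equivalence classes. -/
theorem exists_classes_of_isBounded {P : X.Modules → Prop} (hb : Pic13.IsBounded k X P)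
    (hP : ∀ L, P L → PicF.IsInvertible L) :
    ∃ (q : ℕ) (M : Fin q → X.Modules), (∀ j, PicF.IsInvertible (M j)) ∧ ∀ L, P L →
      ∃ (j : Fin q) (N : X.Modules), PicF.IsInvertible N ∧ Pic13.IsAlgEquivZero k X N ∧
        Nonempty (L ≅ CohB1.tensorMod (M j) N) := by
  classical
  obtain ⟨ι, _, Cl, hcov, hpair⟩ := exists_algClasses_of_isBounded hb hP
  obtain ⟨q, ⟨φ⟩⟩ := Finite.exists_equiv_fin ι
  let M : ι → X.Modules := fun a => if h : ∃ L, Cl a L then h.choose else Coh.structureModule X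
  refine ⟨q, fun j => M (φ.symm j), fun j => ?_, fun L hL => ?_⟩
  · simp only [M]
    split
    · next h => exact (hpair _ _ _ h.choose_spec h.choose_spec).1
    · exact LFFrame.isInvertible_structureModule X
  · obtain ⟨a, ha⟩ := hcov L hL
    refine ⟨φ a, ?_⟩
    have h : ∃ L, Cl a L := ⟨L, ha⟩
    have hMa : M a = h.choose := dif_pos h
    simp only [Equiv.symm_apply_apply, hMa]
    exact (hpair a L _ ha h.choose_spec).2

/-- If all powers of `L` lie in a bounded family, `L` is τ-equivalent to zero. -/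
theorem isTauEquivZero_of_isBounded_pow {P : X.Modules → Prop} (hb : Pic13.IsBounded k X P)
    (hP : ∀ L, P L → PicF.IsInvertible L) {L : X.Modules}
    (hpow : ∀ j : ℕ, P (CohB1.tensorPow L j)) : Pic13.IsTauEquivZero k X L := by
  obtain ⟨ι, _, Cl, hcov, hpair⟩ := exists_algClasses_of_isBounded hb hP
  choose c hc using fun j => hcov _ (hpow j)
  obtain ⟨a, b, hab, hcab⟩ := Finite.exists_ne_map_eq_of_infinite c
  wlog hlt : a < b generalizing a b with H
  · exact H b a (Ne.symm hab) hcab.symm (by omega)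
  obtain ⟨hM, N, -, hN, ⟨f⟩⟩ := hpair (c b) _ _ (hc b) (hcab ▸ hc a)
  obtain ⟨g⟩ := nonempty_powAdd L a (b - a)
  refine ⟨b - a, by omega, EulerFam.isAlgEquivZero_of_iso ?_ hN⟩
  exact (nonempty_cancel hM
    (f.symm ≪≫ eqToIso (by rw [Nat.add_sub_cancel' hlt.le]) ≪≫ g.symm)).some

/-- `Num1` modules on a closed subscheme of projective space form a bounded family. -/
theorem isBounded_num1 [Infinite k] {n : ℕ} (i : X ⟶ CohB1.ProjSpace n k) [IsClosedImmersion i]
    (hi : i ≫ CohB1.ProjSpace.toSpec n k = X ↘ Spec (CommRingCat.of k)) :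
    Pic13.IsBounded k X (fun M : X.Modules => Num1 k M) := by
  haveI := EulerChar.isNoetherian k (X := X)
  haveI := ProjTwist.Pn.isLocallyNoetherian_projSpace n k
  have hO := ProperFin.isCoh_structureModule X
  obtain ⟨m, hm⟩ := exists_uniform_regular i hi hO
  have hp : ∀ M : X.Modules, Num1 k M → (ProjTwist.Pn.h0Tw (G i (Coh.structureModule X) M) m : ℤ) =
      Curv2.euler k X (Pic13.twistOn k i (Coh.structureModule X) m) := fun M hM => by
    haveI := (isCoh_tens k hM.1 hO).1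
    rw [EulerFam.h0Tw_eq_chi (isCoh_G i hM.1 hO) (CMReg.isMRegular_push i (hm M hM)),
      chi_G i hi hM.1 hO, euler_tens_eq i hi (isCoh_twistOn i hO m) hM]
  let p : ℕ := (Curv2.euler k X (Pic13.twistOn k i (Coh.structureModule X) m)).toNat
  let A := (Scheme.Modules.pullback i).obj (∐ fun _ : Fin (ProjTwist.Pn.h0Tw (∐ fun _ : Fin p =>
    Twist.twistProjSpace n k (-m)) (m + 1)) => Twist.twistProjSpace n k (-(m + 1)))
  let B := (Scheme.Modules.pullback i).obj (∐ fun _ : Fin p => Twist.twistProjSpace n k (-m))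
  have hc : ∀ {ι : Type} [Finite ι] (d : ℤ),
      Coh.IsCoh ((Scheme.Modules.pullback i).obj (∐ fun _ : ι => Twist.twistProjSpace n k d)) :=
    fun {ι} _ d => ZClosLib.CohDescent.isCoh_pullback i _
      (ProjTwist.Pn.isCoh_sum _ fun _ => ProjTwist.Pn.isCoh_twistProjSpace n k d)
  obtain ⟨T, q, hft, hqc, F, hF, hfib⟩ :=
    EulerFam.isBounded_cokernel (k := k) (A := A) (B := B) (hc _) (hc _)
  refine ⟨T, q, hft, hqc, F, hF, fun M hM => hfib M ?_⟩
  let e : CohB1.tensorMod (Coh.structureModule X) M ≅ M := tensComm _ _ ≪≫ tensOne M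
  haveI := (isCoh_tens k hM.1 hO).1
  obtain ⟨φ, ⟨ψ⟩⟩ := EulerFam.exists_iso_cokernel i (isCoh_tens k hM.1 hO) (hm M hM) (p := p) (by
    rw [← EulerFam.h0Tw_eq_chi (isCoh_G i hM.1 hO) (CMReg.isMRegular_push i (hm M hM))]
    have := hp M hM
    simp only [p]
    omega)
  exact ⟨φ, ⟨ψ ≪≫ e⟩⟩

end Groth.Agent.NumTriv
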