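import Groth.Agent.SHomIso.Basic
import Groth.Agent.ProjTwist.Tensor
import Groth.Agent.KFlat.Hom
import Groth.Agent.ModFlat.Assoc
import Groth.Agent.HomShEval.QCoh
import Mathlib.CategoryTheory.Adjunction.Unique

/-!
# Twists by an invertible module as kernels of maps of internal homs
-/

universe u

open CategoryTheory CategoryTheory.Limits AlgebraicGeometry MonoidalCategory

set_option linter.style.haveILetI false

noncomputable section

namespace Groth.Agent.NumTriv.HomKernel

open ProjTwist

variable {X : Scheme.{u}}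

local instance hasHom (M : X.Modules) : DCoh.HasSheafHom M := KFlat.hasSheafHom_scheme M

/-- The internal hom. -/
abbrev ihom (B F : X.Modules) : X.Modules := (DCoh.sheafHom B).obj F

theorem isCoh_ihom [IsLocallyNoetherian X] {B F : X.Modules} (hB : Coh.IsCoh B) (hF : Coh.IsCoh F) :
    Coh.IsCoh (ihom B F) := by
  obtain ⟨e⟩ := SHomIso.Basic.nonempty_iso B F
  exact CohDev.isCoh_of_iso e.symm (HomShEval.QCoh.isCoh_homSh B F hB hF)

/-- `O ⊗ -` is the identity. -/
def unitNatIso : (DCoh.tensorBi (X := X)).obj (Coh.structureModule X) ≅ 𝟭 X.Modules :=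
  NatIso.ofComponents (fun N => KFlat.TensorLocFree.unitTensorIso N) fun {N N'} f => by
    let S := ModSite.shPre X.sheaf
    let P := ModSite.toPre X.sheaf
    have h₁ : S.map (P.obj (Coh.structureModule X) ◁ P.map f) ≫ S.map (λ_ (P.obj N')).hom =
        S.map (λ_ (P.obj N)).hom ≫ S.map (P.map f) := by
      rw [← S.map_comp, ← S.map_comp]
      exact congrArg S.map (MonoidalCategory.leftUnitor_naturality _)
    have h₂ := (KFlat.preAdj X.sheaf).counit.naturality f
    change S.map (P.obj (Coh.structureModule X) ◁ P.map f) ≫ S.map (λ_ (P.obj N')).hom ≫ _ =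
      (S.map (λ_ (P.obj N)).hom ≫ _) ≫ f
    rw [reassoc_of% h₁, Category.assoc]
    exact congrArg (S.map (λ_ (P.obj N)).hom ≫ ·) h₂

/-- Composition with the inverse is the identity. -/
def cancelIso {C L : X.Modules} (e : CohB1.tensorMod L C ≅ Coh.structureModule X) :
    (DCoh.tensorBi (X := X)).obj C ⋙ (DCoh.tensorBi (X := X)).obj L ≅ 𝟭 X.Modules :=
  (((ModFlat.tensorBiAssoc X.sheaf).app L).app C).symm ≪≫
    (DCoh.tensorBi (X := X)).mapIso e ≪≫ unitNatIso

theorem nonempty_ihom_iso {C L : X.Modules} (e : CohB1.tensorMod L C ≅ Coh.structureModule X)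
    (F : X.Modules) : Nonempty (ihom C F ≅ CohB1.tensorMod L F) := by
  let T := (DCoh.tensorBi (X := X)).obj C
  let T' := (DCoh.tensorBi (X := X)).obj L
  let E : X.Modules ≌ X.Modules :=
    CategoryTheory.Equivalence.mk T T' (cancelIso e).symm (cancelIso (tensComm C L ≪≫ e))
  exact ⟨((DCoh.sheafHomAdj C).rightAdjointUniq E.toAdjunction).app F⟩

variable (F : X.Modules) {A B : X.Modules} (a : A ⟶ B)

/-- Precomposition. -/
def pre : ihom B F ⟶ ihom A F :=
  (DCoh.sheafHomAdj A).homEquiv _ _
    (((DCoh.tensorBi (X := X)).map a).app _ ≫ (DCoh.sheafHomAdj B).counit.app F)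

theorem symm_comp_pre {W : X.Modules} (x : W ⟶ ihom B F) :
    ((DCoh.sheafHomAdj A).homEquiv W F).symm (x ≫ pre F a) =
      ((DCoh.tensorBi (X := X)).map a).app W ≫ ((DCoh.sheafHomAdj B).homEquiv W F).symm x := by
  rw [Adjunction.homEquiv_naturality_left_symm, pre, Equiv.symm_apply_apply,
    Adjunction.homEquiv_counit (adj := DCoh.sheafHomAdj B), NatTrans.naturality_assoc]

theorem nonempty_kernel_pre_iso : Nonempty (ihom (cokernel a) F ≅ kernel (pre F a)) := by
  have hG : ∀ W : X.Modules,
      PreservesColimit (parallelPair a 0) ((DCoh.tensorBi (X := X)).flip.obj W) := fun W =>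
    haveI : PreservesColimitsOfSize.{0, 0} ((DCoh.tensorBi (X := X)).flip.obj W) :=
      KFlat.TensorLocFree.preservesColimits_tensorBi_flip_obj W
    inferInstance
  let adjA := DCoh.sheafHomAdj A
  let adjB := DCoh.sheafHomAdj B
  let adjC := DCoh.sheafHomAdj (cokernel a)
  let π := cokernel.π a
  let g := pre F π
  have hg : g ≫ pre F a = 0 := by
    apply (adjA.homEquiv _ _).symm.injective
    rw [symm_comp_pre, Adjunction.homEquiv_counit, Adjunction.homEquiv_counit, Functor.map_zero,
      zero_comp, ← adjB.homEquiv_counit, show g = 𝟙 _ ≫ pre F π from (Category.id_comp _).symm,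
      symm_comp_pre, ← Category.assoc, ← NatTrans.comp_app, ← Functor.map_comp,
      cokernel.condition, Functor.map_zero]
    exact zero_comp
  have hex : ∀ {W : X.Modules} (x : W ⟶ ihom B F), x ≫ pre F a = 0 →
      ∃! z : W ⟶ ihom (cokernel a) F, z ≫ g = x := fun {W} x hx => by
    have hx' : ((DCoh.tensorBi (X := X)).flip.obj W).map a ≫ (adjB.homEquiv W F).symm x = 0 := by
      have h := congrArg (adjA.homEquiv W F).symm hx
      rw [symm_comp_pre, Adjunction.homEquiv_counit adjA, Functor.map_zero, zero_comp] at h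
      exact h
    haveI := hG W
    let hc := isColimitOfHasCokernelOfPreservesColimit ((DCoh.tensorBi (X := X)).flip.obj W) a
    obtain ⟨d, hd⟩ := CokernelCofork.IsColimit.desc' hc _ hx'
    refine ⟨adjC.homEquiv W F d, ?_, fun z hz => ?_⟩
    · apply (adjB.homEquiv W F).symm.injective
      rw [symm_comp_pre, Equiv.symm_apply_apply]
      exact hd
    · apply (adjC.homEquiv W F).symm.injective
      rw [Equiv.symm_apply_apply]
      refine Cofork.IsColimit.hom_ext hc ?_
      refine Eq.trans ?_ hd.symm
      have := congrArg (adjB.homEquiv W F).symm hz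
      rwa [symm_comp_pre] at this
  refine ⟨IsLimit.conePointUniqueUpToIso
    (KernelFork.IsLimit.ofι g hg (fun x hx => (hex x hx).exists.choose)
      (fun x hx => (hex x hx).exists.choose_spec)
      (fun x hx z hz => (hex x hx).unique hz (hex x hx).exists.choose_spec))
    (limit.isLimit _)⟩

/-- `F ⊗ L` as a kernel between fixed modules, if `L ⊗ coker a ≅ O`. -/
theorem nonempty_tensor_iso_kernel {L : X.Modules}
    (e : CohB1.tensorMod L (cokernel a) ≅ Coh.structureModule X) :
    Nonempty (CohB1.tensorMod F L ≅ kernel (pre F a)) := by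
  obtain ⟨e₁⟩ := nonempty_ihom_iso e F
  obtain ⟨e₂⟩ := nonempty_kernel_pre_iso F a
  exact ⟨tensComm F L ≪≫ e₁.symm ≪≫ e₂⟩

end Groth.Agent.NumTriv.HomKernel
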