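import Groth.Agent.NumTriv.Proper
import Groth.Agent.NumTriv.Family
import Groth.Agent.NumTriv.HomKernel
import Groth.Agent.CohDev.AR
import Groth.Agent.ScSupp.Basic
import Groth.Agent.FDesc.GenericQuot

/-!
# Embedding coherent modules into modules whose numerically trivial twists are kernels between
fixed modules
-/

universe u

open CategoryTheory CategoryTheory.Limits AlgebraicGeometry TopologicalSpace

set_option linter.style.haveILetI false

noncomputable section

namespace Groth.Agent.NumTriv.Embed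

open ProjTwist

variable (k : Type u) [Field k]

/-- All twists of `P` by `Num1` modules are kernels of maps between two fixed coherent modules. -/
def Nice {X : Scheme.{u}} [X.Over (Spec (CommRingCat.of k))] (P : X.Modules) : Prop :=
  Coh.IsCoh P ∧ ∃ H H' : X.Modules, Coh.IsCoh H ∧ Coh.IsCoh H' ∧
    ∀ M : X.Modules, Num1 k M → ∃ f : H ⟶ H', Nonempty (CohB1.tensorMod P M ≅ kernel f)

variable {k} {X : Scheme.{u}} [X.Over (Spec (CommRingCat.of k))]
  [IsProper (X ↘ Spec (CommRingCat.of k))]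

omit [Field k] [X.Over (Spec (CommRingCat.of k))] [IsProper (X ↘ Spec (CommRingCat.of k))] in
theorem nonempty_kernel_biprod {A A' B B' : X.Modules} (f : A ⟶ A') (g : B ⟶ B') :
    Nonempty (kernel f ⊞ kernel g ≅ kernel (biprod.map f g)) := by
  have w : biprod.map (kernel.ι f) (kernel.ι g) ≫ biprod.map f g = 0 := by
    refine biprod.hom_ext' _ _ ?_ ?_ <;> simp
  haveI : Mono (biprod.map (kernel.ι f) (kernel.ι g)) :=
    Preadditive.mono_of_cancel_zero _ fun {W} z hz => by
      refine biprod.hom_ext _ _ ?_ ?_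
      · rw [← cancel_mono (kernel.ι f), zero_comp]
        have := congrArg (· ≫ biprod.fst) hz
        simpa using this
      · rw [← cancel_mono (kernel.ι g), zero_comp]
        have := congrArg (· ≫ biprod.snd) hz
        simpa using this
  refine ⟨IsLimit.conePointUniqueUpToIso (KernelFork.IsLimit.ofι _ w
    (fun {W} x hx => biprod.lift
      (kernel.lift f (x ≫ biprod.fst) (by
        have := congrArg (· ≫ biprod.fst) hx
        simpa using this))
      (kernel.lift g (x ≫ biprod.snd) (by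
        have := congrArg (· ≫ biprod.snd) hx
        simpa using this)))
    (fun {W} x hx => by refine biprod.hom_ext _ _ ?_ ?_ <;> simp)
    (fun {W} x hx z hz => by
      rw [← cancel_mono (biprod.map (kernel.ι f) (kernel.ι g)), hz]
      refine biprod.hom_ext _ _ ?_ ?_ <;> simp)) (limit.isLimit _)⟩

omit [IsProper (X ↘ Spec (CommRingCat.of k))] in
theorem nice_biprod {P Q : X.Modules} (hP : Nice k P) (hQ : Nice k Q) : Nice k (P ⊞ Q) := by
  obtain ⟨hPc, H, H', hH, hH', hPf⟩ := hP
  obtain ⟨hQc, K, K', hK, hK', hQf⟩ := hQ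
  refine ⟨CohDev.isCoh_biprod hPc hQc, H ⊞ K, H' ⊞ K', CohDev.isCoh_biprod hH hK,
    CohDev.isCoh_biprod hH' hK', fun M hM => ?_⟩
  obtain ⟨f, ⟨ef⟩⟩ := hPf M hM
  obtain ⟨g, ⟨eg⟩⟩ := hQf M hM
  obtain ⟨e⟩ := nonempty_kernel_biprod f g
  exact ⟨biprod.map f g,
    ⟨(show CohB1.tensorMod (P ⊞ Q) M ≅ CohB1.tensorMod P M ⊞ CohB1.tensorMod Q M from
      haveI := preservesBinaryBiproducts_of_preservesBiproducts ((DCoh.tensorBi (X := X)).flip.obj M)
      ((DCoh.tensorBi (X := X)).flip.obj M).mapBiprod P Q) ≪≫ biprod.mapIso ef eg ≪≫ e⟩⟩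

section Push

variable {Y : Scheme.{u}} [Y.Over (Spec (CommRingCat.of k))]
  [IsProper (Y ↘ Spec (CommRingCat.of k))] (π : Y ⟶ X)
  (hπ : π ≫ (X ↘ Spec (CommRingCat.of k)) = Y ↘ Spec (CommRingCat.of k))

include hπ in
theorem isCoh_push {F : Y.Modules} (hF : Coh.IsCoh F) :
    Coh.IsCoh ((Scheme.Modules.pushforward π).obj F) :=
  haveI : EnoughInjectives Y.Modules := ModShf.schemeModulesEnoughInjectives _
  CohDev.isCoh_of_iso ((Scheme.Modules.pushforward π).rightDerivedZeroIsoSelf.app F)
    (isCoh_rpush (k := k) π hπ hF 0)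

include hπ in
theorem nice_push {F : Y.Modules} (hF : Nice k F) :
    Nice k ((Scheme.Modules.pushforward π).obj F) := by
  haveI : EnoughInjectives Y.Modules := ModShf.schemeModulesEnoughInjectives _
  haveI := isProper_of_over (k := k) π hπ
  obtain ⟨hFc, H, H', hH, hH', hf⟩ := hF
  refine ⟨isCoh_push (k := k) π hπ hFc, _, _, isCoh_push (k := k) π hπ hH,
    isCoh_push (k := k) π hπ hH', fun M hM => ?_⟩
  obtain ⟨f, ⟨e⟩⟩ := hf _ (num1_pullback π hπ hM)
  obtain ⟨φ⟩ := ProjForm.nonempty_rpush_tensor π F (ProjForm.isFinLocFree_of_isInvertible hM.1) 0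
  refine ⟨(Scheme.Modules.pushforward π).map f, ⟨?_⟩⟩
  let z : ∀ N : Y.Modules, (Coh.Rpush π 0).obj N ≅ (Scheme.Modules.pushforward π).obj N :=
    fun N => (Scheme.Modules.pushforward π).rightDerivedZeroIsoSelf.app N
  have φ' : CohB1.tensorMod M ((Coh.Rpush π 0).obj F) ≅
      (Coh.Rpush π 0).obj (CohB1.tensorMod ((Scheme.Modules.pullback π).obj M) F) := φ
  exact tensCongr (z F).symm (Iso.refl M) ≪≫ tensComm _ _ ≪≫ φ' ≪≫
    z _ ≪≫ (Scheme.Modules.pushforward π).mapIso (tensComm _ _ ≪≫ e) ≪≫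
    PreservesKernel.iso (Scheme.Modules.pushforward π) f

end Push

omit [Field k] [X.Over (Spec (CommRingCat.of k))] [IsProper (X ↘ Spec (CommRingCat.of k))] in
/-- The unit is injective on stalks over an open where the morphism is an isomorphism. -/
theorem unit_stalk_injective {Y : Scheme.{u}} (π : Y ⟶ X) (U : X.Opens) [IsIso (π ∣_ U)] (y : X)
    (hy : y ∈ U) (G : X.Modules) : Function.Injective (PullStalk.Exact.stalkLin
      ((Scheme.Modules.pullbackPushforwardAdjunction π).unit.app G) y) := by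
  obtain ⟨w, hw⟩ : ∃ w : (π ⁻¹ᵁ U : Y.Opens), (π ∣_ U) w = ⟨y, hy⟩ :=
    (asIso (π ∣_ U)).hom.surjective ⟨y, hy⟩
  have hwy : π w.1 = y := by
    rw [← morphismRestrict_base_coe π U w]
    exact congrArg Subtype.val hw
  subst hwy
  have hb : Function.Bijective (π.stalkMap w.1).hom := by
    have h1 : IsIso (π.stalkMap w.1) :=
      (MorphismProperty.isomorphisms CommRingCat).arrow_mk_iso_iff
        (morphismRestrictStalkMap π U w) |>.1 (inferInstanceAs (IsIso ((π ∣_ U).stalkMap w)))
    exact ConcreteCategory.bijective_of_isIso (π.stalkMap w.1)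
  intro a b hab
  refine (FDesc.GenericQuot.unitStalkHom_bijective π G w.1 hb).1 ?_
  have key : ∀ t, FDesc.GenericQuot.pushStalk π _ w.1 (PullStalk.Exact.stalkLin
      ((Scheme.Modules.pullbackPushforwardAdjunction π).unit.app G) (π w.1) t) =
      PullStalk.Basic.unitStalkHom π G w.1 t :=
    fun t => ClUnit.stalkPushforward_unit π G w.1 t
  rw [← key a, ← key b, hab]

/-- Every coherent module on a closed subscheme of projective space is nice. -/
theorem nice_proj [Infinite k] {n : ℕ} (i : X ⟶ CohB1.ProjSpace n k) [IsClosedImmersion i]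
    (hi : i ≫ CohB1.ProjSpace.toSpec n k = X ↘ Spec (CommRingCat.of k)) {F : X.Modules}
    (hF : Coh.IsCoh F) : Nice k F := by
  haveI := EulerChar.isNoetherian k (X := X)
  haveI := ProjTwist.Pn.isLocallyNoetherian_projSpace n k
  have hO := ProperFin.isCoh_structureModule X
  obtain ⟨m, hm⟩ := exists_uniform_regular i hi hO
  let p : ℕ := (Curv2.euler k X (Pic13.twistOn k i (Coh.structureModule X) m)).toNat
  let A := (Scheme.Modules.pullback i).obj (∐ fun _ : Fin (ProjTwist.Pn.h0Tw (∐ fun _ : Fin p =>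
    Twist.twistProjSpace n k (-m)) (m + 1)) => Twist.twistProjSpace n k (-(m + 1)))
  let B := (Scheme.Modules.pullback i).obj (∐ fun _ : Fin p => Twist.twistProjSpace n k (-m))
  have hc : ∀ {ι : Type} [Finite ι] (d : ℤ),
      Coh.IsCoh ((Scheme.Modules.pullback i).obj (∐ fun _ : ι => Twist.twistProjSpace n k d)) :=
    fun {ι} _ d => ZClosLib.CohDescent.isCoh_pullback i _
      (ProjTwist.Pn.isCoh_sum _ fun _ => ProjTwist.Pn.isCoh_twistProjSpace n k d)
  refine ⟨hF, HomKernel.ihom B F, HomKernel.ihom A F, HomKernel.isCoh_ihom (hc _) hF,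
    HomKernel.isCoh_ihom (hc _) hF, fun M hM => ?_⟩
  obtain ⟨M', hM', ⟨e'⟩⟩ := num1_exists_inverse k hM
  haveI := (isCoh_tens k hM'.1 hO).1
  obtain ⟨φ, ⟨ψ⟩⟩ := EulerFam.exists_iso_cokernel i (isCoh_tens k hM'.1 hO) (hm M' hM') (p := p) (by
    have h1 := EulerFam.h0Tw_eq_chi (isCoh_G i hM'.1 hO) (CMReg.isMRegular_push i (hm M' hM'))
    have h2 : ProjTwist.Pn.chi (G i (Coh.structureModule X) M') m =
        Curv2.euler k X (Pic13.twistOn k i (Coh.structureModule X) m) := by
      rw [chi_G i hi hM'.1 hO, euler_tens_eq i hi (isCoh_twistOn i hO m) hM']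
    have h3 : ((ProjTwist.Pn.h0Tw (G i (Coh.structureModule X) M') m : ℕ) : ℤ) =
        Curv2.euler k X (Pic13.twistOn k i (Coh.structureModule X) m) := h1.trans h2
    refine Eq.trans ?_ h2.symm
    simp only [p]
    omega)
  let e : CohB1.tensorMod M (cokernel φ) ≅ Coh.structureModule X :=
    tensCongr (Iso.refl M) (ψ ≪≫ oneTens M') ≪≫ tensComm M M' ≪≫ e'
  exact ⟨HomKernel.pre F φ, HomKernel.nonempty_tensor_iso_kernel F φ e⟩

variable (k) in
omit [IsProper (X ↘ Spec (CommRingCat.of k))] in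
theorem exists_mono_nice_aux [Infinite k] [IsNoetherian X] : ∀ (T : Closeds X) (Z : Scheme.{u})
    [Z.Over (Spec (CommRingCat.of k))] [IsProper (Z ↘ Spec (CommRingCat.of k))] (i : Z ⟶ X)
    [IsClosedImmersion i],
    i ≫ (X ↘ Spec (CommRingCat.of k)) = Z ↘ Spec (CommRingCat.of k) →
    Set.range i ⊆ (T : Set X) → ∀ G : Z.Modules, Coh.IsCoh G →
      ∃ (P : Z.Modules) (ι : G ⟶ P), Mono ι ∧ Nice k P := by
  intro T
  induction T using WellFoundedLT.induction with
  | _ T IH =>
    intro Z _ _ i _ hi hr G hG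
    haveI := EulerChar.isNoetherian k (X := Z)
    obtain ⟨n, Z', π, j₀, hj₀, hje, hπ, -, U, hU, hiso⟩ :=
      S0025.result (Z ↘ Spec (CommRingCat.of k))
    obtain ⟨eP, heP⟩ := ProperFin.exists_iso_projSpaceOver n k
    let j := j₀ ≫ eP.hom
    letI : Z'.Over (Spec (CommRingCat.of k)) := ⟨π ≫ (Z ↘ Spec (CommRingCat.of k))⟩
    haveI : IsProper (Z' ↘ Spec (CommRingCat.of k)) :=
      inferInstanceAs (IsProper (π ≫ (Z ↘ Spec (CommRingCat.of k))))
    have hj : j ≫ CohB1.ProjSpace.toSpec n k = Z' ↘ Spec (CommRingCat.of k) := by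
      rw [Category.assoc, heP]
      exact hje
    haveI := ProjProper.Basic.isProper_toSpec n k
    haveI : IsProper (j ≫ CohB1.ProjSpace.toSpec n k) := by rw [hj]; infer_instance
    haveI : IsProper j := IsProper.of_comp j (CohB1.ProjSpace.toSpec n k)
    haveI : IsClosedImmersion j := .of_isPreimmersion j j.isClosedMap.isClosed_range
    let η := (Scheme.Modules.pullbackPushforwardAdjunction π).unit.app G
    have hG' := ZClosLib.CohDescent.isCoh_pullback π G hG
    have hP₁ := nice_push (k := k) π rfl (nice_proj j hj hG')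
    rcases isEmpty_or_nonempty Z with hZ | ⟨⟨z₀⟩⟩
    · exact ⟨_, η, ⟨fun a b _ => (CohDev.isZero_of_support_eq_empty
        (Set.eq_empty_of_isEmpty (CohB1.support G))).eq_of_tgt a b⟩, hP₁⟩
    let K := kernel η
    have hK : Coh.IsCoh K := CohDev.isCoh_kernel η hG (isCoh_push (k := k) π rfl hG').1
    haveI := hiso
    have hKs : CohB1.support K ⊆ (U : Set Z)ᶜ := fun y hy hyU =>
      (CohDev.not_mem_support_kernel η
        (unit_stalk_injective π U y hyU G)) hy
    haveI : K.IsQuasicoherent := hK.1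
    haveI : K.IsFiniteType := hK.2
    let I := ScSupp.annIdeal K
    obtain ⟨c, hc⟩ := CohDev.exists_pow_mono_unit (kernel.ι η) hK hG I (CohDev.killed_annIdeal hK)
    let J := I ^ (c + 1)
    let Z₂ := J.subscheme
    let i₂ := J.subschemeι
    letI : Z₂.Over (Spec (CommRingCat.of k)) := ⟨i₂ ≫ (Z ↘ Spec (CommRingCat.of k))⟩
    haveI : IsProper (Z₂ ↘ Spec (CommRingCat.of k)) :=
      inferInstanceAs (IsProper (i₂ ≫ (Z ↘ Spec (CommRingCat.of k))))
    let T' : Closeds X := ⟨Set.range (i₂ ≫ i), (i₂ ≫ i).isClosedMap.isClosed_range⟩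
    have hlt : T' < T := by
      refine lt_of_le_of_ne (fun x hx => ?_) fun he => ?_
      · obtain ⟨w, rfl⟩ := hx
        exact hr ⟨i₂ w, (Scheme.Hom.comp_apply i₂ i w).symm⟩
      · haveI : Nonempty Z := ⟨z₀⟩
        obtain ⟨y, hy⟩ := hU.nonempty
        obtain ⟨w, hw⟩ : i y ∈ (T' : Set X) := he ▸ hr ⟨y, rfl⟩
        rw [Scheme.Hom.comp_apply] at hw
        have hwy : i₂ w = y := i.isClosedEmbedding.injective hw
        have h1 : i₂ w ∈ (J.support : Set Z) := by
          rw [← J.range_subschemeι]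
          exact ⟨w, rfl⟩
        rw [hwy, Scheme.IdealSheafData.support_pow_succ, ScSupp.support_annIdeal] at h1
        exact hKs h1 hy
    obtain ⟨P₂, ι₂, hι₂, hP₂⟩ := IH T' hlt Z₂ (i₂ ≫ i) (by rw [Category.assoc, hi]; rfl)
      subset_rfl _ (ZClosLib.CohDescent.isCoh_pullback i₂ G hG)
    let b := (Scheme.Modules.pullbackPushforwardAdjunction i₂).unit.app G ≫
      (Scheme.Modules.pushforward i₂).map ι₂
    refine ⟨_, biprod.lift η b, Preadditive.mono_of_cancel_zero _ fun {W} z hz => ?_,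
      nice_biprod hP₁ (nice_push (k := k) i₂ rfl hP₂)⟩
    have h1 : z ≫ η = 0 := by
      have := congrArg (· ≫ biprod.fst) hz
      simpa using this
    have h2 : z ≫ b = 0 := by
      have := congrArg (· ≫ biprod.snd) hz
      simpa using this
    haveI := hι₂
    haveI : Mono ((Scheme.Modules.pushforward i₂).map ι₂) := inferInstance
    haveI : Mono (kernel.ι η ≫ (Scheme.Modules.pullbackPushforwardAdjunction i₂).unit.app G) := hc
    have h3 : kernel.lift η z h1 = 0 := by
      rw [← cancel_mono (kernel.ι η ≫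
        (Scheme.Modules.pullbackPushforwardAdjunction i₂).unit.app G), zero_comp,
        kernel.lift_ι_assoc, ← cancel_mono ((Scheme.Modules.pushforward i₂).map ι₂), zero_comp,
        Category.assoc]
      exact h2
    rw [← kernel.lift_ι η z h1, h3, zero_comp]

/-- Every coherent module on a proper scheme embeds into a nice one. -/
theorem exists_mono_nice [Infinite k] {G : X.Modules} (hG : Coh.IsCoh G) :
    ∃ (P : X.Modules) (ι : G ⟶ P), Mono ι ∧ Nice k P :=
  haveI := EulerChar.isNoetherian k (X := X)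
  exists_mono_nice_aux k ⊤ X (𝟙 X) (Category.id_comp _) (Set.subset_univ _) G hG

end Groth.Agent.NumTriv.Embed
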