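import Groth.Agent.NumTriv.KerFam
import Groth.Agent.NumTriv.Embed

/-!
# Numerically trivial invertible modules on a proper scheme form a bounded family
-/

universe u

open CategoryTheory CategoryTheory.Limits AlgebraicGeometry

set_option linter.style.haveILetI false

noncomputable section

namespace Groth.Agent.NumTriv.Bounded

open ProjTwist

variable {k : Type u} [Field k] {X : Scheme.{u}} [X.Over (Spec (CommRingCat.of k))]
  [IsProper (X ↘ Spec (CommRingCat.of k))]

/-- A single coherent module is a bounded family. -/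
theorem isBounded_single {H : X.Modules} (hH : Coh.IsCoh H) :
    Pic13.IsBounded k X (fun N => Nonempty (H ≅ N)) := by
  haveI : IsLocallyNoetherian (Pic13.prodK k X (𝟙 (Spec (CommRingCat.of k)))) :=
    LocallyOfFiniteType.isLocallyNoetherian (pullback.snd (X ↘ Spec (CommRingCat.of k)) (𝟙 _))
  refine ⟨_, 𝟙 _, inferInstance, inferInstance, (Scheme.Modules.pullback (pullback.fst _ _)).obj H,
    ZClosLib.CohDescent.isCoh_pullback _ H hH, fun N ⟨e⟩ => ⟨𝟙 _, Category.id_comp _, ⟨?_⟩⟩⟩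
  exact (Scheme.Modules.pullbackComp _ _).app H ≪≫
    (Scheme.Modules.pullbackCongr (pullback.lift_fst _ _ _)).app H ≪≫
    (Scheme.Modules.pullbackId X).app H ≪≫ e

/-- `Num1` modules form a bounded family. -/
theorem isBounded_num1_proper [Infinite k] :
    Pic13.IsBounded k X (fun M : X.Modules => Num1 k M) := by
  haveI := EulerChar.isNoetherian k (X := X)
  have hO := ProperFin.isCoh_structureModule X
  obtain ⟨P, ι, hι, hP⟩ := Embed.exists_mono_nice (k := k) hO
  haveI := hι
  obtain ⟨hPc, H, H₁, hH, hH₁, hPf⟩ := hP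
  have hC : Coh.IsCoh (cokernel ι) := CohDev.isCoh_cokernel ι hO.1 hPc
  obtain ⟨P', ι', hι', hP'⟩ := Embed.exists_mono_nice (k := k) hC
  obtain ⟨-, H', H₁', hH', -, hPf'⟩ := hP'
  obtain ⟨T, q, hft, hqc, F, hF, h⟩ :=
    KerFam.isBounded_kernel (KerFam.isBounded_kernel (isBounded_single (k := k) hH) hH₁) hH'
  refine ⟨T, q, hft, hqc, F, hF, fun M hM => h M ?_⟩
  obtain ⟨f, ⟨eP⟩⟩ := hPf M hM
  obtain ⟨f', ⟨eP'⟩⟩ := hPf' M hM
  let S := ShortComplex.mk ι (cokernel.π ι) (cokernel.condition _)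
  have hS : S.ShortExact := { exact := ShortComplex.exact_of_g_is_cokernel _ (cokernelIsCokernel _) }
  let Φ := (DCoh.tensorBi (X := X)).flip.obj M
  have hS' : (S.map Φ).ShortExact := shortExact_tensor hM.1 hS
  have hS'' : (ShortComplex.mk ι' (cokernel.π ι') (cokernel.condition _)).ShortExact :=
    haveI := hι'
    { exact := ShortComplex.exact_of_g_is_cokernel _ (cokernelIsCokernel _) }
  haveI : Mono (Φ.map ι') := (shortExact_tensor hM.1 hS'').mono_f
  let emb : CohB1.tensorMod (cokernel ι) M ⟶ H' := Φ.map ι' ≫ eP'.hom ≫ kernel.ι f'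
  haveI : Mono emb :=
    @mono_comp _ _ _ _ _ (Φ.map ι') (shortExact_tensor hM.1 hS'').mono_f _ inferInstance
  refine ⟨CohB1.tensorMod P M, ⟨H, ⟨Iso.refl H⟩, f, ⟨eP⟩⟩, Φ.map (cokernel.π ι) ≫ emb, ⟨?_⟩⟩
  haveI : Mono (S.map Φ).f := hS'.mono_f
  exact (oneTens M).symm ≪≫ IsLimit.conePointUniqueUpToIso hS'.exact.fIsKernel (limit.isLimit _) ≪≫
    (kernelCompMono _ emb).symm

end Groth.Agent.NumTriv.Bounded
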