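import Groth.Agent.ZClosLib.CohDescent
import Groth.Agent.ProperFin.FiniteMap
import Groth.Agent.ProperFin.Supp
import Groth.Agent.CohDev.Coh
import Groth.Agent.Props.KilledSub
import Groth.Agent.FDesc.Stalk
import Groth.Agent.MonoVal.Immersion
import Groth.Prelude.Def_Pic13

/-!
# Finite unions of bounded families are bounded
-/

universe u

open CategoryTheory CategoryTheory.Limits AlgebraicGeometry

set_option linter.style.haveILetI false

noncomputable section

namespace Groth.Agent.NumTriv.Union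

variable {k : Type u} [Field k] {X : Scheme.{u}} [X.Over (Spec (CommRingCat.of k))]

omit [Field k] [X.Over (Spec (CommRingCat.of k))] in
/-- A pushforward vanishes when pulled back to somewhere off its range. -/
theorem isZero_pullback_push {A B W : Scheme.{u}} (j : A ⟶ B) [IsClosedImmersion j] (σ : W ⟶ B)
    (h : Disjoint (Set.range σ) (Set.range j)) (F : A.Modules) :
    IsZero ((Scheme.Modules.pullback σ).obj ((Scheme.Modules.pushforward j).obj F)) := by
  refine CohDev.isZero_of_support_eq_empty (Set.eq_empty_of_forall_notMem fun w hw => hw ?_)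
  haveI : Subsingleton (((Scheme.Modules.pushforward j).obj F).presheaf.stalk (σ w)) := by
    by_contra hs
    obtain ⟨a, -, ha⟩ := ProperFin.support_push_subset j F
      (show σ w ∈ CohB1.support ((Coh.push j).obj F) from hs)
    exact Set.disjoint_iff_forall_ne.1 h ⟨w, rfl⟩ ⟨a, rfl⟩ ha.symm
  obtain ⟨e, -⟩ := FDesc.Stalk.exists_stalk_equiv σ ((Scheme.Modules.pushforward j).obj F) w
  exact e.symm.toEquiv.subsingleton

variable (k X) in
/-- The map of products induced by a map of parameter schemes. -/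
abbrev pmap {S T : Scheme.{u}} (r : S ⟶ Spec (CommRingCat.of k)) (q : T ⟶ Spec (CommRingCat.of k))
    (j : S ⟶ T) (hj : j ≫ q = r) : Pic13.prodK k X r ⟶ Pic13.prodK k X q :=
  pullback.lift (pullback.fst _ _) (pullback.snd (X ↘ Spec (CommRingCat.of k)) r ≫ j)
    (by rw [Category.assoc, hj]; exact pullback.condition)

theorem isPullback_pmap {S T : Scheme.{u}} (r : S ⟶ Spec (CommRingCat.of k))
    (q : T ⟶ Spec (CommRingCat.of k)) (j : S ⟶ T) (hj : j ≫ q = r) :
    IsPullback (pmap k X r q j hj) (pullback.snd (X ↘ Spec (CommRingCat.of k)) r)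
      (pullback.snd (X ↘ Spec (CommRingCat.of k)) q) j := by
  refine IsPullback.of_right ?_ (pullback.lift_snd _ _ _) (IsPullback.of_hasPullback _ q)
  rw [hj, pmap, pullback.lift_fst]
  exact IsPullback.of_hasPullback _ r

theorem slice_pmap {S T : Scheme.{u}} (r : S ⟶ Spec (CommRingCat.of k))
    (q : T ⟶ Spec (CommRingCat.of k)) (j : S ⟶ T) (hj : j ≫ q = r)
    (s : Spec (CommRingCat.of k) ⟶ S) (hs : s ≫ r = 𝟙 _) (t : Spec (CommRingCat.of k) ⟶ T)
    (ht : t ≫ q = 𝟙 _) (h : s ≫ j = t) :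
    Pic13.sliceAt k X r s hs ≫ pmap k X r q j hj = Pic13.sliceAt k X q t ht := by
  refine pullback.hom_ext ?_ ?_
  · simp only [Pic13.sliceAt, pmap, Category.assoc]
    erw [pullback.lift_fst, pullback.lift_fst, pullback.lift_fst]
  · simp only [Pic13.sliceAt, pmap, Category.assoc, pullback.lift_snd, pullback.lift_snd_assoc]
    rw [h]

/-- Fibres of a pullback along a map of parameters. -/
def fibrePmapIso {S T : Scheme.{u}} (r : S ⟶ Spec (CommRingCat.of k))
    (q : T ⟶ Spec (CommRingCat.of k)) (j : S ⟶ T) (hj : j ≫ q = r)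
    (s : Spec (CommRingCat.of k) ⟶ S) (hs : s ≫ r = 𝟙 _) (t : Spec (CommRingCat.of k) ⟶ T)
    (ht : t ≫ q = 𝟙 _) (h : s ≫ j = t) (F : (Pic13.prodK k X q).Modules) :
    Pic13.fibreMod k X r s hs ((Scheme.Modules.pullback (pmap k X r q j hj)).obj F) ≅
      Pic13.fibreMod k X q t ht F :=
  (Scheme.Modules.pullbackComp _ _).app F ≪≫
    (Scheme.Modules.pullbackCongr (slice_pmap r q j hj s hs t ht h)).app F

variable [IsProper (X ↘ Spec (CommRingCat.of k))]

/-- The union of two bounded families is bounded. -/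
theorem isBounded_or {P Q : X.Modules → Prop} (hP : Pic13.IsBounded k X P)
    (hQ : Pic13.IsBounded k X Q) : Pic13.IsBounded k X (fun M => P M ∨ Q M) := by
  obtain ⟨T₁, q₁, hft₁, hqc₁, F₁, hF₁, h₁⟩ := hP
  obtain ⟨T₂, q₂, hft₂, hqc₂, F₂, hF₂, h₂⟩ := hQ
  let q : T₁ ⨿ T₂ ⟶ Spec (CommRingCat.of k) := coprod.desc q₁ q₂
  haveI : LocallyOfFiniteType q := by
    refine IsZariskiLocalAtSource.of_openCover (coprodOpenCover.{_, u} T₁ T₂) fun i => ?_
    rcases i with ⟨⟨⟩⟩ | ⟨⟨⟩⟩ <;> simp only [coprodOpenCover, q]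
    · exact (coprod.inl_desc q₁ q₂).symm ▸ hft₁
    · exact (coprod.inr_desc q₁ q₂).symm ▸ hft₂
  haveI : CompactSpace T₁ := QuasiCompact.compactSpace_of_compactSpace q₁
  haveI : CompactSpace T₂ := QuasiCompact.compactSpace_of_compactSpace q₂
  haveI : CompactSpace ↥(T₁ ⨿ T₂) := ⟨by
    rw [← Set.top_eq_univ, ← (isCompl_range_inl_inr T₁ T₂).sup_eq_top]
    exact (isCompact_range (coprod.inl : T₁ ⟶ T₁ ⨿ T₂).continuous).union
      (isCompact_range (coprod.inr : T₂ ⟶ T₁ ⨿ T₂).continuous)⟩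
  haveI : QuasiCompact q := (HasAffineProperty.iff_of_isAffine (P := @QuasiCompact)).2 inferInstance
  let f := pullback.snd (X ↘ Spec (CommRingCat.of k)) q
  let l₁ := pmap k X q₁ q coprod.inl (coprod.inl_desc _ _)
  let l₂ := pmap k X q₂ q coprod.inr (coprod.inr_desc _ _)
  haveI : IsClosedImmersion (coprod.inl : T₁ ⟶ T₁ ⨿ T₂) := .of_isPreimmersion _ (by
    rw [(isCompl_range_inl_inr T₁ T₂).eq_compl]
    exact (coprod.inr : T₂ ⟶ T₁ ⨿ T₂).isOpenEmbedding.isOpen_range.isClosed_compl)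
  haveI : IsClosedImmersion (coprod.inr : T₂ ⟶ T₁ ⨿ T₂) := .of_isPreimmersion _ (by
    rw [(isCompl_range_inl_inr T₁ T₂).symm.eq_compl]
    exact (coprod.inl : T₁ ⟶ T₁ ⨿ T₂).isOpenEmbedding.isOpen_range.isClosed_compl)
  haveI : IsClosedImmersion l₁ :=
    MorphismProperty.of_isPullback (P := @IsClosedImmersion) (isPullback_pmap q₁ q _ _).flip inferInstance
  haveI : IsClosedImmersion l₂ :=
    MorphismProperty.of_isPullback (P := @IsClosedImmersion) (isPullback_pmap q₂ q _ _).flip inferInstance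
  haveI : IsLocallyNoetherian (T₁ ⨿ T₂) := LocallyOfFiniteType.isLocallyNoetherian q
  haveI : IsLocallyNoetherian (Pic13.prodK k X q) :=
    LocallyOfFiniteType.isLocallyNoetherian (pullback.snd (X ↘ Spec (CommRingCat.of k)) q)
  refine ⟨_, q, ‹_›, ‹_›, (Scheme.Modules.pushforward l₁).obj F₁ ⊞
      (Scheme.Modules.pushforward l₂).obj F₂,
    CohDev.isCoh_biprod (ProperFin.isCoh_push_of_isFinite l₁ F₁ hF₁)
      (ProperFin.isCoh_push_of_isFinite l₂ F₂ hF₂), ?_⟩
  have hdis : ∀ {S : Scheme.{u}} {S' : Scheme.{u}} (r : S ⟶ Spec (CommRingCat.of k))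
      (r' : S' ⟶ Spec (CommRingCat.of k)) (j : S ⟶ T₁ ⨿ T₂) (j' : S' ⟶ T₁ ⨿ T₂)
      (hj' : j' ≫ q = r') (s : Spec (CommRingCat.of k) ⟶ S) (hs : (s ≫ j) ≫ q = 𝟙 _),
      Disjoint (Set.range j) (Set.range j') →
      Disjoint (Set.range (Pic13.sliceAt k X q (s ≫ j) hs)) (Set.range (pmap k X r' q j' hj')) := by
    intro S S' r r' j j' hj' s hs hd
    rw [Set.disjoint_iff_forall_ne]
    rintro _ ⟨x, rfl⟩ _ ⟨y, rfl⟩ heq
    have e := congrArg (pullback.snd (X ↘ Spec (CommRingCat.of k)) q) heq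
    rw [← Scheme.Hom.comp_apply, ← Scheme.Hom.comp_apply] at e
    erw [pullback.lift_snd, pullback.lift_snd] at e
    rw [Scheme.Hom.comp_apply, Scheme.Hom.comp_apply, Scheme.Hom.comp_apply] at e
    exact Set.disjoint_iff_forall_ne.1 hd ⟨_, rfl⟩ ⟨_, rfl⟩ e
  rintro L (hL | hL)
  · obtain ⟨t, ht, ⟨e⟩⟩ := h₁ L hL
    have ht' : (t ≫ coprod.inl) ≫ q = 𝟙 _ := by
      rw [Category.assoc, coprod.inl_desc, ht]
    refine ⟨t ≫ coprod.inl, ht', ⟨?_⟩⟩
    haveI := Props.KilledSub.isIso_counit l₁ F₁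
    haveI := preservesBinaryBiproducts_of_preservesBiproducts
        (Scheme.Modules.pullback (Pic13.sliceAt k X q _ ht'))
    exact ((Scheme.Modules.pullback (Pic13.sliceAt k X q _ ht')).mapBiprod _ _) ≪≫
      (isoBiprodZero (isZero_pullback_push l₂ _
        (hdis q₁ q₂ coprod.inl coprod.inr _ t ht' (isCompl_range_inl_inr T₁ T₂).disjoint) F₂)).symm ≪≫
      (fibrePmapIso q₁ q _ (coprod.inl_desc _ _) t ht _ ht' rfl _).symm ≪≫
      (Scheme.Modules.pullback _).mapIso
        (asIso ((Scheme.Modules.pullbackPushforwardAdjunction l₁).counit.app F₁)) ≪≫ e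
  · obtain ⟨t, ht, ⟨e⟩⟩ := h₂ L hL
    have ht' : (t ≫ coprod.inr) ≫ q = 𝟙 _ := by
      rw [Category.assoc, coprod.inr_desc, ht]
    refine ⟨t ≫ coprod.inr, ht', ⟨?_⟩⟩
    haveI := Props.KilledSub.isIso_counit l₂ F₂
    haveI := preservesBinaryBiproducts_of_preservesBiproducts
        (Scheme.Modules.pullback (Pic13.sliceAt k X q _ ht'))
    exact ((Scheme.Modules.pullback (Pic13.sliceAt k X q _ ht')).mapBiprod _ _) ≪≫ biprod.braiding _ _ ≪≫
      (isoBiprodZero (isZero_pullback_push l₁ _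
        (hdis q₂ q₁ coprod.inr coprod.inl _ t ht' (isCompl_range_inl_inr T₁ T₂).disjoint.symm) F₁)).symm ≪≫
      (fibrePmapIso q₂ q _ (coprod.inr_desc _ _) t ht _ ht' rfl _).symm ≪≫
      (Scheme.Modules.pullback _).mapIso
        (asIso ((Scheme.Modules.pullbackPushforwardAdjunction l₂).counit.app F₂)) ≪≫ e

/-- A finite union of bounded families is bounded. -/
theorem isBounded_iUnion : ∀ {n : ℕ} {P : Fin n → X.Modules → Prop},
    (∀ i, Pic13.IsBounded k X (P i)) → Pic13.IsBounded k X (fun M => ∃ i, P i M) := by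
  intro n
  induction n with
  | zero =>
    intro P _
    haveI : IsLocallyNoetherian (Pic13.prodK k X (𝟙 (Spec (CommRingCat.of k)))) :=
      LocallyOfFiniteType.isLocallyNoetherian (pullback.snd (X ↘ Spec (CommRingCat.of k)) (𝟙 _))
    exact ⟨_, 𝟙 _, inferInstance, inferInstance, _, ProperFin.isCoh_structureModule _,
      fun L ⟨i, _⟩ => i.elim0⟩
  | succ n ih =>
    intro P hP
    obtain ⟨T, q, hft, hqc, F, hF, h⟩ := isBounded_or (hP 0) (ih fun i => hP i.succ)
    refine ⟨T, q, hft, hqc, F, hF, fun L ⟨i, hi⟩ => h L ?_⟩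
    revert hi
    induction i using Fin.cases with
    | zero => exact fun hi => Or.inl hi
    | succ i => exact fun hi => Or.inr ⟨i, hi⟩

end Groth.Agent.NumTriv.Union
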