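import Groth.Agent.NumTriv.FlatFibre
import Groth.Agent.NumTriv.Union
import Groth.Agent.EulerFam.UnivCoker
import Groth.Agent.EulerFam.AlgEquiv
import Groth.Agent.QCohGen.Compact
import Groth.Agent.DirImgAff.Basic
import Groth.Agent.S1455
import Groth.Agent.S4654
import Groth.Agent.HomShQC.Basic
import Groth.Agent.RedSub.Basic
import Groth.Agent.FreeAlong.Stalk
import Groth.Agent.EulerChar.Leray
import Groth.Agent.EulerChar.Deg

/-!
# Kernels of morphisms from a bounded family to a fixed coherent module form a bounded family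
-/

universe u

open CategoryTheory CategoryTheory.Limits AlgebraicGeometry TopologicalSpace

set_option linter.style.haveILetI false

noncomputable section

namespace Groth.Agent.NumTriv.KerFam

open PullStalk.Exact PullStalk.Sky

/-- A retract of a module flat over the base is flat over the base. -/
theorem isFlatOver_of_retract {X S : Scheme.{u}} (f : X ⟶ S) {M N : X.Modules} (i : M ⟶ N)
    (p : N ⟶ M) (h : i ≫ p = 𝟙 M) (hN : FlatMod.IsFlatOver f N) : FlatMod.IsFlatOver f M := fun x => by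
  let := (f.stalkMap x).hom.toAlgebra
  let := FlatMod.moduleStalkOver f M x
  let := FlatMod.moduleStalkOver f N x
  haveI : IsScalarTower (S.presheaf.stalk (f x)) (X.presheaf.stalk x) (M.presheaf.stalk x) :=
    IsScalarTower.of_algebraMap_smul fun _ _ => rfl
  haveI : IsScalarTower (S.presheaf.stalk (f x)) (X.presheaf.stalk x) (N.presheaf.stalk x) :=
    IsScalarTower.of_algebraMap_smul fun _ _ => rfl
  haveI : Module.Flat (S.presheaf.stalk (f x)) (N.presheaf.stalk x) := hN x
  exact Module.Flat.of_retract ((stalkLin i x).restrictScalars (S.presheaf.stalk (f x)))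
    ((stalkLin p x).restrictScalars (S.presheaf.stalk (f x))) (LinearMap.ext fun t => LinearMap.congr_fun (FreeAlong.stalkLin_comp_eq_id h x) t)

/-- The pushout of an epimorphism has the expected kernel after a right exact functor. -/
theorem nonempty_kernel_pushout {C D : Type*} [Category C] [Category D] [Abelian C] [Abelian D]
    (F : C ⥤ D) [F.Additive] {A G H : C} (a : A ⟶ G) (ψ : A ⟶ H)
    [PreservesColimit (parallelPair (biprod.lift a (-ψ)) 0) F] [Epi (F.map a)]
    (u : F.obj G ⟶ F.obj H) (hu : F.map a ≫ u = F.map ψ) :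
    Nonempty (kernel (F.map (biprod.inl ≫ cokernel.π (biprod.lift a (-ψ)))) ≅ kernel u) := by
  let c := biprod.lift a (-ψ)
  let hc := isColimitOfHasCokernelOfPreservesColimit F c
  have hd : F.map c ≫ (F.map biprod.fst ≫ u + F.map biprod.snd) = 0 := by
    rw [Preadditive.comp_add, ← Category.assoc, ← F.map_comp, ← F.map_comp, biprod.lift_fst,
      biprod.lift_snd, hu, F.map_neg, add_neg_cancel]
  obtain ⟨θ, hθ⟩ := CokernelCofork.IsColimit.desc' hc _ hd
  have hθ' : F.map (cokernel.π c) ≫ θ = F.map biprod.fst ≫ u + F.map biprod.snd := hθ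
  have h1 : F.map (biprod.inl ≫ cokernel.π c) ≫ θ = u := by
    rw [F.map_comp, Category.assoc, hθ', Preadditive.comp_add, ← Category.assoc, ← F.map_comp,
      ← F.map_comp, biprod.inl_fst, biprod.inl_snd, F.map_id, F.map_zero, Category.id_comp, add_zero]
  have h2 : F.map (biprod.inr ≫ cokernel.π c) ≫ θ = 𝟙 _ := by
    rw [F.map_comp, Category.assoc, hθ', Preadditive.comp_add, ← Category.assoc, ← F.map_comp,
      ← F.map_comp, biprod.inr_fst, biprod.inr_snd, F.map_id, F.map_zero, zero_comp, zero_add]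
  have h3 : u ≫ F.map (biprod.inr ≫ cokernel.π c) = F.map (biprod.inl ≫ cokernel.π c) := by
    rw [← cancel_epi (F.map a), reassoc_of% hu, ← F.map_comp, ← F.map_comp]
    have e : c ≫ cokernel.π c = 0 := cokernel.condition _
    have hc' : c = a ≫ biprod.inl - ψ ≫ biprod.inr := by
      refine biprod.hom_ext _ _ ?_ ?_ <;> simp [c, Preadditive.sub_comp]
    replace e : (a ≫ biprod.inl - ψ ≫ biprod.inr) ≫ cokernel.π c = 0 :=
      (congrArg (· ≫ cokernel.π c) hc').symm.trans e
    rw [Preadditive.sub_comp, sub_eq_zero, Category.assoc, Category.assoc] at e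
    rw [e]
  haveI : IsIso θ := ⟨F.map (biprod.inr ≫ cokernel.π c), by
    refine Cofork.IsColimit.hom_ext hc ?_
    change F.map (cokernel.π c) ≫ θ ≫ _ = F.map (cokernel.π c) ≫ 𝟙 _
    rw [reassoc_of% hθ', Category.comp_id, Preadditive.add_comp, Category.assoc, h3,
      ← F.map_comp, ← F.map_comp, ← F.map_add]
    congr 1
    rw [← Category.assoc, ← Category.assoc, ← Preadditive.add_comp, biprod.total, Category.id_comp],
    h2⟩
  exact ⟨(kernelCompMono _ θ).symm ≪≫ kernelIsoOfEq h1⟩

variable {k : Type u} [Field k] {X : Scheme.{u}} [X.Over (Spec (CommRingCat.of k))]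
  [IsProper (X ↘ Spec (CommRingCat.of k))]

/-- Over an affine parameter scheme, a coherent family is a quotient of a constant one. -/
theorem exists_epi_const {T : Scheme.{u}} [IsAffine T] (q : T ⟶ Spec (CommRingCat.of k))
    [LocallyOfFiniteType q] {G : (Pic13.prodK k X q).Modules} (hG : Coh.IsCoh G) :
    ∃ C : X.Modules, Coh.IsCoh C ∧ ∃ a : (Scheme.Modules.pullback
      (pullback.fst (X ↘ Spec (CommRingCat.of k)) q)).obj C ⟶ G, Epi a := by
  classical
  haveI := EulerChar.isNoetherian k (X := X)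
  haveI : IsAffineHom q := inferInstance
  let p : Pic13.prodK k X q ⟶ X := pullback.fst (X ↘ Spec (CommRingCat.of k)) q
  haveI : IsAffineHom p := MorphismProperty.pullback_fst (P := @IsAffineHom) _ _ ‹_›
  haveI : IsLocallyNoetherian T := LocallyOfFiniteType.isLocallyNoetherian q
  haveI : IsLocallyNoetherian (Pic13.prodK k X q) :=
    LocallyOfFiniteType.isLocallyNoetherian (pullback.snd (X ↘ Spec (CommRingCat.of k)) q)
  haveI : G.IsQuasicoherent := hG.1
  let M := (Scheme.Modules.pushforward p).obj G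
  haveI : M.IsQuasicoherent := QCoh.isQuasicoherent_pushforward p G
  obtain ⟨s, hs⟩ := isCompact_univ.elim_finite_subcover (fun V : X.affineOpens => (V.1 : Set X))
    (fun V => V.1.2) fun x _ => by
      obtain ⟨V, hV, hx, -⟩ := exists_isAffineOpen_mem_and_subset (X := X) (Opens.mem_top x)
      exact Set.mem_iUnion.2 ⟨⟨V, hV⟩, hx⟩
  choose g hg using fun V : X.affineOpens =>
    (CohDev.finite_sections hG (V.2.preimage p)).fg_top
  let ι := Σ V : X.affineOpens, Γ(G, p ⁻¹ᵁ V.1)
  obtain ⟨S, hS, hm⟩ := QCohGen.Compact.exists_ftOn_containing M (ι := ι)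
    (s.sigma fun V => g V) (fun i => i.1) (fun i => i.2)
  let j : Props.SubSheaf.sub S ⟶ M := Props.SubSheaf.incl S
  refine ⟨Props.SubSheaf.sub S, ⟨@Props.SubSheaf.isQuasicoherent_sub X M S ‹_› hS,
      @Props.SubSheaf.isFiniteType_sub X M S ‹_› hS⟩,
    ((Scheme.Modules.pullbackPushforwardAdjunction p).homEquiv _ _).symm j,
    Abelian.epi_of_cokernel_π_eq_zero _ ?_⟩
  refine QCohGen.Noeth.eq_zero_of_cover _ fun x => ?_
  obtain ⟨V, hV, hxV⟩ := Set.mem_iUnion₂.1 (hs (Set.mem_univ (p x)))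
  refine ⟨⟨p ⁻¹ᵁ V.1, V.2.preimage p⟩, hxV, fun t => ?_⟩
  set a := ((Scheme.Modules.pullbackPushforwardAdjunction p).homEquiv _ _).symm j
  have ha : t ∈ Submodule.span Γ(Pic13.prodK k X q, p ⁻¹ᵁ V.1) (g V : Set Γ(G, p ⁻¹ᵁ V.1)) :=
    (hg V).ge trivial
  induction ha using Submodule.span_induction with
  | mem z hz =>
    obtain ⟨w, hw⟩ := hm ⟨V, z⟩ (Finset.mem_sigma.mpr ⟨hV, hz⟩)
    have hj : j = (Scheme.Modules.pullbackPushforwardAdjunction p).unit.app _ ≫
        (Scheme.Modules.pushforward p).map a := by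
      exact (((Scheme.Modules.pullbackPushforwardAdjunction p).homEquiv _ _).apply_symm_apply j).symm.trans
        (Adjunction.homEquiv_unit _ _ _ _)
    have e : a.app (p ⁻¹ᵁ V.1)
        (((Scheme.Modules.pullbackPushforwardAdjunction p).unit.app _).app V.1 w) = z := by
      refine Eq.trans ?_ hw
      exact (congrArg (fun φ : Props.SubSheaf.sub S ⟶ M => φ.app V.1 w) hj).symm
    rw [← e, ← ConcreteCategory.comp_apply, ← Scheme.Modules.Hom.comp_app, cokernel.condition]
    rfl
  | zero => exact map_zero _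
  | add a b _ _ ha hb => rw [map_add, ha, hb, add_zero]
  | smul r a _ ha => rw [Scheme.Modules.Hom.app_smul, ha, smul_zero]

/-- The kernels of the fibres of a map of coherent modules on `X × T` form a bounded family. -/
theorem isBounded_kernel_fibres {T : Scheme.{u}} (q : T ⟶ Spec (CommRingCat.of k))
    [LocallyOfFiniteType q] [QuasiCompact q] {G Q : (Pic13.prodK k X q).Modules}
    (hG : Coh.IsCoh G) (hQ : Coh.IsCoh Q) (c : G ⟶ Q) :
    Pic13.IsBounded k X (fun M => ∃ (t : Spec (CommRingCat.of k) ⟶ T) (ht : t ≫ q = 𝟙 _),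
      Nonempty (M ≅ kernel ((Scheme.Modules.pullback (Pic13.sliceAt k X q t ht)).map c))) := by
  classical
  let f : Pic13.prodK k X q ⟶ T := pullback.snd (X ↘ Spec (CommRingCat.of k)) q
  haveI : IsProper f := inferInstanceAs (IsProper (pullback.snd _ _))
  haveI : IsLocallyNoetherian T := LocallyOfFiniteType.isLocallyNoetherian q
  haveI : IsLocallyNoetherian (Pic13.prodK k X q) := LocallyOfFiniteType.isLocallyNoetherian f
  haveI : CompactSpace T := QuasiCompact.compactSpace_of_compactSpace q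
  haveI : IsNoetherian T := ⟨⟩
  haveI : LocallyOfFinitePresentation f := MonoVal.locallyOfFinitePresentation_of_lft f
  have hC : Coh.IsCoh (cokernel c) := CohDev.isCoh_cokernel c hG.1 hQ
  have hW := CohDev.isCoh_biprod hQ hC
  obtain ⟨n, I, hmono, htop, h0, -, hflat⟩ :=
    S1455.result f (Q ⊞ cokernel c) hW.1 (HomShQC.isFP_of_isCoh _ hW)
  let Z : ∀ i : Fin n, Scheme.{u} := fun i =>
    (((I i.castSucc).subschemeι ⁻¹ᵁ (I i.succ).support.compl : (I i.castSucc).subscheme.Opens))
  let j : ∀ i : Fin n, Z i ⟶ T := fun i =>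
    ((I i.castSucc).subschemeι ⁻¹ᵁ (I i.succ).support.compl).ι ≫ (I i.castSucc).subschemeι
  haveI : ∀ i, IsImmersion (j i) := fun i => by
    dsimp only [j]; infer_instance
  have hcover : ∀ t : Spec (CommRingCat.of k) ⟶ T, ∃ i, Set.range t ⊆ Set.range (j i) := fun t => by
    let z : Spec (CommRingCat.of k) := Classical.arbitrary _
    obtain ⟨i, hi1, hi2⟩ : ∃ i : Fin n, t.base z ∈ (I i.castSucc).support ∧
        t.base z ∉ (I i.succ).support := by
      by_contra hno
      push Not at hno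
      have : ∀ a : Fin (n + 1), t.base z ∈ (I a).support := fun a => by
        induction a using Fin.induction with
        | zero => rw [← SetLike.mem_coe, h0]; trivial
        | succ a ih => exact hno a ih
      have h1 := this (Fin.last n)
      rw [htop, Scheme.IdealSheafData.support_top] at h1
      exact h1.elim
    refine ⟨i, ?_⟩
    rintro _ ⟨w, rfl⟩
    rw [Subsingleton.elim w z]
    have hs : t.base z ∈ Set.range (I i.castSucc).subschemeι := by
      rw [Scheme.IdealSheafData.range_subschemeι]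
      exact hi1
    obtain ⟨y, hy⟩ := hs
    refine ⟨⟨y, ?_⟩, hy⟩
    change (I i.castSucc).subschemeι y ∈ ((I i.succ).support.compl : T.Opens)
    rw [hy]
    exact hi2
  have hb : ∀ i : Fin n, Pic13.IsBounded k X (fun M => ∃ (t : Spec (CommRingCat.of k) ⟶ T)
      (ht : t ≫ q = 𝟙 _), Set.range t ⊆ Set.range (j i) ∧
      Nonempty (M ≅ kernel ((Scheme.Modules.pullback (Pic13.sliceAt k X q t ht)).map c))) := by
    intro i
    let r := j i ≫ q
    haveI : IsLocallyNoetherian (Z i) := LocallyOfFiniteType.isLocallyNoetherian (j i)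
    haveI : NoetherianSpace (Z i) := (j i).isEmbedding.isInducing.noetherianSpace
    haveI : QuasiCompact r := (HasAffineProperty.iff_of_isAffine (P := @QuasiCompact)).2 inferInstance
    haveI : LocallyOfFiniteType r := inferInstanceAs (LocallyOfFiniteType (j i ≫ q))
    let l := Union.pmap k X r q (j i) rfl
    let fZ := pullback.snd (X ↘ Spec (CommRingCat.of k)) r
    haveI : IsLocallyNoetherian (Pic13.prodK k X r) :=
      LocallyOfFiniteType.isLocallyNoetherian (pullback.snd (X ↘ Spec (CommRingCat.of k)) r)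
    let cZ := (Scheme.Modules.pullback l).map c
    have hGZ := ZClosLib.CohDescent.isCoh_pullback l G hG
    have hQZ := ZClosLib.CohDescent.isCoh_pullback l Q hQ
    -- the comparison of the two base changes
    let e := (Union.isPullback_pmap (k := k) (X := X) r q (j i) rfl).isoPullback
    have he : e.hom ≫ pullback.fst f (j i) = l := IsPullback.isoPullback_hom_fst _
    have he' : e.hom ≫ pullback.snd f (j i) = fZ := IsPullback.isoPullback_hom_snd _
    have hfl₀ : FlatMod.IsFlatOver fZ ((Scheme.Modules.pullback e.hom).obj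
        ((Scheme.Modules.pullback (pullback.fst f (j i))).obj (Q ⊞ cokernel c))) := by
      intro x
      have h2 := (hflat i) (e.hom x)
      rw [← FDesc.Stalk.flatOverAt_pullback_iff e.hom (pullback.snd f (j i)) _ x
        (RingHom.Flat.of_bijective (ConcreteCategory.bijective_of_isIso (e.hom.stalkMap x))), he'] at h2
      exact h2
    let ee := (Scheme.Modules.pullbackComp e.hom (pullback.fst f (j i)) ≪≫
      Scheme.Modules.pullbackCongr he).app (Q ⊞ cokernel c)
    have hfl : FlatMod.IsFlatOver fZ ((Scheme.Modules.pullback l).obj (Q ⊞ cokernel c)) :=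
      isFlatOver_of_retract fZ ee.inv ee.hom ee.inv_hom_id hfl₀
    haveI : (Scheme.Modules.pullback l).IsLeftAdjoint :=
      (Scheme.Modules.pullbackPushforwardAdjunction l).isLeftAdjoint
    have hflQ : FlatMod.IsFlatOver fZ ((Scheme.Modules.pullback l).obj Q) :=
      isFlatOver_of_retract fZ ((Scheme.Modules.pullback l).map biprod.inl)
        ((Scheme.Modules.pullback l).map biprod.fst)
        (by rw [← Functor.map_comp, biprod.inl_fst, CategoryTheory.Functor.map_id]) hfl
    have hflC : FlatMod.IsFlatOver fZ (cokernel cZ) :=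
      isFlatOver_of_retract fZ
        ((PreservesCokernel.iso (Scheme.Modules.pullback l) c).inv ≫
          (Scheme.Modules.pullback l).map biprod.inr)
        ((Scheme.Modules.pullback l).map biprod.snd ≫
          (PreservesCokernel.iso (Scheme.Modules.pullback l) c).hom)
        (by rw [Category.assoc, ← Functor.map_comp_assoc, biprod.inr_snd, CategoryTheory.Functor.map_id,
          Category.id_comp, Iso.inv_hom_id]) hfl
    let Im := Abelian.coimage cZ
    let ιI : Im ⟶ _ := Abelian.factorThruCoimage cZ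
    have hIm : Coh.IsCoh Im := CohDev.isCoh_cokernel _ (CohDev.isCoh_kernel cZ hGZ hQZ.1).1 hGZ
    let S₁ := ShortComplex.mk ιI (cokernel.π cZ) (by
      rw [← cancel_epi (Abelian.coimage.π cZ), ← Category.assoc,
        show Abelian.coimage.π cZ ≫ ιI = cZ from Abelian.coimage.fac cZ, cokernel.condition,
        comp_zero])
    have hS₁ : S₁.ShortExact :=
      { exact := ShortComplex.exact_of_g_is_cokernel _ (CokernelCofork.IsColimit.ofπ _ _
          (fun {W} x hx => cokernel.desc cZ x (by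
            rw [← Abelian.coimage.fac cZ, Category.assoc]
            exact (congrArg (Abelian.coimage.π cZ ≫ ·) hx).trans comp_zero))
          (fun {W} x hx => cokernel.π_desc _ _ _)
          (fun {W} x hx m hm => by rw [← cancel_epi (cokernel.π cZ), hm, cokernel.π_desc]))
        mono_f := inferInstanceAs (Mono (Abelian.factorThruCoimage cZ))
        epi_g := inferInstanceAs (Epi (cokernel.π cZ)) }
    have hflI : FlatMod.IsFlatOver fZ Im :=
      (S4654.result fZ S₁ hS₁ hIm.1 hQZ.1 (CohDev.isCoh_cokernel cZ hGZ.1 hQZ).1 hflC).1 hflQ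
    let S₂ := ShortComplex.mk (kernel.ι cZ) (Abelian.coimage.π cZ) (cokernel.condition _)
    have hS₂ : S₂.ShortExact :=
      { exact := ShortComplex.exact_of_g_is_cokernel _ (cokernelIsCokernel _)
        mono_f := inferInstanceAs (Mono (kernel.ι cZ))
        epi_g := inferInstanceAs (Epi (Abelian.coimage.π cZ)) }
    refine ⟨Z i, r, inferInstance, inferInstance, kernel cZ, CohDev.isCoh_kernel cZ hGZ hQZ.1, ?_⟩
    rintro M ⟨t, ht, hr, ⟨eM⟩⟩
    obtain ⟨g, hg⟩ := RedSub.exists_lift (j i) t hr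
    have hgr : g ≫ r = 𝟙 _ := by rw [← Category.assoc, hg, ht]
    refine ⟨g, hgr, ⟨?_⟩⟩
    let σ := Pic13.sliceAt k X r g hgr
    let F := Scheme.Modules.pullback σ
    haveI : F.IsLeftAdjoint := (Scheme.Modules.pullbackPushforwardAdjunction σ).isLeftAdjoint
    have hmι : Mono (F.map ιI) :=
      FlatFibre.mono_pullback_map (EulerFam.isPullback_slice r g hgr) hS₁ hflC
    haveI hmκ : Mono (F.map (kernel.ι cZ)) :=
      FlatFibre.mono_pullback_map (EulerFam.isPullback_slice r g hgr) hS₂ hflI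
    have hex : (S₂.map F).Exact := ShortComplex.exact_of_g_is_cokernel _
      (isColimitOfHasCokernelOfPreservesColimit F (kernel.ι cZ))
    haveI : Mono (S₂.map F).f := hmκ
    let e₀ : F.obj (kernel cZ) ≅ kernel (F.map (Abelian.coimage.π cZ)) :=
      IsLimit.conePointUniqueUpToIso hex.fIsKernel (limit.isLimit _)
    have e₁ : kernel (F.map (Abelian.coimage.π cZ)) ≅ kernel (F.map cZ) :=
      haveI := hmι
      (kernelCompMono _ (F.map ιI)).symm ≪≫ kernelIsoOfEq (by
        rw [← F.map_comp]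
        exact congrArg F.map (Abelian.coimage.fac cZ))
    let θ := Scheme.Modules.pullbackComp σ l ≪≫
      Scheme.Modules.pullbackCongr (Union.slice_pmap r q (j i) rfl g hgr t ht hg)
    exact e₀ ≪≫ e₁ ≪≫ kernel.mapIso _ _ (θ.app G) (θ.app Q) (θ.hom.naturality c) ≪≫ eM.symm
  obtain ⟨T', q', hft, hqc, F, hF, h⟩ := Union.isBounded_iUnion hb
  refine ⟨T', q', hft, hqc, F, hF, fun M hM => h M ?_⟩
  obtain ⟨t, ht, e⟩ := hM
  obtain ⟨i, hi⟩ := hcover t
  exact ⟨i, t, ht, hi, e⟩

/-- Kernels of maps from the fibres of a family over an affine base to a fixed coherent module. -/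
theorem isBounded_kernel_affine {A : CommRingCat.{u}} (q : Spec A ⟶ Spec (CommRingCat.of k))
    [LocallyOfFiniteType q] {G : (Pic13.prodK k X q).Modules} (hG : Coh.IsCoh G) {H : X.Modules}
    (hH : Coh.IsCoh H) :
    Pic13.IsBounded k X (fun M => ∃ (t : Spec (CommRingCat.of k) ⟶ Spec A) (ht : t ≫ q = 𝟙 _)
      (u : Pic13.fibreMod k X q t ht G ⟶ H), Nonempty (M ≅ kernel u)) := by
  haveI := EulerChar.isNoetherian k (X := X)
  obtain ⟨C, hC, a₀, ha₀⟩ := exists_epi_const q hG
  obtain ⟨N, α, hα⟩ := EulerFam.exists_hom_span (k := k) hC hH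
  let R := MvPolynomial (Fin N) A
  let j : Spec (CommRingCat.of R) ⟶ Spec A := Spec.map (CommRingCat.ofHom MvPolynomial.C)
  let r := j ≫ q
  haveI : LocallyOfFiniteType j := by
    rw [HasRingHomProperty.Spec_iff (P := @LocallyOfFiniteType)]
    exact RingHom.finiteType_algebraMap.2 (inferInstanceAs (Algebra.FiniteType A R))
  haveI : LocallyOfFiniteType r := inferInstanceAs (LocallyOfFiniteType (j ≫ q))
  let p : Pic13.prodK k X r ⟶ X := pullback.fst (X ↘ Spec (CommRingCat.of k)) r
  let f : Pic13.prodK k X r ⟶ Spec (CommRingCat.of R) := pullback.snd (X ↘ Spec (CommRingCat.of k)) r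
  haveI : IsLocallyNoetherian (Spec (CommRingCat.of R)) := LocallyOfFiniteType.isLocallyNoetherian r
  haveI : IsLocallyNoetherian (Pic13.prodK k X r) :=
    LocallyOfFiniteType.isLocallyNoetherian (pullback.snd (X ↘ Spec (CommRingCat.of k)) r)
  let x : Fin N → Γ(Pic13.prodK k X r, ⊤) := fun i => Coh.toGlobal f (MvPolynomial.X i)
  let l := Union.pmap k X r q j rfl
  have hlp : l ≫ pullback.fst (X ↘ Spec (CommRingCat.of k)) q = p := pullback.lift_fst _ _ _
  let a : (Scheme.Modules.pullback p).obj C ⟶ (Scheme.Modules.pullback l).obj G :=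
    ((Scheme.Modules.pullbackComp l (pullback.fst (X ↘ Spec (CommRingCat.of k)) q) ≪≫
      Scheme.Modules.pullbackCongr hlp).app C).inv ≫ (Scheme.Modules.pullback l).map a₀
  haveI : Epi a := by
    haveI := ha₀
    haveI : (Scheme.Modules.pullback l).IsLeftAdjoint :=
      (Scheme.Modules.pullbackPushforwardAdjunction l).isLeftAdjoint
    haveI : Epi ((Scheme.Modules.pullback l).map a₀) := inferInstance
    exact epi_comp _ _
  let Ψ := ∑ i, (Scheme.Modules.pullback p).map (α i) ≫
    KSMod.scal ((Scheme.Modules.pullback p).obj H) (x i)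
  have hCp := ZClosLib.CohDescent.isCoh_pullback p C hC
  have hHp := ZClosLib.CohDescent.isCoh_pullback p H hH
  have hGl := ZClosLib.CohDescent.isCoh_pullback l G hG
  have hQ : Coh.IsCoh (cokernel (biprod.lift a (-Ψ))) :=
    CohDev.isCoh_cokernel _ hCp.1 (CohDev.isCoh_biprod hGl hHp)
  obtain ⟨T', q', hft, hqc, F, hF, hfib⟩ :=
    isBounded_kernel_fibres r hGl hQ (biprod.inl ≫ cokernel.π (biprod.lift a (-Ψ)))
  refine ⟨T', q', hft, hqc, F, hF, fun M hM => hfib M ?_⟩
  obtain ⟨t, ht, u₀, ⟨eM⟩⟩ := hM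
  obtain ⟨φ, rfl⟩ : ∃ φ, Spec.map φ = t := ⟨Spec.preimage t, Spec.map_preimage t⟩
  let σ₀ := Pic13.sliceAt k X q (Spec.map φ) ht
  let ι₀ := Scheme.Modules.pullbackComp σ₀ (pullback.fst (X ↘ Spec (CommRingCat.of k)) q) ≪≫
    Scheme.Modules.pullbackCongr (pullback.lift_fst _ _ _) ≪≫ Scheme.Modules.pullbackId X
  obtain ⟨c, hc⟩ := hα ((ι₀.app C).inv ≫ (Scheme.Modules.pullback σ₀).map a₀ ≫ u₀)
  let ev : R →+* k := MvPolynomial.eval₂Hom φ.hom c
  let s : Spec (CommRingCat.of k) ⟶ Spec (CommRingCat.of R) := Spec.map (CommRingCat.ofHom ev)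
  have hsj : s ≫ j = Spec.map φ := by
    rw [← Spec.map_comp]
    congr 1
    ext z
    exact MvPolynomial.eval₂_C _ _ z
  have hs : s ≫ r = 𝟙 _ := by rw [← Category.assoc, hsj, ht]
  refine ⟨s, hs, ?_⟩
  let σ := Pic13.sliceAt k X r s hs
  let F := Scheme.Modules.pullback σ
  haveI : F.IsLeftAdjoint := (Scheme.Modules.pullbackPushforwardAdjunction σ).isLeftAdjoint
  haveI : Epi (F.map a) := inferInstance
  let θl := Scheme.Modules.pullbackComp σ l ≪≫
    Scheme.Modules.pullbackCongr (Union.slice_pmap r q j rfl s hs (Spec.map φ) ht hsj)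
  let κ := Scheme.Modules.pullbackComp l (pullback.fst (X ↘ Spec (CommRingCat.of k)) q) ≪≫
    Scheme.Modules.pullbackCongr hlp
  -- the identification of the pullback of a constant module, compatible with `a`
  let ι : Scheme.Modules.pullback p ⋙ Scheme.Modules.pullback σ ≅ 𝟭 X.Modules :=
    Functor.isoWhiskerRight κ.symm _ ≪≫ Functor.associator _ _ _ ≪≫
      Functor.isoWhiskerLeft _ θl ≪≫ ι₀
  have hσx : ∀ i, σ.appTop (x i) = Coh.toGlobal (X ↘ Spec (CommRingCat.of k)) (c i) := fun i => by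
    show (f.appTop ≫ σ.appTop) ((Scheme.ΓSpecIso (CommRingCat.of R)).inv (MvPolynomial.X i)) = _
    rw [← Scheme.Hom.comp_appTop, show σ ≫ f = (X ↘ Spec (CommRingCat.of k)) ≫ s from
      pullback.lift_snd _ _ _, Scheme.Hom.comp_appTop]
    show (X ↘ Spec (CommRingCat.of k)).appTop (s.appTop _) = (X ↘ Spec (CommRingCat.of k)).appTop _
    congr 1
    refine (ConcreteCategory.congr_hom
      (Scheme.ΓSpecIso_inv_naturality (CommRingCat.ofHom ev)).symm
      (MvPolynomial.X i)).trans ?_
    exact congrArg (Scheme.ΓSpecIso (CommRingCat.of k)).inv (MvPolynomial.eval₂_X _ _ i)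
  have hΨ : F.map Ψ = (ι.app C).hom ≫
      (∑ i, α i ≫ KSMod.scal H (Coh.toGlobal (X ↘ Spec (CommRingCat.of k)) (c i))) ≫
        (ι.app H).inv := by
    rw [Preadditive.sum_comp, Preadditive.comp_sum]
    simp only [Ψ, Functor.map_sum, Functor.map_comp]
    refine Finset.sum_congr rfl fun i _ => ?_
    rw [EulerFam.pullback_map_scal, hσx, ← cancel_mono (ι.app H).hom]
    simp only [Category.assoc, Iso.inv_hom_id, Category.comp_id]
    rw [KSMod.scal_nat, ← Category.assoc, ← Category.assoc]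
    congr 1
    exact ι.hom.naturality (α i)
  let eG := Union.fibrePmapIso r q j rfl s hs (Spec.map φ) ht hsj G
  -- compatibility of the two identifications on `C`
  have hcomp : F.map a ≫ eG.hom =
      (ι.app C).hom ≫ (ι₀.app C).inv ≫ (Scheme.Modules.pullback σ₀).map a₀ := by
    show F.map (_ ≫ (Scheme.Modules.pullback l).map a₀) ≫ θl.hom.app G = _
    rw [Functor.map_comp, Category.assoc]
    erw [θl.hom.naturality a₀]
    simp [ι, κ]
    rfl
  obtain ⟨e⟩ := nonempty_kernel_pushout F a Ψ (eG.hom ≫ u₀ ≫ (ι.app H).inv) (by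
    rw [hΨ, ← hc]
    refine (reassoc_of% hcomp) (u₀ ≫ (ι.app H).inv) |>.trans ?_
    exact (Category.assoc _ _ _).trans
      (congrArg (fun w => (ι.app C).hom ≫ w) ((Category.assoc _ _ _).trans
        ((congrArg (fun w => (ι₀.app C).inv ≫ w) (Category.assoc _ _ _).symm).trans
          (Category.assoc _ _ _).symm))))
  exact ⟨eM ≪≫ (kernelIsIsoComp eG.hom (u₀ ≫ (ι.app H).inv) ≪≫ kernelCompMono u₀ _).symm ≪≫ e.symm⟩

/-- Kernels of maps from the members of a bounded family to a fixed coherent module. -/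
theorem isBounded_kernel {P : X.Modules → Prop} (hP : Pic13.IsBounded k X P) {H : X.Modules}
    (hH : Coh.IsCoh H) :
    Pic13.IsBounded k X (fun M => ∃ N : X.Modules, P N ∧ ∃ u : N ⟶ H, Nonempty (M ≅ kernel u)) := by
  obtain ⟨T, q, hft, hqc, G, hG, hfib⟩ := hP
  haveI := hft
  haveI := hqc
  haveI : CompactSpace T := QuasiCompact.compactSpace_of_compactSpace q
  haveI : IsLocallyNoetherian T := LocallyOfFiniteType.isLocallyNoetherian q
  haveI : IsLocallyNoetherian (Pic13.prodK k X q) :=
    LocallyOfFiniteType.isLocallyNoetherian (pullback.snd (X ↘ Spec (CommRingCat.of k)) q)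
  let 𝒰 := T.affineCover.finiteSubcover
  obtain ⟨n, ⟨eI⟩⟩ := Finite.exists_equiv_fin 𝒰.I₀
  have hb : ∀ i : Fin n, Pic13.IsBounded k X (fun M =>
      ∃ (t : Spec (CommRingCat.of k) ⟶ T) (ht : t ≫ q = 𝟙 _),
        Set.range t ⊆ Set.range (𝒰.f (eI.symm i)) ∧
        ∃ u : Pic13.fibreMod k X q t ht G ⟶ H, Nonempty (M ≅ kernel u)) := by
    intro i
    haveI : IsAffine (𝒰.X (eI.symm i)) := by dsimp [𝒰]; infer_instance
    let W := 𝒰.X (eI.symm i)
    let jj : Spec Γ(W, ⊤) ⟶ T := W.isoSpec.inv ≫ 𝒰.f (eI.symm i)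
    haveI : IsLocallyNoetherian (Spec Γ(W, ⊤)) := LocallyOfFiniteType.isLocallyNoetherian jj
    haveI : IsLocallyNoetherian (Pic13.prodK k X (jj ≫ q)) :=
      LocallyOfFiniteType.isLocallyNoetherian (pullback.snd (X ↘ Spec (CommRingCat.of k)) (jj ≫ q))
    obtain ⟨T', q', h1, h2, F, hF, h⟩ := isBounded_kernel_affine (jj ≫ q)
      (ZClosLib.CohDescent.isCoh_pullback (Union.pmap k X (jj ≫ q) q jj rfl) G hG) hH
    refine ⟨T', q', h1, h2, F, hF, fun M ⟨t, ht, hr, u, ⟨e⟩⟩ => h M ?_⟩
    obtain ⟨g, hg⟩ := RedSub.exists_lift (𝒰.f (eI.symm i)) t hr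
    have hgj : (g ≫ W.isoSpec.hom) ≫ jj = t := by simp [jj, hg]
    have hgq : (g ≫ W.isoSpec.hom) ≫ jj ≫ q = 𝟙 _ := by rw [← Category.assoc, hgj, ht]
    let e' := Union.fibrePmapIso (jj ≫ q) q jj rfl _ hgq t ht hgj G
    exact ⟨_, hgq, e'.hom ≫ u, ⟨e ≪≫ (kernelIsIsoComp e'.hom u).symm⟩⟩
  obtain ⟨T', q', h1, h2, F, hF, h⟩ := Union.isBounded_iUnion hb
  refine ⟨T', q', h1, h2, F, hF, fun M ⟨N, hN, u, ⟨e⟩⟩ => h M ?_⟩
  obtain ⟨t, ht, ⟨eN⟩⟩ := hfib N hN
  let z : Spec (CommRingCat.of k) := Classical.arbitrary _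
  obtain ⟨i, y, hy⟩ := 𝒰.exists_eq (t z)
  refine ⟨eI i, t, ht, ?_, eN.hom ≫ u, ⟨e ≪≫ (kernelIsIsoComp eN.hom u).symm⟩⟩
  rintro _ ⟨w, rfl⟩
  rw [Subsingleton.elim w z, Equiv.symm_apply_apply]
  exact ⟨y, hy⟩

end Groth.Agent.NumTriv.KerFam
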