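import Groth.Agent.FDesc.BaseChangeStalk
import Groth.Agent.PullStalk.Exact
import Groth.Agent.QCohGen.StalkFun
import Groth.Agent.ClUnit.Basic
import Groth.Agent.Omega.Stalks
import Mathlib.RingTheory.Flat.Equalizer

/-!
# Base change preserves short exact sequences with flat cokernel
-/

universe u

open CategoryTheory CategoryTheory.Limits AlgebraicGeometry
open scoped TensorProduct

set_option linter.style.haveILetI false

noncomputable section

namespace Groth.Agent.NumTriv.FlatFibre

open PullStalk.Exact PullStalk.Sky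

/-- Tensoring a short exact sequence with flat right term stays injective through a base change
followed by a flat algebra. -/
theorem injective_lTensor {A A' B C : Type u} [CommRing A]
    [CommRing A'] [CommRing B] [CommRing C] [Algebra A A'] [Algebra A B]
    [Algebra B C] [Algebra (A' ⊗[A] B) C]
    (hB : (algebraMap (A' ⊗[A] B) C).comp Algebra.TensorProduct.includeRight.toRingHom = algebraMap B C)
    [Module.Flat (A' ⊗[A] B) C]
    {M₁ M₂ M₃ : Type u} [AddCommGroup M₁] [Module A M₁] [Module B M₁] [IsScalarTower A B M₁]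
    [AddCommGroup M₂] [Module A M₂] [Module B M₂] [IsScalarTower A B M₂]
    [AddCommGroup M₃] [Module A M₃] [Module B M₃] [IsScalarTower A B M₃] [Module.Flat A M₃]
    (f : M₁ →ₗ[B] M₂) (g : M₂ →ₗ[B] M₃) (hf : Function.Injective f) (he : Function.Exact f g)
    (hg : Function.Surjective g) : Function.Injective (f.lTensor C) := by
  let : Algebra B (A' ⊗[A] B) := Algebra.TensorProduct.rightAlgebra
  have : IsScalarTower B (A' ⊗[A] B) C := IsScalarTower.of_algebraMap_eq' hB.symm
  have h1 : Function.Injective ((f.restrictScalars A).lTensor A') :=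
    LinearMap.lTensor_injective_of_exact_of_flat (g.restrictScalars A) hg (f.restrictScalars A) hf he A'
  let e₁ : (A' ⊗[A] B) ⊗[B] M₁ ≃ₗ[A'] A' ⊗[A] M₁ := Algebra.IsPushout.cancelBaseChange A A' B _ M₁
  let e₂ : (A' ⊗[A] B) ⊗[B] M₂ ≃ₗ[A'] A' ⊗[A] M₂ := Algebra.IsPushout.cancelBaseChange A A' B _ M₂
  have hsq : ∀ z, f.lTensor (A' ⊗[A] B) (e₁.symm z) =
      e₂.symm ((f.restrictScalars A).lTensor A' z) := fun z => by
    induction z using TensorProduct.induction_on with
    | zero => simp
    | add a b ha hb => simp [map_add, ha, hb]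
    | tmul a m =>
      simp only [e₁, e₂, LinearMap.lTensor_tmul, Algebra.IsPushout.cancelBaseChange_symm_tmul,
        LinearMap.restrictScalars_apply]
  have h2 : Function.Injective (f.lTensor (A' ⊗[A] B)) := fun a b hab => by
    obtain ⟨a, rfl⟩ := e₁.symm.surjective a
    obtain ⟨b, rfl⟩ := e₁.symm.surjective b
    rw [hsq, hsq] at hab
    rw [h1 (e₂.symm.injective hab)]
  let F : (A' ⊗[A] B) ⊗[B] M₁ →ₗ[A' ⊗[A] B] (A' ⊗[A] B) ⊗[B] M₂ :=
    TensorProduct.AlgebraTensorModule.lTensor (A' ⊗[A] B) (A' ⊗[A] B) f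
  have hF : ∀ z, F z = f.lTensor (A' ⊗[A] B) z := fun z => rfl
  have h3 : Function.Injective (F.lTensor C) :=
    Module.Flat.lTensor_preserves_injective_linearMap F fun a b hab => h2 hab
  let c₁ := TensorProduct.AlgebraTensorModule.cancelBaseChange B (A' ⊗[A] B) C C M₁
  let c₂ := TensorProduct.AlgebraTensorModule.cancelBaseChange B (A' ⊗[A] B) C C M₂
  have hsq' : ∀ z, f.lTensor C (c₁ z) = c₂ (F.lTensor C z) := fun z => by
    induction z using TensorProduct.induction_on with
    | zero => simp
    | add a b ha hb => simp [map_add, ha, hb]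
    | tmul c p =>
      induction p using TensorProduct.induction_on with
      | zero => simp
      | add a b ha hb => simp [TensorProduct.tmul_add, map_add, ha, hb]
      | tmul q m => simp [c₁, c₂, F]
  intro a b hab
  obtain ⟨a, rfl⟩ := c₁.surjective a
  obtain ⟨b, rfl⟩ := c₁.surjective b
  rw [hsq', hsq'] at hab
  rw [h3 (c₂.injective hab)]

variable {X Y X' Y' : Scheme.{u}} {p : X' ⟶ X} {q : X' ⟶ Y'} {f : X ⟶ Y} {g : Y' ⟶ Y}
  (sq : IsPullback p q f g)

include sq in
/-- Pullback along a base change keeps a monomorphism with flat cokernel injective on stalks. -/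
theorem injective_stalk {S : ShortComplex X.Modules} (hS : S.ShortExact)
    (hfl : FlatMod.IsFlatOver f S.X₃) (x' : X') :
    Function.Injective (stalkLin ((Scheme.Modules.pullback p).map S.f) x') := by
  have he : g (q x') = f (p x') := by rw [← Scheme.Hom.comp_apply, ← Scheme.Hom.comp_apply, sq.w]
  let φ : Y.presheaf.stalk (f (p x')) ⟶ Y'.presheaf.stalk (q x') :=
    Y.presheaf.stalkSpecializes (specializes_of_eq he) ≫ g.stalkMap (q x')
  let : Algebra (Y.presheaf.stalk (f (p x'))) (X.presheaf.stalk (p x')) := (f.stalkMap (p x')).hom.toAlgebra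
  let : Algebra (Y.presheaf.stalk (f (p x'))) (Y'.presheaf.stalk (q x')) := φ.hom.toAlgebra
  let : Algebra (X.presheaf.stalk (p x')) (X'.presheaf.stalk x') := (p.stalkMap x').hom.toAlgebra
  let : Algebra (Y'.presheaf.stalk (q x')) (X'.presheaf.stalk x') := (q.stalkMap x').hom.toAlgebra
  let : Algebra (Y.presheaf.stalk (f (p x'))) (X'.presheaf.stalk x') :=
    (f.stalkMap (p x') ≫ p.stalkMap x').hom.toAlgebra
  have : IsScalarTower (Y.presheaf.stalk (f (p x'))) (X.presheaf.stalk (p x')) (X'.presheaf.stalk x') :=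
    IsScalarTower.of_algebraMap_eq' rfl
  have : IsScalarTower (Y.presheaf.stalk (f (p x'))) (Y'.presheaf.stalk (q x')) (X'.presheaf.stalk x') := by
    refine IsScalarTower.of_algebraMap_eq' (congrArg CommRingCat.Hom.hom
      (?_ : f.stalkMap (p x') ≫ p.stalkMap x' = φ ≫ q.stalkMap x'))
    rw [← Scheme.Hom.stalkMap_comp, Scheme.Hom.stalkMap_congr_hom _ _ sq.w x', Category.assoc,
      Scheme.Hom.stalkMap_comp]
    rfl
  let ψ : (Y'.presheaf.stalk (q x') ⊗[Y.presheaf.stalk (f (p x'))] X.presheaf.stalk (p x'))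
      →ₐ[Y.presheaf.stalk (f (p x'))] X'.presheaf.stalk x' :=
    Algebra.TensorProduct.productMap (IsScalarTower.toAlgHom _ _ _) (IsScalarTower.toAlgHom _ _ _)
  have hflat : ψ.toRingHom.Flat := FDesc.BaseChangeStalk.flat_stalk_of_isPullback sq x'
    (CommRingCat.ofHom ψ.toRingHom)
    (by ext a; exact Algebra.TensorProduct.productMap_left_apply _ _ a)
    (by ext a; exact Algebra.TensorProduct.productMap_right_apply _ _ a) rfl rfl
  let := ψ.toRingHom.toAlgebra
  have : Module.Flat _ (X'.presheaf.stalk x') := hflat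
  obtain ⟨hi, hex, hsur⟩ := stalk_exact hS (p x')
  let := FlatMod.moduleStalkOver f S.X₁ (p x')
  let := FlatMod.moduleStalkOver f S.X₂ (p x')
  let := FlatMod.moduleStalkOver f S.X₃ (p x')
  have : IsScalarTower (Y.presheaf.stalk (f (p x'))) (X.presheaf.stalk (p x')) (S.X₁.presheaf.stalk (p x')) :=
    IsScalarTower.of_algebraMap_smul fun _ _ => rfl
  have : IsScalarTower (Y.presheaf.stalk (f (p x'))) (X.presheaf.stalk (p x')) (S.X₂.presheaf.stalk (p x')) :=
    IsScalarTower.of_algebraMap_smul fun _ _ => rfl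
  have : IsScalarTower (Y.presheaf.stalk (f (p x'))) (X.presheaf.stalk (p x')) (S.X₃.presheaf.stalk (p x')) :=
    IsScalarTower.of_algebraMap_smul fun _ _ => rfl
  have : Module.Flat (Y.presheaf.stalk (f (p x'))) (S.X₃.presheaf.stalk (p x')) := hfl (p x')
  have hinj := injective_lTensor (A := Y.presheaf.stalk (f (p x'))) (A' := Y'.presheaf.stalk (q x'))
    (B := X.presheaf.stalk (p x')) (C := X'.presheaf.stalk x')
    (RingHom.ext fun b => Algebra.TensorProduct.productMap_right_apply _ _ b)
    (stalkLin S.f (p x')) (stalkLin S.g (p x')) hi hex hsur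
  obtain ⟨e₁, he₁⟩ := FDesc.Stalk.exists_stalk_equiv p S.X₁ x'
  obtain ⟨e₂, he₂⟩ := FDesc.Stalk.exists_stalk_equiv p S.X₂ x'
  have hsq : ∀ z, stalkLin ((Scheme.Modules.pullback p).map S.f) x' (e₁ z) =
      e₂ ((stalkLin S.f (p x')).lTensor _ z) := fun z => by
    induction z using TensorProduct.induction_on with
    | zero => simp
    | add a b ha hb => simp [map_add, ha, hb]
    | tmul r t =>
      rw [LinearMap.lTensor_tmul, he₁, he₂, map_smul]
      exact congrArg (r • ·) (FDesc.Stalk.unitStalkHom_natural p S.f x' t).symm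
  intro a b hab
  obtain ⟨a, rfl⟩ := e₁.surjective a
  obtain ⟨b, rfl⟩ := e₁.surjective b
  rw [hsq, hsq] at hab
  rw [hinj (e₂.injective hab)]

include sq in
/-- Pullback along a base change preserves a monomorphism with flat cokernel. -/
theorem mono_pullback_map {S : ShortComplex X.Modules} (hS : S.ShortExact)
    (hfl : FlatMod.IsFlatOver f S.X₃) : Mono ((Scheme.Modules.pullback p).map S.f) :=
  Omega.Stalks.mono_of_stalk (injective_stalk sq hS hfl)

end Groth.Agent.NumTriv.FlatFibre
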