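import Groth.Agent.CBC.TrivBundle
import Groth.Agent.NumTriv.Family
import Groth.Agent.EulerFam.AlgEquiv
import Groth.Agent.AbVarLib.Vanish
import Groth.Agent.ProjMorph.Ample
import Mathlib.AlgebraicGeometry.AlgClosed.Basic

/-!
# Algebraic equivalence is trivial when `H¹(O) = 0`
-/

universe u

open CategoryTheory CategoryTheory.Limits AlgebraicGeometry TopologicalSpace Opposite Function

set_option linter.style.haveILetI false

noncomputable section

namespace Groth.Agent.NumTriv.AlgTriv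

open Groth.Agent.QCoh Groth.Agent.Props.GenLocus Groth.Agent.Props.GenTensor Groth.Agent.Props.GenPull

section Local

variable {W Z : Scheme.{u}} (π : W ⟶ Z) {L : W.Modules}

/-- Sections on a fibre lift when the base change map is an epimorphism. -/
theorem exists_lift_of_epi [IsProper π] [L.IsQuasicoherent] {V : Z.Opens} (hV : IsAffineOpen V)
    (z : Z) (hle : ⊤ ≤ Z.fromSpecResidueField z ⁻¹ᵁ V)
    (hres : Surjective ((Z.fromSpecResidueField z).appLE V ⊤ hle))
    (hepi : Epi (CohBC.bc0 π (Z.fromSpecResidueField z) (π.fiberToSpecResidueField z) (π.fiberι z)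
      (π.fiber_fac z) L))
    (htop : (⊤ : (π.fiber z).Opens) ≤ π.fiberι z ⁻¹ᵁ (π ⁻¹ᵁ V))
    (t : Γ(CohIII.fiberMod π L z, ⊤)) :
    ∃ s : Γ(L, π ⁻¹ᵁ V), res (CohIII.fiberMod π L z) htop (pb (π.fiberι z) s) = t := by
  let g := Z.fromSpecResidueField z
  let f' := π.fiberToSpecResidueField z
  haveI : IsProper f' := show IsProper (pullback.snd π g) from inferInstance
  haveI := QCoh.isQuasicoherent_pushforward π L
  haveI := QCoh.isQuasicoherent_pullback g ((Scheme.Modules.pushforward π).obj L)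
  haveI := QCoh.isQuasicoherent_pullback (π.fiberι z) L
  haveI := QCoh.isQuasicoherent_pushforward f' ((Scheme.Modules.pullback (π.fiberι z)).obj L)
  let M := (Scheme.Modules.pushforward π).obj L
  let B := CohBC.bc0 π g f' (π.fiberι z) (π.fiber_fac z) L
  have hall : ∀ y, ∃ m : Γ(M, V), LimTop.unitSec g M hle m = y := fun y => by
    have hy : y ∈ Submodule.span Γ(Spec (Z.residueField z), ⊤)
        (Set.range fun t : Γ(M, V) => LimTop.unitSec g M hle t) := by
      rw [RankLocus.span_unitSec g M hV (isAffineOpen_top _) hle (fun t => t)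
        (by rw [Set.range_id', Submodule.span_univ])]
      exact Submodule.mem_top
    induction hy using Submodule.span_induction with
    | mem y hy => exact hy
    | zero => exact ⟨0, map_zero _⟩
    | add a b _ _ ha hb =>
      obtain ⟨ma, rfl⟩ := ha
      obtain ⟨mb, rfl⟩ := hb
      exact ⟨ma + mb, map_add _ _ _⟩
    | smul c a _ ha =>
      obtain ⟨ma, rfl⟩ := ha
      obtain ⟨r, rfl⟩ := hres c
      exact ⟨r • ma, LimTop.unitSec_smul g M hle r ma⟩
  obtain ⟨y, hy⟩ := QCoh.app_surjective_of_epi B (isAffineOpen_top (Spec (Z.residueField z)))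
    (show Γ((Scheme.Modules.pushforward f').obj _, ⊤) from t)
  obtain ⟨m, rfl⟩ := hall y
  refine ⟨m, Eq.trans ?_ hy⟩
  exact (CBC.bc0_app_unitSec L (π.fiber_fac z) hle
    ((f'.preimage_mono hle).trans (CohCmp.sqLE π g f' (π.fiberι z) (π.fiber_fac z) V))
    (show Γ(L, π ⁻¹ᵁ V) from m)).symm

/-- A section generating a fibre generates over a neighbourhood. -/
theorem exists_gen_of_lift [IsProper π] (hL : PicF.IsInvertible L) {V : Z.Opens} (z : Z)
    (hz : z ∈ V) (s : Γ(L, π ⁻¹ᵁ V)) (htop : (⊤ : (π.fiber z).Opens) ≤ π.fiberι z ⁻¹ᵁ (π ⁻¹ᵁ V))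
    (hsgen : IsGen (CohIII.fiberMod π L z) ⊤ (res (CohIII.fiberMod π L z) htop (pb (π.fiberι z) s))) :
    ∃ (V' : Z.Opens) (_ : z ∈ V') (g : Γ(L, π ⁻¹ᵁ V')), IsGen L (π ⁻¹ᵁ V') g := by
  let ι := π.fiberι z
  let Ω : W.Opens := sSup {U | ∃ h : U ≤ π ⁻¹ᵁ V, IsGen L U (res L h s)}
  have hfib : ∀ x : W, π x = z → x ∈ Ω := by
    intro x hx
    obtain ⟨U₀, e₀, hxU₀, he₀⟩ := exists_isGen hL x
    let U := U₀ ⊓ π ⁻¹ᵁ V
    have hxV : x ∈ π ⁻¹ᵁ V := by show π x ∈ V; rw [hx]; exact hz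
    let e := res L (inf_le_left : U ≤ U₀) e₀
    have he : IsGen L U e := he₀.restrict _
    obtain ⟨b, hb, -⟩ := he.exists_eq le_rfl (res L (inf_le_right : U ≤ π ⁻¹ᵁ V) s)
    rw [res_self] at hb
    obtain ⟨y, rfl⟩ : ∃ y, ι y = x := by
      have h : x ∈ Set.range ι := by rw [π.range_fiberι z]; exact hx
      exact h
    have hbu : IsUnit (ι.app U b) := by
      have h1 := congrArg (pb ι) hb
      rw [Cube.pb_res, Cube.pb_smul] at h1
      have h2 : IsGen (CohIII.fiberMod π L z) (ι ⁻¹ᵁ U)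
          (res _ (ι.preimage_mono inf_le_right) (pb ι s)) := by
        have := hsgen.restrict (le_top : ι ⁻¹ᵁ U ≤ ⊤)
        rwa [res_res] at this
      obtain ⟨c, hc, -⟩ := h2.exists_eq le_rfl (pb ι e)
      rw [res_self, h1, smul_smul] at hc
      exact IsUnit.of_mul_eq_one_right c ((isGen_pb ι he).injective le_rfl
        (((one_smul _ _).trans (congrArg (res _ le_rfl) hc)).trans
          (by rw [res_smul, rres_self]))).symm
    have hxb : ι y ∈ W.basicOpen b := by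
      rw [W.mem_basicOpen _ _ (show ι y ∈ U from ⟨hxU₀, hxV⟩)]
      refine isUnit_of_map_unit (ι.stalkMap y).hom _ ?_
      rw [Scheme.Hom.germ_stalkMap_apply]
      exact hbu.map _
    refine Opens.mem_sSup.mpr ⟨W.basicOpen b, ⟨(W.basicOpen_le b).trans inf_le_right, ?_⟩, hxb⟩
    have h3 := (he.restrict (W.basicOpen_le b)).smul_unit (c := rres (W.basicOpen_le b) b)
      (RingedSpace.isUnit_res_basicOpen _ b)
    have h4 := congrArg (res L (W.basicOpen_le b)) hb
    rw [res_res, res_smul] at h4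
    rw [h4]
    exact h3
  let Zbad : Set Z := π '' (Ω : Set W)ᶜ
  have hbad : IsClosed Zbad := π.isClosedMap _ Ω.2.isClosed_compl
  let V' : Z.Opens := V ⊓ ⟨Zbadᶜ, hbad.isOpen_compl⟩
  have hzV' : z ∈ V' := ⟨hz, fun ⟨x, hx, hxz⟩ => hx (hfib x hxz)⟩
  refine ⟨V', hzV', res L (π.preimage_mono (inf_le_left : V' ≤ V)) s,
    IsGen.of_local fun x hx => ?_⟩
  have hxΩ : x ∈ Ω := by
    by_contra hn
    exact hx.2 ⟨x, hn, rfl⟩
  obtain ⟨U, ⟨hU, hgen⟩, hxU⟩ := Opens.mem_sSup.mp hxΩ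
  refine ⟨U ⊓ π ⁻¹ᵁ V', inf_le_right, ⟨hxU, hx⟩, ?_⟩
  have h5 := hgen.restrict (inf_le_left : U ⊓ π ⁻¹ᵁ V' ≤ U)
  rw [res_res] at h5 ⊢
  exact h5

end Local

section Global

open ProjTwist

variable {k : Type u} [Field k] [IsAlgClosed k] {X : Scheme.{u}} [X.Over (Spec (CommRingCat.of k))]
  [IsProper (X ↘ Spec (CommRingCat.of k))]

/-- With `H¹(O) = 0`, being trivial is an open condition on the members of an invertible family. -/
theorem exists_open_trivial (h1 : Subsingleton (Coh.HH X (Coh.structureModule X) 1))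
    {T : Scheme.{u}} (q : T ⟶ Spec (CommRingCat.of k)) [LocallyOfFiniteType q]
    {G : (Pic13.prodK k X q).Modules} (hG : PicF.IsInvertible G)
    (t : Spec (CommRingCat.of k) ⟶ T) (ht : t ≫ q = 𝟙 _)
    (e : Pic13.fibreMod k X q t ht G ≅ Coh.structureModule X) :
    ∃ V : T.Opens, t (IsLocalRing.closedPoint k) ∈ V ∧
      ∀ (t' : Spec (CommRingCat.of k) ⟶ T) (ht' : t' ≫ q = 𝟙 _),
        t' (IsLocalRing.closedPoint k) ∈ V →
          Nonempty (Pic13.fibreMod k X q t' ht' G ≅ Coh.structureModule X) := by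
  let π : Pic13.prodK k X q ⟶ T := pullback.snd (X ↘ Spec (CommRingCat.of k)) q
  let z := t (IsLocalRing.closedPoint k)
  have hz : IsClosed ({z} : Set T) := ((pointEquivClosedPoint q) ⟨t, ht⟩).2
  have htz : t = pointOfClosedPoint q z hz :=
    ext_of_apply_closedPoint_eq q ht (pointOfClosedPoint_comp _ _ _)
      (pointOfClosedPoint_apply _ _ _ _).symm
  haveI : IsProper π := inferInstanceAs (IsProper (pullback.snd _ _))
  haveI : IsLocallyNoetherian T := LocallyOfFiniteType.isLocallyNoetherian q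
  haveI : IsLocallyNoetherian (Pic13.prodK k X q) := LocallyOfFiniteType.isLocallyNoetherian π
  haveI : LocallyOfFinitePresentation π := MonoVal.locallyOfFinitePresentation_of_lft π
  haveI : Flat π := inferInstanceAs (Flat (pullback.snd (X ↘ Spec (CommRingCat.of k)) q))
  have hfl : FlatMod.IsFlatOver π G := Cube.Seesaw.isFlatOver_of_invertible π hG
  have hfp : CohB1.IsFP G := HomShQC.isFP_of_isCoh G (Cube.Seesaw.isCoh_of_invertible hG)
  haveI : G.IsQuasicoherent := ProjTwist.isQCoh_of_isInvertible hG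
  -- the slice is the fibre
  let σ := Pic13.sliceAt k X q t ht
  have hsq : IsPullback σ ((X ↘ Spec (CommRingCat.of k)) ≫
      Spec.map (residueFieldIsoBase q z hz).hom) π (T.fromSpecResidueField z) := by
    refine IsPullback.of_iso (EulerFam.isPullback_slice q t ht) (Iso.refl _) (Iso.refl _)
      (Scheme.Spec.mapIso (residueFieldIsoBase q z hz).op) (Iso.refl _)
      (by simp [σ]) (by simp; rfl) (by simp [π]) ?_
    simp only [Iso.refl_hom, Category.comp_id]
    rw [htz]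
    rfl
  let ε : X ≅ π.fiber z := hsq.isoPullback
  have hε : ε.hom ≫ π.fiberι z = σ := hsq.isoPullback_hom_fst
  let eF : CohIII.fiberMod π G z ≅ Coh.structureModule (π.fiber z) :=
    ((Scheme.Modules.pullbackId _).app _).symm ≪≫
      (Scheme.Modules.pullbackCongr ε.inv_hom_id.symm).app _ ≪≫
      ((Scheme.Modules.pullbackComp ε.inv ε.hom).app _).symm ≪≫
      (Scheme.Modules.pullback ε.inv).mapIso
        ((Scheme.Modules.pullbackComp ε.hom (π.fiberι z)).app G ≪≫
          (Scheme.Modules.pullbackCongr hε).app G ≪≫ e) ≪≫ QCoh.pullbackUnitIso ε.inv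
  have hH1 : Subsingleton (CohIII.fiberH π G z 1) :=
    haveI : Subsingleton (Coh.HH (π.fiber z) ((Scheme.Modules.pullback ε.inv).obj (Coh.structureModule X)) 1) :=
      AbVarLib.Vanish.subsingleton_HH_pullback_iso ε.symm (LFFrame.isInvertible_structureModule X) 1 h1
    let u₀ : (Scheme.Modules.pullback ε.inv).obj (Coh.structureModule X) ≅
        Coh.structureModule (π.fiber z) := QCoh.pullbackUnitIso ε.inv
    AmpCrit.subsingleton_HH_of_iso (u₀ ≪≫ eF.symm) 1
  -- a right exact neighbourhood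
  let U : T.Opens := ⟨_, CBC.isOpen_setOf_subsingleton_fiberH hfp hfl 1⟩
  obtain ⟨N, hzN, -, hR⟩ :=
    CBC.exists_rExact_zero_of_fibres hfp hfl U (fun y hy => hy) (show z ∈ U from hH1)
  have hiso : IsIso (CohBC.bc0 π (T.fromSpecResidueField z) (π.fiberToSpecResidueField z) (π.fiberι z)
      (π.fiber_fac z) G) :=
    CBC.isIso_bc0_of_rExact (IsPullback.of_hasPullback π (T.fromSpecResidueField z)) fun w =>
      ⟨N, by rw [T.fromSpecResidueField_apply z w]; exact hzN, hR⟩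
  -- lift a generator
  have hle : ⊤ ≤ T.fromSpecResidueField z ⁻¹ᵁ N.V := CBC.fromSpecResidueField_le z hzN
  have hres : Surjective ((T.fromSpecResidueField z).appLE N.V ⊤ hle) := by
    haveI : IsIso (T.fromSpecResidueField z ≫ q) := by
      rw [← SpecMap_residueFieldIsoBase_inv q z hz]
      infer_instance
    intro c
    obtain ⟨r, hr⟩ := ((ConcreteCategory.isIso_iff_bijective
      ((T.fromSpecResidueField z ≫ q).appLE ⊤ ⊤ le_top)).1 (by
        rw [show (T.fromSpecResidueField z ≫ q).appLE ⊤ ⊤ le_top = (T.fromSpecResidueField z ≫ q).appTop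
          from (Scheme.Hom.app_eq_appLE _).symm]
        exact inferInstanceAs (IsIso ((T.fromSpecResidueField z ≫ q).app ⊤)))).2 c
    refine ⟨q.appLE ⊤ N.V le_top r, ?_⟩
    rw [← hr, ← Scheme.Hom.appLE_comp_appLE _ q ⊤ N.V ⊤ le_top hle]
    rfl
  have htop : (⊤ : (π.fiber z).Opens) ≤ π.fiberι z ⁻¹ᵁ (π ⁻¹ᵁ N.V) := fun y _ => by
    have hm : π.fiberι z y ∈ π ⁻¹' {z} := π.range_fiberι z ▸ Set.mem_range_self y
    have h : π (π.fiberι z y) = z := hm
    show π (π.fiberι z y) ∈ N.V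
    rw [h]
    exact hzN
  obtain ⟨t₀, ht₀⟩ := Cube.exists_gen_of_iso ⟨eF⟩
  obtain ⟨s, hs⟩ := exists_lift_of_epi π N.hV z hle hres (haveI := hiso; inferInstance) htop t₀
  obtain ⟨V', hzV', g, hg⟩ := exists_gen_of_lift π hG z hzN s htop (hs ▸ ht₀)
  refine ⟨V', hzV', fun t' ht' hmem => ?_⟩
  have h' : (⊤ : X.Opens) ≤ Pic13.sliceAt k X q t' ht' ⁻¹ᵁ (π ⁻¹ᵁ V') := fun x _ => by
    show π (Pic13.sliceAt k X q t' ht' x) ∈ V'
    rw [← Scheme.Hom.comp_apply, show Pic13.sliceAt k X q t' ht' ≫ π = (X ↘ Spec (CommRingCat.of k)) ≫ t'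
      from pullback.lift_snd _ _ _, Scheme.Hom.comp_apply,
      Subsingleton.elim ((X ↘ Spec (CommRingCat.of k)) x) (IsLocalRing.closedPoint k)]
    exact hmem
  obtain ⟨φ⟩ := ProjMorph.exists_iso_of_gen_top ((isGen_pb (Pic13.sliceAt k X q t' ht') hg).restrict h')
  exact ⟨φ.symm⟩

/-- With `H¹(O) = 0`, the members of an invertible family are locally constant. -/
theorem exists_open_constant (h1 : Subsingleton (Coh.HH X (Coh.structureModule X) 1))
    {T : Scheme.{u}} (q : T ⟶ Spec (CommRingCat.of k)) [LocallyOfFiniteType q]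
    {M : (Pic13.prodK k X q).Modules} (hM : PicF.IsInvertible M)
    (s : Spec (CommRingCat.of k) ⟶ T) (hs : s ≫ q = 𝟙 _) :
    ∃ V : T.Opens, s (IsLocalRing.closedPoint k) ∈ V ∧
      ∀ (s' : Spec (CommRingCat.of k) ⟶ T) (hs' : s' ≫ q = 𝟙 _),
        s' (IsLocalRing.closedPoint k) ∈ V →
          Nonempty (Pic13.fibreMod k X q s' hs' M ≅ Pic13.fibreMod k X q s hs M) := by
  have hA : PicF.IsInvertible (Pic13.fibreMod k X q s hs M) := PicCl.isInvertible_pullback _ hM
  obtain ⟨A', hA', ⟨eA⟩⟩ := PicLaw.exists_inverse hA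
  let p : Pic13.prodK k X q ⟶ X := pullback.fst (X ↘ Spec (CommRingCat.of k)) q
  have hG : PicF.IsInvertible (CohB1.tensorMod ((Scheme.Modules.pullback p).obj A') M) :=
    AmpleLib.isInvertible_tensorMod (PicCl.isInvertible_pullback p hA') hM
  obtain ⟨f⟩ := EulerFam.nonempty_slice_iso q s hs A' M
  obtain ⟨V, hV, hV'⟩ := exists_open_trivial h1 q hG s hs (f ≪≫ tensComm A' _ ≪≫ eA)
  refine ⟨V, hV, fun s' hs' hm => ?_⟩
  obtain ⟨f'⟩ := EulerFam.nonempty_slice_iso q s' hs' A' M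
  obtain ⟨φ⟩ := hV' s' hs' hm
  exact nonempty_cancel hA' (f'.symm ≪≫ φ ≪≫ eA.symm ≪≫ tensComm _ A')

omit [IsAlgClosed k] in
/-- A locally constant predicate on the closed points of a connected Jacobson space is constant. -/
theorem forall_of_locally_constant {T : Type u} [TopologicalSpace T] [ConnectedSpace T]
    [JacobsonSpace T] (P : closedPoints T → Prop)
    (h : ∀ x : closedPoints T, ∃ V : Set T, IsOpen V ∧ (x : T) ∈ V ∧
      ∀ y : closedPoints T, (y : T) ∈ V → (P y ↔ P x))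
    {x₀ : closedPoints T} (hx₀ : P x₀) (x : closedPoints T) : P x := by
  choose V hVo hV hV' using h
  let O₁ : Set T := ⋃ x ∈ {x | P x}, V x
  let O₂ : Set T := ⋃ x ∈ {x | ¬ P x}, V x
  have hO₁ : IsOpen O₁ := isOpen_biUnion fun x _ => hVo x
  have hO₂ : IsOpen O₂ := isOpen_biUnion fun x _ => hVo x
  have h1 : ∀ y : closedPoints T, (y : T) ∈ O₁ → P y := fun y hy => by
    obtain ⟨z, hz, hyz⟩ := Set.mem_iUnion₂.1 hy
    exact (hV' z y hyz).2 hz
  have h2 : ∀ y : closedPoints T, (y : T) ∈ O₂ → ¬ P y := fun y hy => by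
    obtain ⟨z, hz, hyz⟩ := Set.mem_iUnion₂.1 hy
    exact fun hP => hz ((hV' z y hyz).1 hP)
  have hcompl : O₁ᶜ = O₂ := by
    refine subset_antisymm (fun w hw => ?_) (fun w hw hw₁ => ?_)
    · by_contra hw₂
      obtain ⟨c, hc, hcc⟩ := nonempty_inter_closedPoints
        (Set.nonempty_of_mem (show w ∈ (O₁ ∪ O₂)ᶜ from fun h => h.elim hw hw₂))
        (hO₁.union hO₂).isClosed_compl.isLocallyClosed
      by_cases hT : P ⟨c, hcc⟩
      · exact hc (Or.inl (Set.mem_iUnion₂.2 ⟨⟨c, hcc⟩, hT, hV _⟩))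
      · exact hc (Or.inr (Set.mem_iUnion₂.2 ⟨⟨c, hcc⟩, hT, hV _⟩))
    · obtain ⟨c, hc, hcc⟩ := nonempty_inter_closedPoints
        (Set.nonempty_of_mem (show w ∈ O₁ ∩ O₂ from ⟨hw₁, hw⟩)) (hO₁.inter hO₂).isLocallyClosed
      exact h2 ⟨c, hcc⟩ hc.2 (h1 ⟨c, hcc⟩ hc.1)
  have hcl : IsClopen O₁ := ⟨⟨hcompl ▸ hO₂⟩, hO₁⟩
  have hu : O₁ = Set.univ := hcl.eq_univ ⟨_, Set.mem_iUnion₂.2 ⟨x₀, hx₀, hV x₀⟩⟩
  exact h1 x (hu ▸ Set.mem_univ _)

/-- With `H¹(O) = 0` a module algebraically equivalent to zero is trivial. -/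
theorem iso_one_of_isAlgEquivZero (h1 : Subsingleton (Coh.HH X (Coh.structureModule X) 1))
    {L : X.Modules} (h : Pic13.IsAlgEquivZero k X L) : Nonempty (L ≅ Coh.structureModule X) := by
  obtain ⟨T, q, hconn, hft, hqc, M, hM, t, t₀, ht, ht₀, ⟨eL⟩, ⟨e₀⟩⟩ := h
  haveI := hconn
  haveI := hft
  haveI : JacobsonSpace T := LocallyOfFiniteType.jacobsonSpace q
  let P : closedPoints T → Prop := fun x => Nonempty (Pic13.fibreMod k X q
    (pointOfClosedPoint q x.1 x.2) (pointOfClosedPoint_comp _ _ _) M ≅ Coh.structureModule X)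
  have hloc : ∀ x : closedPoints T, ∃ V : Set T, IsOpen V ∧ (x : T) ∈ V ∧
      ∀ y : closedPoints T, (y : T) ∈ V → (P y ↔ P x) := fun x => by
    obtain ⟨V, hV, hV'⟩ :=
      exists_open_constant h1 q hM (pointOfClosedPoint q x.1 x.2) (pointOfClosedPoint_comp _ _ _)
    refine ⟨V, V.2, by rwa [pointOfClosedPoint_apply] at hV, fun y hy => ?_⟩
    obtain ⟨g⟩ := hV' (pointOfClosedPoint q y.1 y.2) (pointOfClosedPoint_comp _ _ _)
      (by rw [pointOfClosedPoint_apply]; exact hy)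
    exact ⟨fun ⟨a⟩ => ⟨g.symm ≪≫ a⟩, fun ⟨a⟩ => ⟨g ≪≫ a⟩⟩
  have key : ∀ (s : Spec (CommRingCat.of k) ⟶ T) (hs : s ≫ q = 𝟙 _), ∃ x : closedPoints T,
      P x ↔ Nonempty (Pic13.fibreMod k X q s hs M ≅ Coh.structureModule X) := fun s hs => by
    refine ⟨⟨_, ((pointEquivClosedPoint q) ⟨s, hs⟩).2⟩, ?_⟩
    have he : pointOfClosedPoint q _ ((pointEquivClosedPoint q) ⟨s, hs⟩).2 = s :=
      ext_of_apply_closedPoint_eq q (pointOfClosedPoint_comp _ _ _) hs (pointOfClosedPoint_apply _ _ _ _)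
    have aux : ∀ (r : Spec (CommRingCat.of k) ⟶ T) (hr : r ≫ q = 𝟙 _), r = s →
        (Nonempty (Pic13.fibreMod k X q r hr M ≅ Coh.structureModule X) ↔
          Nonempty (Pic13.fibreMod k X q s hs M ≅ Coh.structureModule X)) := by
      rintro r hr rfl
      rfl
    exact aux _ (pointOfClosedPoint_comp _ _ _) he
  obtain ⟨x₀, hx₀⟩ := key t₀ ht₀
  obtain ⟨x, hx⟩ := key t ht
  obtain ⟨φ⟩ := hx.1 (forall_of_locally_constant P hloc (hx₀.2 ⟨e₀⟩) x)
  exact ⟨eL.symm ≪≫ φ⟩

end Global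

end Groth.Agent.NumTriv.AlgTriv
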