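import Groth.Agent.NumTriv.SurfBdd
import Groth.Agent.NumTriv.Section
import Groth.Agent.NumTriv.BddHilb

/-!
# Modules with ample translates in both directions form a bounded family, and conversely
-/

universe u

open CategoryTheory CategoryTheory.Limits AlgebraicGeometry

set_option linter.style.haveILetI false

noncomputable section

namespace Groth.Agent.NumTriv.AmpleBdd

open ProjTwist OnSet Groth.Agent.VarDim

variable {k : Type u} [Field k] {n : ℕ}

/-- Both translates by `O(N)` of `L` and of its inverse are ample. -/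
def Amp {X : Scheme.{u}} (i : X ⟶ CohB1.ProjSpace n k) (N : ℕ) (L : X.Modules) : Prop :=
  PicF.IsInvertible L ∧ ∃ L' : X.Modules, PicF.IsInvertible L' ∧
    Nonempty (CohB1.tensorMod L L' ≅ Coh.structureModule X) ∧
    CohB1.IsAmple (CohB1.tensorMod (oX i N) L) ∧ CohB1.IsAmple (CohB1.tensorMod (oX i N) L')

theorem amp_pullback {X W : Scheme.{u}} (i : X ⟶ CohB1.ProjSpace n k) (j : W ⟶ X)
    [IsClosedImmersion j] {N : ℕ} {L : X.Modules} (h : Amp i N L) :
    Amp (j ≫ i) N ((Scheme.Modules.pullback j).obj L) := by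
  obtain ⟨hL, L', hL', ⟨e⟩, h₁, h₂⟩ := h
  refine ⟨PicCl.isInvertible_pullback j hL, (Scheme.Modules.pullback j).obj L',
    PicCl.isInvertible_pullback j hL', ⟨(KFlat.PullTensor.pullTensorIso j L L').symm ≪≫
      (Scheme.Modules.pullback j).mapIso e ≪≫ QCoh.pullbackUnitIso j⟩, ?_, ?_⟩
  · exact Props.AmpleFrames.isAmple_of_iso (KFlat.PullTensor.pullTensorIso j _ L ≪≫
      tensCongr ((Scheme.Modules.pullbackComp j i).app _) (Iso.refl _))
      (Wt.AmpleThick.isAmple_pullback j h₁)
  · exact Props.AmpleFrames.isAmple_of_iso (KFlat.PullTensor.pullTensorIso j _ L' ≪≫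
      tensCongr ((Scheme.Modules.pullbackComp j i).app _) (Iso.refl _))
      (Wt.AmpleThick.isAmple_pullback j h₂)

/-- The product of two ample modules is ample. -/
theorem isAmple_tens {X : Scheme.{u}} {A B : X.Modules} (hA : CohB1.IsAmple A) (hB : CohB1.IsAmple B) :
    CohB1.IsAmple (CohB1.tensorMod A B) :=
  Props.AmpleTensor.isAmple_of_frameMap2 hA hB.1 one_pos one_pos
    (Props.AmpleTensor.FrameMap2.tensor A B) fun x => by
      obtain ⟨n, t, hx, -⟩ := hB.2.2 x
      exact ⟨n, t, hx⟩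

variable {X : Scheme.{u}} [X.Over (Spec (CommRingCat.of k))] [IsProper (X ↘ Spec (CommRingCat.of k))]

/-- Equality of degrees on the one dimensional points of a closed set. -/
theorem deg1_eq {S : Set X} {L M : X.Modules} (hL : PicF.IsInvertible L) (hM : PicF.IsInvertible M)
    (h : ∀ y ∈ S, topologicalKrullDim ↥(closure ({y} : Set X)) = ((1 : ℕ) : WithBot ℕ∞) →
      deg1 k (Cyc.closureStructureSheaf y) L = deg1 k (Cyc.closureStructureSheaf y) M)
    {F : X.Modules} (hF : Coh.IsCoh F) (hS : CohB1.support F ⊆ S)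
    (hd : topologicalKrullDim ↥(CohB1.support F) ≤ ((1 : ℕ) : WithBot ℕ∞)) :
    deg1 k F L = deg1 k F M := by
  haveI := EulerChar.isNoetherian k (X := X)
  have e : ∀ {A : X.Modules} (hA : PicF.IsInvertible A), deg1 k F A = dev k hA (CohDev.kcl F) :=
    fun hA => (dev_kcl k hA hF).symm
  rw [e hL, e hM]
  have hmem := CohDev.kcl_mem_closure_oz hF
  revert hmem
  generalize CohDev.kcl F = c
  intro hmem
  induction hmem using AddSubgroup.closure_induction with
  | zero => simp
  | add x y _ _ hx hy => rw [map_add, map_add, hx, hy]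
  | neg x _ hx => rw [map_neg, map_neg, hx]
  | mem c hc =>
    obtain ⟨y, hy, rfl⟩ := hc
    rw [dev_kcl k hL (CohDev.isCoh_oz y), dev_kcl k hM (CohDev.isCoh_oz y)]
    rcases ((CohDev.dim_mono (closure_minimal (Set.singleton_subset_iff.2 hy)
      (CohDev.isClosed_support hF))).trans hd).eq_or_lt with h1 | h0
    · exact h y (hS hy) h1
    · have h0' := Snapper.le_of_lt_succ ((CohDev.dim_mono (CohDev.support_oz_subset y)).trans_lt h0)
      rw [euler_tens_dim_zero k hL (CohDev.isCoh_oz y) h0',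
        euler_tens_dim_zero k hM (CohDev.isCoh_oz y) h0']

/-- The quotient of two modules with the same degrees is trivial on the set. -/
theorem numOn_quot {S : Set X} {L M M' : X.Modules} (hL : PicF.IsInvertible L)
    (hM : PicF.IsInvertible M) (hM' : PicF.IsInvertible M')
    (e : CohB1.tensorMod M M' ≅ Coh.structureModule X)
    (h : ∀ F : X.Modules, Coh.IsCoh F → CohB1.support F ⊆ S →
      topologicalKrullDim ↥(CohB1.support F) ≤ ((1 : ℕ) : WithBot ℕ∞) → deg1 k F L = deg1 k F M) :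
    NumOn k S (CohB1.tensorMod L M') :=
  ⟨AmpleLib.isInvertible_tensorMod hL hM', fun F hF hs hd => sub_eq_zero.1 (by
    change deg1 k F _ = 0
    have h0 : deg1 k F M + deg1 k F M' = 0 := by
      rw [← deg1_tens k hF hd hM hM', deg1_iso k F e, deg1_one]
    rw [deg1_tens k hF hd hL hM', h F hF hs hd]
    exact h0)⟩

/-- Equal degrees from a `Num1` quotient. -/
theorem deg1_of_quot {L M M' : X.Modules} (hL : PicF.IsInvertible L)
    (hM : PicF.IsInvertible M) (hM' : PicF.IsInvertible M')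
    (e : CohB1.tensorMod M M' ≅ Coh.structureModule X) (h : Num1 k (CohB1.tensorMod L M'))
    {F : X.Modules} (hF : Coh.IsCoh F)
    (hd : topologicalKrullDim ↥(CohB1.support F) ≤ ((1 : ℕ) : WithBot ℕ∞)) :
    deg1 k F L = deg1 k F M := by
  have h1 : deg1 k F (CohB1.tensorMod L M') = 0 := sub_eq_zero.2 (h.2 F hF hd)
  have h0 : deg1 k F M + deg1 k F M' = 0 := by
    rw [← deg1_tens k hF hd hM hM', deg1_iso k F e, deg1_one]
  rw [deg1_tens k hF hd hL hM'] at h1
  omega

/-- Degrees on a one dimensional sheaf are bounded. -/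
theorem deg1_bound (i : X ⟶ CohB1.ProjSpace n k) {N : ℕ} {L : X.Modules} (h : Amp i N L)
    {F : X.Modules} (hF : Coh.IsCoh F)
    (hd : topologicalKrullDim ↥(CohB1.support F) ≤ ((1 : ℕ) : WithBot ℕ∞)) :
    |deg1 k F L| ≤ |deg1 k F (oX i N)| := by
  obtain ⟨hL, L', hL', ⟨e⟩, h₁, h₂⟩ := h
  have a := deg1_nonneg k hF hd h₁
  have b := deg1_nonneg k hF hd h₂
  rw [deg1_tens k hF hd (isInvertible_oX i N) hL] at a
  rw [deg1_tens k hF hd (isInvertible_oX i N) hL'] at b
  have h0 : deg1 k F L + deg1 k F L' = 0 := by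
    rw [← deg1_tens k hF hd hL hL', deg1_iso k F e, deg1_one]
  have h3 := le_abs_self (deg1 k F (oX i N))
  rw [abs_le]
  omega

/-- The degree vector. -/
theorem exists_degClasses (i : X ⟶ CohB1.ProjSpace n k) (N : ℕ) (s : Finset X) (hs : ∀ y ∈ s,
    topologicalKrullDim ↥(closure ({y} : Set X)) = ((1 : ℕ) : WithBot ℕ∞)) :
    ∃ (ι : Type u) (_ : Finite ι) (cl : X.Modules → ι), ∀ L M, Amp i N L → Amp i N M →
      cl L = cl M → ∀ y ∈ s, deg1 k (Cyc.closureStructureSheaf y) L =
        deg1 k (Cyc.closureStructureSheaf y) M := by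
  classical
  haveI := EulerChar.isNoetherian k (X := X)
  let b : {y // y ∈ s} → ℕ := fun y =>
    (|deg1 k (Cyc.closureStructureSheaf y.1) (oX i N)|).toNat
  refine ⟨{y // y ∈ s} → ULift.{u} (Option Bool × Fin ((∑ y, b y) + 1)), inferInstance,
    fun L y => ⟨(some (0 ≤ deg1 k (Cyc.closureStructureSheaf y.1) L : Bool),
      ⟨min (deg1 k (Cyc.closureStructureSheaf y.1) L).natAbs (∑ y, b y), by omega⟩)⟩, ?_⟩
  intro L M hL hM h y hy
  have hdy : topologicalKrullDim ↥(CohB1.support (Cyc.closureStructureSheaf y)) ≤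
      ((1 : ℕ) : WithBot ℕ∞) := (CohDev.dim_mono (CohDev.support_oz_subset y)).trans (hs y hy).le
  have hbL := deg1_bound i hL (CohDev.isCoh_oz y) hdy
  have hbM := deg1_bound i hM (CohDev.isCoh_oz y) hdy
  have hle : b ⟨y, hy⟩ ≤ ∑ y, b y := Finset.single_le_sum (fun z _ => Nat.zero_le _) (Finset.mem_univ _)
  have hc := congrArg ULift.down (congrFun h ⟨y, hy⟩)
  simp only [Prod.mk.injEq, Option.some.injEq, Fin.mk.injEq, decide_eq_decide] at hc
  obtain ⟨hs', hm⟩ := hc
  have hb : ((b ⟨y, hy⟩ : ℕ) : ℤ) = |deg1 k (Cyc.closureStructureSheaf y) (oX i N)| :=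
    Int.toNat_of_nonneg (abs_nonneg _)
  rw [abs_le] at hbL hbM
  omega

/-- Integral schemes. -/
theorem isBounded_amp [IsAlgClosed k] : ∀ (e : ℕ) {X : Scheme.{u}} [X.Over (Spec (CommRingCat.of k))]
    [IsProper (X ↘ Spec (CommRingCat.of k))] [IsIntegral X] (i : X ⟶ CohB1.ProjSpace n k)
    [IsClosedImmersion i] (_ : i ≫ CohB1.ProjSpace.toSpec n k = X ↘ Spec (CommRingCat.of k))
    (_ : topologicalKrullDim X = (e : WithBot ℕ∞)) (N : ℕ),
    Pic13.IsBounded k X (fun L => Amp i N L) := by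
  intro e
  induction e using Nat.strong_induction_on with
  | _ e IH =>
  intro X _ _ _ i _ hi he N
  classical
  haveI := EulerChar.isNoetherian k (X := X)
  have hη : ∀ y : X, topologicalKrullDim ↥(closure ({y} : Set X)) ≤ (e : WithBot ℕ∞) := fun y =>
    (Topology.IsInducing.topologicalKrullDim_le Topology.IsInducing.subtypeVal).trans he.le
  by_cases he2 : e ≤ 1
  · -- curves and points
    have hfin := IntProd70.finite_top (X := X) (T := Set.univ) (d := 1) isClosed_univ
      (((IsHomeomorph.topologicalKrullDim_eq _ (Homeomorph.Set.univ X).isHomeomorph).trans_le he.le).trans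
        (by exact_mod_cast he2))
    obtain ⟨ι, _, cl, hcl⟩ := exists_degClasses i N hfin.toFinset
      (fun y hy => (hfin.mem_toFinset.1 hy).2)
    refine Translate.isBounded_of_classes (fun a L => cl L = a) (fun L hL => hL.1)
      (fun L _ => ⟨_, rfl⟩) fun a L M hL hM ha hb F hF hd => ?_
    exact deg1_eq (S := Set.univ) hL.1 hM.1 (fun y _ hy => hcl L M hL hM (ha.trans hb.symm) y
      (hfin.mem_toFinset.2 ⟨trivial, hy⟩)) hF (Set.subset_univ _) hd
  have hd : topologicalKrullDim ↥(CohB1.support (Coh.structureModule X)) ≤ (e : WithBot ℕ∞) :=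
    EulerChar.dim_support_le he.le
  obtain ⟨φ, hφ, -⟩ := exists_hyper i (ProperFin.isCoh_structureModule X)
  haveI := hφ
  let σ : oX i (-1) ⟶ Coh.structureModule X := (oneTens _).inv ≫ φ
  haveI : Mono σ := @mono_comp _ _ _ _ _ _ inferInstance φ hφ
  have hσ : σ ≠ 0 := fun h0 => by
    have hm : Mono (0 : oX i (-1) ⟶ Coh.structureModule X) := h0 ▸ (inferInstance : Mono σ)
    have hz : IsZero (oX i (-1)) := by
      rw [IsZero.iff_id_eq_zero]
      exact (cancel_mono (0 : oX i (-1) ⟶ Coh.structureModule X)).1 (by simp)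
    obtain ⟨e1⟩ := EulerChar.stalk_ofRank (ProjTwist.isFinLocFreeOfRank_one (isInvertible_oX i (-1)))
      (genericPoint X)
    haveI : Subsingleton ((oX i (-1)).presheaf.stalk (genericPoint X)) := by
      by_contra hns
      have : genericPoint X ∈ CohB1.support (oX i (-1)) := hns
      rw [IntProd70.support_eq_empty_of_isZero hz] at this
      exact this
    haveI : Subsingleton (Fin 1 → X.presheaf.stalk (genericPoint X)) := e1.injective.subsingleton
    exact one_ne_zero (congrFun (Subsingleton.elim (1 : Fin 1 → X.presheaf.stalk (genericPoint X)) 0) 0)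
  have hσc : Coh.IsCoh (cokernel σ) := CohDev.isCoh_cokernel σ
    (ProjTwist.isQCoh_of_isInvertible (isInvertible_oX i (-1))) (ProperFin.isCoh_structureModule X)
  have hηS : genericPoint X ∉ CohB1.support (cokernel σ) := CohDev.not_mem_support_cokernel σ
    (EulerChar.bijective_stalk_generic (isInvertible_oX i (-1))
      (LFFrame.isInvertible_structureModule X) σ hσ).2
  let S := CohB1.support (cokernel σ)
  have hScl : IsClosed S := CohDev.isClosed_support hσc
  have hSdim : topologicalKrullDim ↥S < (e : WithBot ℕ∞) :=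
    CohDev.dim_lt_of_irreducible (C := Set.univ) hScl
      (IrreducibleSpace.isIrreducible_univ X) (Set.subset_univ _) (fun h => hηS (h (Set.mem_univ _)))
      ((IsHomeomorph.topologicalKrullDim_eq _ (Homeomorph.Set.univ X).isHomeomorph).trans_le he.le)
  by_cases he3 : e = 2
  · subst he3
    have hS1 : topologicalKrullDim ↥S ≤ ((1 : ℕ) : WithBot ℕ∞) := Snapper.le_of_lt_succ hSdim
    have hfin := IntProd70.finite_top (X := X) hScl hS1
    obtain ⟨ι, _, cl, hcl⟩ := exists_degClasses i N hfin.toFinset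
      (fun y hy => (hfin.mem_toFinset.1 hy).2)
    have hO := ProperFin.isCoh_structureModule X
    let c : ℤ := - (Curv2.euler k X (CohB1.tensorMod (Coh.structureModule X)
        (CohB1.tensorMod (oX i (2 * N : ℕ)) (oX i (2 * N : ℕ)))) -
      2 * Curv2.euler k X (CohB1.tensorMod (Coh.structureModule X) (oX i (2 * N : ℕ))) +
      Curv2.euler k X (Coh.structureModule X))
    have hb := SurfBdd.isBounded_numOn i hi σ hσ subset_rfl (S := S) he c
    obtain ⟨κ, _, Cl, hCcov, hCpair⟩ := exists_algClasses_of_isBounded hb fun M hM => hM.1.1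
    let rep : ι → X.Modules := fun a =>
      if h : ∃ L, Amp i N L ∧ cl L = a then h.choose else Coh.structureModule X
    have hrepA : ∀ L, Amp i N L → Amp i N (rep (cl L)) ∧ cl (rep (cl L)) = cl L := fun L hL => by
      have h : ∃ M, Amp i N M ∧ cl M = cl L := ⟨L, hL, rfl⟩
      simp only [rep, dif_pos h]
      exact h.choose_spec
    let Cl' : ι × κ → X.Modules → Prop := fun a L => cl L = a.1 ∧ ∃ J : X.Modules,
      PicF.IsInvertible J ∧ Nonempty (CohB1.tensorMod (rep a.1) J ≅ Coh.structureModule X) ∧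
        Cl a.2 (CohB1.tensorMod L J)
    refine Translate.isBounded_of_classes Cl' (fun L hL => hL.1) (fun L hL => ?_) fun a L M hL hM ha hb' F hF hdF => ?_
    · obtain ⟨hr, hrc⟩ := hrepA L hL
      obtain ⟨hL1, L', hL', ⟨eL⟩, hamp1, -⟩ := id hL
      obtain ⟨hr1, J, hJ, ⟨eJ⟩, -, hamp2⟩ := id hr
      have hM : NumOn k S (CohB1.tensorMod L J) := numOn_quot hL1 hr1 hJ eJ fun F hF hs hd1 =>
        deg1_eq hL1 hr1 (fun y hyS hy => hcl L _ hL hr hrc.symm y (hfin.mem_toFinset.2 ⟨hyS, hy⟩))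
          hF hs hd1
      -- the twist `L ⊗ J ⊗ O(2N)` is ample
      let M := CohB1.tensorMod L J
      let T := oX i (2 * N : ℕ)
      have hT := isInvertible_oX i ((2 * N : ℕ) : ℤ)
      obtain ⟨eT⟩ := nonempty_oX_add i (N : ℤ) (N : ℤ) ((2 * N : ℕ) : ℤ) (by push_cast; ring)
      have hAmp : CohB1.IsAmple (CohB1.tensorMod M T) := by
        refine Props.AmpleFrames.isAmple_of_iso ?_ (isAmple_tens hamp1 hamp2)
        exact tensAssoc (oX i N) L _ ≪≫ tensCongr (Iso.refl _) (tensComm L _ ≪≫ tensAssoc (oX i N) J L) ≪≫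
          (tensAssoc (oX i N) (oX i N) _).symm ≪≫ tensCongr eT (tensComm J L) ≪≫ tensComm _ M
      have hMT := AmpleLib.isInvertible_tensorMod hM.1 hT
      obtain ⟨P, hP⟩ := HilbPolyX.exists_hilbPoly k hMT hO
      have hsupp : topologicalKrullDim ↥(CohB1.support (Coh.structureModule X)) =
          ((2 : ℕ) : WithBot ℕ∞) := by
        have hu : CohB1.support (Coh.structureModule X) = Set.univ := by
          refine Set.eq_univ_of_forall fun x hx => ?_
          obtain ⟨e⟩ := EulerChar.stalk_ofRank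
            (ProjTwist.isFinLocFreeOfRank_one (LFFrame.isInvertible_structureModule X)) x
          haveI : Subsingleton ((Coh.structureModule X).presheaf.stalk x) := hx
          haveI : Subsingleton (Fin 1 → X.presheaf.stalk x) := e.injective.subsingleton
          exact one_ne_zero (congrFun (Subsingleton.elim (1 : Fin 1 → X.presheaf.stalk x) 0) 0)
        rw [hu, IsHomeomorph.topologicalKrullDim_eq _ (Homeomorph.Set.univ X).isHomeomorph, he]
      have hpos : 0 < P.coeff 2 := HilbPolyX.coeff_pos k hAmp 2 hO hP hsupp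
      have hPd : P.natDegree ≤ 2 := HilbPolyX.natDegree_le k hMT hO hP hsupp.le
      have hev : ∀ x : ℚ, P.eval x = P.coeff 0 + P.coeff 1 * x + P.coeff 2 * x ^ 2 := fun x => by
        rw [Polynomial.eval_eq_sum_range' (Nat.lt_succ_of_le hPd)]
        simp [Finset.sum_range_succ]
      have p0 := hP 0
      have p1 := hP 1
      have p2 := hP 2
      rw [hev] at p0 p1 p2
      push_cast at p0 p1 p2
      have e0 : Curv2.euler k X (ShStab.twist X (CohB1.tensorMod M T) (Coh.structureModule X) 0) =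
          Curv2.euler k X (Coh.structureModule X) := EulerChar.euler_iso k (tensOne _)
      have e1 : Curv2.euler k X (ShStab.twist X (CohB1.tensorMod M T) (Coh.structureModule X) 1) =
          Curv2.euler k X (CohB1.tensorMod (Pic13.twistOn k i (Coh.structureModule X) (2 * N : ℕ)) M) :=
        EulerChar.euler_iso k (tensCongr (Iso.refl _) (oneTens _ ≪≫ tensComm M T) ≪≫
          (tensAssoc _ T M).symm)
      obtain ⟨eTT⟩ := nonempty_oX_add i ((2 * N : ℕ) : ℤ) ((2 * N : ℕ) : ℤ) ((4 * N : ℕ) : ℤ)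
        (by push_cast; ring)
      have e2 : Curv2.euler k X (ShStab.twist X (CohB1.tensorMod M T) (Coh.structureModule X) 2) =
          Curv2.euler k X (CohB1.tensorMod (Pic13.twistOn k i (Coh.structureModule X) (4 * N : ℕ))
            (CohB1.tensorMod M M)) :=
        EulerChar.euler_iso k (tensCongr (Iso.refl _)
          (tensCongr (oneTens _ ≪≫ tensComm M T) (tensComm M T) ≪≫ tensAssoc T M _ ≪≫
            tensCongr (Iso.refl T) ((tensAssoc M T M).symm ≪≫
              tensCongr (tensComm M T) (Iso.refl M) ≪≫ tensAssoc T M M) ≪≫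
            (tensAssoc T T _).symm ≪≫ tensCongr eTT (Iso.refl _)) ≪≫ (tensAssoc _ _ _).symm)
      have c1 := IdealBound.euler_twist_const i hi σ hσ subset_rfl (S := S)
        (𝟙 (Coh.structureModule X)) hO hM ((2 * N : ℕ) : ℤ)
      have c2 := IdealBound.euler_twist_const i hi σ hσ subset_rfl (S := S)
        (𝟙 (Coh.structureModule X)) hO (numOn_tens hM hM) ((4 * N : ℕ) : ℤ)
      have hTT : Curv2.euler k X (CohB1.tensorMod (Coh.structureModule X) (CohB1.tensorMod T T)) =
          Curv2.euler k X (Pic13.twistOn k i (Coh.structureModule X) ((4 * N : ℕ) : ℤ)) :=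
        EulerChar.euler_iso k (tensCongr (Iso.refl _) eTT)
      have hsum : (0 : ℤ) < Curv2.euler k X (ShStab.twist X (CohB1.tensorMod M T) (Coh.structureModule X) 2)
          - 2 * Curv2.euler k X (ShStab.twist X (CohB1.tensorMod M T) (Coh.structureModule X) 1)
          + Curv2.euler k X (ShStab.twist X (CohB1.tensorMod M T) (Coh.structureModule X) 0) := by
        exact_mod_cast (by push_cast; dsimp only [M, T]; push_cast; linarith :
          (0 : ℚ) < ((Curv2.euler k X (ShStab.twist X (CohB1.tensorMod M T) (Coh.structureModule X) 2)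
            - 2 * Curv2.euler k X (ShStab.twist X (CohB1.tensorMod M T) (Coh.structureModule X) 1)
            + Curv2.euler k X (ShStab.twist X (CohB1.tensorMod M T) (Coh.structureModule X) 0) : ℤ) : ℚ))
      rw [e0, e1, e2] at hsum
      have hT1 : Curv2.euler k X (CohB1.tensorMod (Coh.structureModule X) T) =
          Curv2.euler k X (Pic13.twistOn k i (Coh.structureModule X) ((2 * N : ℕ) : ℤ)) := rfl
      obtain ⟨b, hb2⟩ := hCcov M ⟨hM, by simp only [c, T, M] at *; omega⟩
      exact ⟨(cl L, b), rfl, J, hJ, ⟨eJ⟩, hb2⟩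
    · obtain ⟨ha1, J, hJ, ⟨eJ⟩, hcL⟩ := ha
      obtain ⟨hb1, J₂, hJ₂, ⟨eJ₂⟩, hcM⟩ := hb'
      obtain ⟨hMJ, N', hN', hN'alg, ⟨g⟩⟩ := hCpair a.2 _ _ hcL hcM
      have hN0 : deg1 k F N' = 0 := by
        have hτ : Pic13.IsTauEquivZero k X N' :=
          ⟨1, one_pos, EulerFam.isAlgEquivZero_of_iso (oneTens N').symm hN'alg⟩
        exact sub_eq_zero.2 ((num1_of_isTauEquivZero k hN' hτ).2 F hF hdF)
      have hr : PicF.IsInvertible (rep a.1) := (hrepA L hL |>.1.1 : _) |> (ha1 ▸ ·)
      have x1 : deg1 k F (rep a.1) + deg1 k F J = 0 := by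
        rw [← deg1_tens k hF hdF hr hJ, deg1_iso k F eJ, deg1_one]
      have x2 : deg1 k F (rep a.1) + deg1 k F J₂ = 0 := by
        rw [← deg1_tens k hF hdF hr hJ₂, deg1_iso k F eJ₂, deg1_one]
      have x3 := deg1_iso k F g
      rw [deg1_tens k hF hdF hL.1 hJ, deg1_tens k hF hdF hMJ hN',
        deg1_tens k hF hdF hM.1 hJ₂, hN0] at x3
      omega
  -- dimension at least three
  obtain ⟨C, hCfin, hCcl, hCirr, hCU⟩ :=
    TopologicalSpace.NoetherianSpace.exists_finite_set_isClosed_irreducible hScl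
  haveI : Finite C := hCfin.to_subtype
  have hgen : ∀ Z : C, ∃ x : X, closure ({x} : Set X) = Z.1 := fun Z =>
    QuasiSober.sober (hCirr _ Z.2) (hCcl _ Z.2) |>.imp fun x hx => hx.def
  choose x hx using hgen
  have hxd : ∀ Z : C, dimPt k X (x Z) < e := fun Z => by
    have h1 : closure ({x Z} : Set X) ⊆ S := by
      rw [hx Z]; exact hCU ▸ Set.subset_sUnion_of_mem Z.2
    have h2 := (CohDev.dim_mono h1).trans_lt hSdim
    rw [Wall.dim_closure k (x Z)] at h2
    exact_mod_cast h2
  let W : C → Scheme.{u} := fun Z => (IntMult.ptIdeal (x Z)).subscheme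
  let j : ∀ Z : C, W Z ⟶ X := fun Z => (IntMult.ptIdeal (x Z)).subschemeι
  letI : ∀ Z, (W Z).Over (Spec (CommRingCat.of k)) := fun Z => ⟨j Z ≫ (X ↘ Spec (CommRingCat.of k))⟩
  haveI : ∀ Z, IsProper (W Z ↘ Spec (CommRingCat.of k)) := fun Z =>
    inferInstanceAs (IsProper (j Z ≫ (X ↘ Spec (CommRingCat.of k))))
  haveI : ∀ Z, IsIntegral (W Z) := fun Z =>
    S16188.isIntegral_subscheme _ isIrreducible_singleton.closure
  have hjr : ∀ Z, Set.range (j Z).base = closure ({x Z} : Set X) := fun Z =>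
    (IntMult.ptIdeal (x Z)).range_subschemeι
  have hji : ∀ Z, (j Z ≫ i) ≫ CohB1.ProjSpace.toSpec n k = W Z ↘ Spec (CommRingCat.of k) := fun Z => by
    rw [Category.assoc, hi]; rfl
  have hbZ : ∀ Z, Pic13.IsBounded k (W Z) (fun L => Amp (j Z ≫ i) N L) := fun Z =>
    IH _ (hxd Z) (j Z ≫ i) (hji Z) ((Hodge.dim_ptIdeal (x Z)).trans (Wall.dim_closure k (x Z))) N
  choose κ hκ Cl hcov hpair using fun Z => exists_algClasses_of_isBounded (hbZ Z) fun L hL => hL.1
  haveI := hκ
  let Cl' : (∀ Z, κ Z) → X.Modules → Prop := fun a L =>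
    ∀ Z, Cl Z (a Z) ((Scheme.Modules.pullback (j Z)).obj L)
  refine Translate.isBounded_of_classes Cl' (fun L hL => hL.1)
    (fun L hL => ⟨fun Z => (hcov Z _ (amp_pullback i (j Z) hL)).choose,
      fun Z => (hcov Z _ (amp_pullback i (j Z) hL)).choose_spec⟩) fun a L M hL hM ha hb F hF hdF => ?_
  obtain ⟨M', hM', ⟨eM⟩⟩ := PicLaw.exists_inverse hM.1
  refine deg1_of_quot hL.1 hM.1 hM' eM (Hodge.num1_of_three_le e i hi he (by omega) σ
    (S := S) subset_rfl (numOn_quot hL.1 hM.1 hM' eM fun G hG hGS hGd => ?_)) hF hdF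
  refine deg1_eq hL.1 hM.1 (fun y hy hy1 => ?_) hG hGS hGd
  obtain ⟨Z, hZ, hyZ⟩ : ∃ Z, Z ∈ C ∧ y ∈ Z := by
    have h : y ∈ ⋃₀ C := hCU ▸ hy
    exact h
  obtain ⟨hMi, N', hN', hNalg, ⟨g⟩⟩ := hpair ⟨Z, hZ⟩ _ _ _ (ha ⟨Z, hZ⟩) (hb ⟨Z, hZ⟩)
  -- compute on the component
  have hN1 : Num1 k N' := num1_of_isTauEquivZero k hN'
    ⟨1, one_pos, EulerFam.isAlgEquivZero_of_iso (oneTens N').symm hNalg⟩
  have hq : Num1 k ((Scheme.Modules.pullback (j ⟨Z, hZ⟩)).obj (CohB1.tensorMod L M')) := by
    refine num1_iso k ?_ (PicCl.isInvertible_pullback _ (AmpleLib.isInvertible_tensorMod hL.1 hM')) hN1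
    exact (oneTens N').symm ≪≫ tensCongr ((QCoh.pullbackUnitIso (j ⟨Z, hZ⟩)).symm ≪≫
        (Scheme.Modules.pullback _).mapIso (eM.symm ≪≫ tensComm M M') ≪≫
        KFlat.PullTensor.pullTensorIso _ M' M) (Iso.refl N') ≪≫
      tensAssoc _ _ _ ≪≫ tensComm _ _ ≪≫ tensCongr g.symm (Iso.refl _) ≪≫
      (KFlat.PullTensor.pullTensorIso _ L M').symm
  have hNO := Hodge.numOn_range (j ⟨Z, hZ⟩) rfl (AmpleLib.isInvertible_tensorMod hL.1 hM') hq
  have hyr : closure ({y} : Set X) ⊆ Set.range (j ⟨Z, hZ⟩).base := by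
    rw [hjr, hx]
    exact closure_minimal (Set.singleton_subset_iff.2 hyZ) (hCcl _ hZ)
  have hdy := (CohDev.dim_mono (CohDev.support_oz_subset y)).trans hy1.le
  have h1 : deg1 k (Cyc.closureStructureSheaf y) (CohB1.tensorMod L M') = 0 :=
    sub_eq_zero.2 (hNO.2 _ (CohDev.isCoh_oz y) ((CohDev.support_oz_subset y).trans hyr) hdy)
  have h0 : deg1 k (Cyc.closureStructureSheaf y) M + deg1 k (Cyc.closureStructureSheaf y) M' = 0 := by
    rw [← deg1_tens k (CohDev.isCoh_oz y) hdy hM.1 hM', deg1_iso k _ eM, deg1_one]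
  rw [deg1_tens k (CohDev.isCoh_oz y) hdy hL.1 hM'] at h1
  omega

end Groth.Agent.NumTriv.AmpleBdd
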