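import Groth.Agent.NumTriv.AmpleBdd
import Groth.Agent.NumTriv.Bounded
import Groth.Agent.NumTriv.HomKernel
import Groth.Agent.EulerFam.RegBounded

/-!
# Bounded families of invertible modules and ample translates
-/

universe u

open CategoryTheory CategoryTheory.Limits AlgebraicGeometry

set_option linter.style.haveILetI false

noncomputable section

namespace Groth.Agent.NumTriv.AmpleIff

open ProjTwist ProjTwist.Pn OnSet Groth.Agent.VarDim

variable {k : Type u} [Field k] {X : Scheme.{u}} [X.Over (Spec (CommRingCat.of k))]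
  [IsProper (X ↘ Spec (CommRingCat.of k))] {n : ℕ} (i : X ⟶ CohB1.ProjSpace n k) [IsClosedImmersion i]

omit [X.Over (Spec (CommRingCat.of k))] [IsProper (X ↘ Spec (CommRingCat.of k))] in
/-- An inverse of an invertible module is invertible. -/
theorem isInvertible_inverse {L L' : X.Modules} (hL : PicF.IsInvertible L)
    (e : CohB1.tensorMod L L' ≅ Coh.structureModule X) : PicF.IsInvertible L' := by
  obtain ⟨M, hM, ⟨eM⟩⟩ := PicLaw.exists_inverse hL
  exact PicCl.isInvertible_of_iso ((tensOne M).symm ≪≫ tensCongr (Iso.refl M) e.symm ≪≫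
    (tensAssoc M L L').symm ≪≫ tensCongr (tensComm M L ≪≫ eM) (Iso.refl L') ≪≫ oneTens L') hM

/-- Translates of a bounded family by high powers of an ample module are globally generated. -/
theorem exists_gg_of_bounded [Infinite k]
    (hi : i ≫ CohB1.ProjSpace.toSpec n k = X ↘ Spec (CommRingCat.of k))
    {H : X.Modules} (hH : CohB1.IsAmple H) {P : X.Modules → Prop}
    (hP : ∀ L, P L → PicF.IsInvertible L) (hb : Pic13.IsBounded k X P) :
    ∃ N₀ : ℕ, ∀ N, N₀ ≤ N → ∀ L, P L →
      Curv2.IsGloballyGenerated (CohB1.tensorMod (CohB1.tensorPow H N) L) := by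
  haveI := EulerChar.isNoetherian k (X := X)
  haveI := isLocallyNoetherian_projSpace n k
  have hc : ∀ L, P L → Coh.IsCoh L := fun L hL =>
    VBLib.isCoh_of_ofRank (ProjTwist.isFinLocFreeOfRank_one (hP L hL))
  obtain ⟨m, hm⟩ := BddHilb.exists_regular i hi hc hb
  obtain ⟨n₀, hn₀⟩ := AmpleLib.eventually_globallyGenerated hH
    (ProjTwist.isQCoh_of_isInvertible (isInvertible_oX i (-m)))
    (VBLib.isCoh_of_ofRank (ProjTwist.isFinLocFreeOfRank_one (isInvertible_oX i (-m)))).2
  refine ⟨n₀, fun N hN L hL => ?_⟩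
  haveI := (hc L hL).1
  have h1 : Curv2.IsGloballyGenerated (Pic13.twistOn k i L m) :=
    CMReg.isGloballyGenerated_twistOn i _ m (isGloballyGenerated_of_isMRegular
      (ProperFin.isCoh_push_of_isFinite i _ (hc L hL)) (CMReg.isMRegular_push i (hm L hL)))
  have h2 : Curv2.IsGloballyGenerated (CohB1.tensorMod L (oX i m)) :=
    CMReg.isGloballyGenerated_iso (Iso.refl _) h1
  have h3 := gg_tens (AmpleLib.isInvertible_tensorMod (isInvertible_oX i (-m))
    (AmpleLib.isInvertible_tensorPow hH.1 N))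
    (AmpleLib.isInvertible_tensorMod (hP L hL) (isInvertible_oX i m)) (hn₀ N hN) h2
  obtain ⟨e⟩ := nonempty_oX_add i (-m) m 0 (by ring)
  obtain ⟨e₀⟩ := nonempty_oX_zero i
  refine CMReg.isGloballyGenerated_iso ?_ h3
  let A := oX i (-m)
  let B := oX i m
  let T := CohB1.tensorPow H N
  exact tensCongr (tensComm A T) (tensComm L B) ≪≫ tensAssoc T A (CohB1.tensorMod B L) ≪≫
    tensCongr (Iso.refl T) ((tensAssoc A B L).symm ≪≫ tensCongr (e ≪≫ e₀) (Iso.refl L) ≪≫ oneTens L)

/-- Translates of a bounded family by high powers of an ample module are ample. -/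
theorem exists_ample_of_bounded [Infinite k]
    (hi : i ≫ CohB1.ProjSpace.toSpec n k = X ↘ Spec (CommRingCat.of k))
    {H : X.Modules} (hH : CohB1.IsAmple H) {P : X.Modules → Prop}
    (hP : ∀ L, P L → PicF.IsInvertible L) (hb : Pic13.IsBounded k X P) :
    ∃ N₀ : ℕ, ∀ N, N₀ ≤ N → ∀ L, P L →
      CohB1.IsAmple (CohB1.tensorMod (CohB1.tensorPow H N) L) := by
  obtain ⟨N₀, h⟩ := exists_gg_of_bounded i hi hH hP hb
  refine ⟨N₀ + 1, fun N hN L hL => ?_⟩
  obtain ⟨N, rfl⟩ : ∃ M, N = M + 1 := ⟨N - 1, by omega⟩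
  let T := CohB1.tensorPow H N
  refine Props.AmpleFrames.isAmple_of_iso
    ((tensAssoc H T L).symm ≪≫ tensCongr (tensComm H T) (Iso.refl L) :
      CohB1.tensorMod H (CohB1.tensorMod T L) ≅
        CohB1.tensorMod (CohB1.tensorPow H (N + 1)) L) ?_
  exact isAmple_tens_gg hH
    (AmpleLib.isInvertible_tensorMod (AmpleLib.isInvertible_tensorPow hH.1 N) (hP L hL))
    (h N (by omega) L hL)

/-- The inverses of the members of a bounded family of invertible modules form a bounded family. -/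
theorem isBounded_inverse [Infinite k]
    (hi : i ≫ CohB1.ProjSpace.toSpec n k = X ↘ Spec (CommRingCat.of k)) {P : X.Modules → Prop}
    (hP : ∀ L, P L → PicF.IsInvertible L) (hb : Pic13.IsBounded k X P) :
    Pic13.IsBounded k X (fun L' => ∃ L, P L ∧
      Nonempty (CohB1.tensorMod L L' ≅ Coh.structureModule X)) := by
  classical
  haveI := EulerChar.isNoetherian k (X := X)
  haveI := isLocallyNoetherian_projSpace n k
  have hc : ∀ L, P L → Coh.IsCoh L := fun L hL =>
    VBLib.isCoh_of_ofRank (ProjTwist.isFinLocFreeOfRank_one (hP L hL))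
  obtain ⟨m, hm⟩ := BddHilb.exists_regular i hi hc hb
  obtain ⟨s, hs⟩ := BddHilb.finite_euler_twist hb (isInvertible_oX i m)
  let b := s.sup Int.toNat
  have hO := ProperFin.isCoh_structureModule X
  let A : Fin (b + 1) → X.Modules := fun p => (Scheme.Modules.pullback i).obj
    (∐ fun _ : Fin (ProjTwist.Pn.h0Tw (∐ fun _ : Fin (p : ℕ) =>
      Twist.twistProjSpace n k (-m)) (m + 1)) => Twist.twistProjSpace n k (-(m + 1)))
  let B : Fin (b + 1) → X.Modules := fun p => (Scheme.Modules.pullback i).obj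
    (∐ fun _ : Fin (p : ℕ) => Twist.twistProjSpace n k (-m))
  have hA : ∀ p, Coh.IsCoh (HomKernel.ihom (A p) (Coh.structureModule X)) := fun p =>
    HomKernel.isCoh_ihom (ZClosLib.CohDescent.isCoh_pullback i _
      (ProjTwist.Pn.isCoh_sum _ fun _ => ProjTwist.Pn.isCoh_twistProjSpace n k _)) hO
  have hB : ∀ p, Coh.IsCoh (HomKernel.ihom (B p) (Coh.structureModule X)) := fun p =>
    HomKernel.isCoh_ihom (ZClosLib.CohDescent.isCoh_pullback i _
      (ProjTwist.Pn.isCoh_sum _ fun _ => ProjTwist.Pn.isCoh_twistProjSpace n k _)) hO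
  obtain ⟨T, q, hft, hqc, F, hF, h⟩ := Translate.isBounded_finite fun p : Fin (b + 1) =>
    KerFam.isBounded_kernel (Bounded.isBounded_single (k := k) (hB p)) (hA p)
  refine ⟨T, q, hft, hqc, F, hF, fun L' ⟨L, hL, ⟨e⟩⟩ => h L' ?_⟩
  haveI := (hc L hL).1
  have hG : Coh.IsCoh ((Coh.push i).obj L) := ProperFin.isCoh_push_of_isFinite i L (hc L hL)
  have hχ := EulerFam.h0Tw_eq_chi hG (CMReg.isMRegular_push i (hm L hL))
  have hmem : ProjTwist.Pn.chi ((Coh.push i).obj L) m ∈ s := by
    rw [(BddHilb.chi_push_eq i hi L (hc L hL) m).2]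
    exact hs L hL
  have hle : ProjTwist.Pn.h0Tw ((Coh.push i).obj L) m ≤ b := by
    have h1 := Finset.le_sup (f := Int.toNat) hmem
    rw [← hχ, Int.toNat_natCast] at h1
    exact h1
  let p : Fin (b + 1) := ⟨ProjTwist.Pn.h0Tw ((Coh.push i).obj L) m, by omega⟩
  obtain ⟨φ, ⟨eφ⟩⟩ := EulerFam.exists_iso_cokernel i (hc L hL) (hm L hL) (p := (p : ℕ)) hχ
  obtain ⟨eK⟩ := HomKernel.nonempty_tensor_iso_kernel (Coh.structureModule X) (a := φ) (L := L')
    (tensCongr (Iso.refl L') eφ ≪≫ tensComm L' L ≪≫ e)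
  exact ⟨p, _, ⟨Iso.refl _⟩, HomKernel.pre (Coh.structureModule X) φ, ⟨(oneTens L').symm ≪≫ eK⟩⟩

/-- Both translates ample by powers of `H` give both translates ample by `O(N)`. -/
theorem exists_amp {H : X.Modules} {a : ℕ} (hH : CohB1.IsAmple H) (ha : 0 < a)
    (eH : CohB1.tensorPow H a ≅ oX i 1) (N : ℕ) :
    ∃ M : ℕ, ∀ L L' : X.Modules, PicF.IsInvertible L →
      (CohB1.tensorMod L L' ≅ Coh.structureModule X) →
      CohB1.IsAmple (CohB1.tensorMod (CohB1.tensorPow H N) L) →
      CohB1.IsAmple (CohB1.tensorMod (CohB1.tensorPow H N) L') → AmpleBdd.Amp i M L := by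
  haveI := EulerChar.isNoetherian k (X := X)
  have hT := AmpleLib.isInvertible_tensorPow hH.1 N
  obtain ⟨R, hR, ⟨eR⟩⟩ := PicLaw.exists_inverse hT
  have hO1 : CohB1.IsAmple (oX i 1) := Props.AmpleFrames.isAmple_of_iso eH
    ((Props.AmpleFrames.isAmple_tensorPow_iff hH.1 ha).1 hH)
  obtain ⟨M, hM⟩ := AmpleLib.eventually_globallyGenerated hO1
    (ProjTwist.isQCoh_of_isInvertible hR)
    (VBLib.isCoh_of_ofRank (ProjTwist.isFinLocFreeOfRank_one hR)).2
  obtain ⟨eM⟩ := nonempty_oX_pow i M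
  let T := CohB1.tensorPow H N
  have key : ∀ A : X.Modules, PicF.IsInvertible A → CohB1.IsAmple (CohB1.tensorMod T A) →
      CohB1.IsAmple (CohB1.tensorMod (oX i M) A) := fun A hA h => by
    refine Props.AmpleFrames.isAmple_of_iso ?_ (isAmple_tens_gg h
      (AmpleLib.isInvertible_tensorMod hR (isInvertible_oX i M))
      (CMReg.isGloballyGenerated_iso (tensCongr (Iso.refl R) eM) (hM M le_rfl)))
    exact tensCongr (tensComm T A) (Iso.refl _) ≪≫ tensAssoc A T (CohB1.tensorMod R (oX i M)) ≪≫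
      tensCongr (Iso.refl A) ((tensAssoc T R (oX i M)).symm ≪≫
        tensCongr eR (Iso.refl (oX i M)) ≪≫ oneTens (oX i M)) ≪≫ tensComm A _
  exact ⟨M, fun L L' hL e h₁ h₂ => ⟨hL, L', isInvertible_inverse hL e, ⟨e⟩,
    key L hL h₁, key L' (isInvertible_inverse hL e) h₂⟩⟩

end Groth.Agent.NumTriv.AmpleIff
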