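import Groth.Agent.NumTriv.Family
import Groth.Agent.LimLib.FGSub
import Groth.Agent.LimTop.ModModel
import Groth.Agent.AlgSpB.FieldPoints
import Groth.Agent.ConsPairLib.ModLoci

/-!
# Bounded families: functoriality in the parameter scheme and descent to finite type
-/

set_option autoImplicit false

universe u

open CategoryTheory CategoryTheory.Limits AlgebraicGeometry TopologicalSpace

set_option linter.style.haveILetI false

noncomputable section

namespace Groth.Agent.NumTriv.BddModel

variable (k : Type u) [Field k] (X : Scheme.{u}) [X.Over (Spec (CommRingCat.of k))]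

/-- `X ×_k T' ⟶ X ×_k T`. -/
def prodMap {T T' : Scheme.{u}} (q : T ⟶ Spec (CommRingCat.of k)) (q' : T' ⟶ Spec (CommRingCat.of k))
    (θ : T' ⟶ T) (hθ : θ ≫ q = q') : Pic13.prodK k X q' ⟶ Pic13.prodK k X q :=
  pullback.lift (pullback.fst _ _) (pullback.snd _ _ ≫ θ) (by rw [Category.assoc, hθ]; exact pullback.condition)

theorem slice_prodMap {T T' : Scheme.{u}} (q : T ⟶ Spec (CommRingCat.of k)) (q' : T' ⟶ Spec (CommRingCat.of k))
    (θ : T' ⟶ T) (hθ : θ ≫ q = q') (t : Spec (CommRingCat.of k) ⟶ T') (ht : t ≫ q' = 𝟙 _) :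
    Pic13.sliceAt k X q' t ht ≫ prodMap k X q q' θ hθ =
      Pic13.sliceAt k X q (t ≫ θ) (by rw [Category.assoc, hθ, ht]) := by
  refine pullback.hom_ext ?_ ?_
  · simp only [Pic13.sliceAt, prodMap, Category.assoc, pullback.lift_fst]
  · simp only [Pic13.sliceAt, prodMap, Category.assoc, pullback.lift_snd, pullback.lift_snd_assoc]

theorem fibre_prodMap {T T' : Scheme.{u}} (q : T ⟶ Spec (CommRingCat.of k)) (q' : T' ⟶ Spec (CommRingCat.of k))
    (θ : T' ⟶ T) (hθ : θ ≫ q = q') (t : Spec (CommRingCat.of k) ⟶ T') (ht : t ≫ q' = 𝟙 _)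
    (F : (Pic13.prodK k X q).Modules) :
    Nonempty (Pic13.fibreMod k X q' t ht ((Scheme.Modules.pullback (prodMap k X q q' θ hθ)).obj F) ≅
      Pic13.fibreMod k X q (t ≫ θ) (by rw [Category.assoc, hθ, ht]) F) :=
  ⟨(Scheme.Modules.pullbackComp _ _).app F ≪≫
    (Scheme.Modules.pullbackCongr (slice_prodMap k X q q' θ hθ t ht)).app F⟩

variable [IsProper (X ↘ Spec (CommRingCat.of k))]

/-- A finitely presented module on `X ×_k Spec A` comes from a parameter scheme of finite type. -/
theorem exists_ft_model (A : Type u) [CommRing A] [Algebra k A]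
    (M : (Pic13.prodK k X (Spec.map (CommRingCat.ofHom (algebraMap k A)))).Modules) [M.IsQuasicoherent]
    (hM : CohB1.IsFP M) :
    ∃ (T : Scheme.{u}) (q : T ⟶ Spec (CommRingCat.of k)), LocallyOfFiniteType q ∧ QuasiCompact q ∧
      ∃ (θ : Spec (CommRingCat.of A) ⟶ T) (hθ : θ ≫ q = Spec.map (CommRingCat.ofHom (algebraMap k A)))
        (F : (Pic13.prodK k X q).Modules), Coh.IsCoh F ∧
        Nonempty ((Scheme.Modules.pullback (prodMap k X q _ θ hθ)).obj F ≅ M) := by
  classical
  let D := LimLib.fgDiagram k A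
  let c := LimLib.fgCone k A
  let i₀ : (Finset A)ᵒᵖ := Opposite.op ∅
  let s : ∀ i : (Finset A)ᵒᵖ, D.obj i ⟶ Spec (CommRingCat.of k) := fun i =>
    Spec.map (CommRingCat.ofHom (algebraMap k (Algebra.adjoin k ((i.unop : Finset A) : Set A))))
  have hs : ∀ i, c.π.app i ≫ s i = Spec.map (CommRingCat.ofHom (algebraMap k A)) := fun i =>
    (Spec.map_comp _ _).symm.trans rfl
  have hs' : ∀ {i j : (Finset A)ᵒᵖ} (a : i ⟶ j), D.map a ≫ s j = s i := fun a =>
    (Spec.map_comp _ _).symm.trans rfl
  let r := X ↘ Spec (CommRingCat.of k)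
  let qA := Spec.map (CommRingCat.ofHom (algebraMap k A))
  let g₀ : pullback r (s i₀) ⟶ D.obj i₀ := pullback.snd r (s i₀)
  let qY : Pic13.prodK k X qA ⟶ pullback r (s i₀) :=
    pullback.lift (pullback.fst r qA) (pullback.snd r qA ≫ c.π.app i₀) (by
      exact pullback.condition.trans ((congrArg (pullback.snd r qA ≫ ·) (hs i₀).symm).trans (Category.assoc _ _ _).symm))
  have hY : IsPullback qY (pullback.snd r qA) g₀ (c.π.app i₀) := by
    refine IsPullback.of_right (h₁₂ := pullback.fst r (s i₀)) (v₁₃ := r) (h₂₂ := s i₀) ?_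
      (pullback.lift_snd _ _ _) (IsPullback.of_hasPullback _ _)
    have e1 : qY ≫ pullback.fst r (s i₀) = pullback.fst r qA := pullback.lift_fst _ _ _
    convert IsPullback.of_hasPullback r qA using 1
    exact hs i₀
  have hc : IsLimit c := LimLib.isLimitFgCone k A
  haveI : CompactSpace ↥(pullback r (s i₀)) :=
    QuasiCompact.compactSpace_of_compactSpace (pullback.snd r (s i₀))
  haveI : QuasiSeparatedSpace ↥(pullback r (s i₀)) :=
    quasiSeparatedSpace_of_quasiSeparated (pullback.snd r (s i₀))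
  let cm := LimLib.bcCone (D := D) (c := c) hY
  let Fm : cm.pt.Modules := M
  haveI : Fm.IsQuasicoherent := ‹M.IsQuasicoherent›
  obtain ⟨j, -, G, hGq, hG, ⟨e⟩⟩ := LimTop.exists_model (D := LimLib.bcDiag D i₀ g₀) (c := cm)
    (LimLib.isLimitBcCone hc hY) (i₀ := Over.mk (𝟙 i₀)) Fm hM
  let T := D.obj j.left
  let q : T ⟶ Spec (CommRingCat.of k) := s j.left
  haveI : LocallyOfFiniteType q := by
    refine (HasRingHomProperty.Spec_iff (P := @LocallyOfFiniteType)).2 ?_
    haveI : Algebra.FiniteType k (Algebra.adjoin k ((j.left.unop : Finset A) : Set A)) :=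
      (Subalgebra.fg_iff_finiteType _).1 ⟨j.left.unop, rfl⟩
    exact (RingHom.finiteType_algebraMap (A := k) (B := Algebra.adjoin k ((j.left.unop : Finset A) : Set A))).2 inferInstance
  haveI : IsLocallyNoetherian T := LocallyOfFiniteType.isLocallyNoetherian q
  haveI : IsLocallyNoetherian (Pic13.prodK k X q) :=
    LocallyOfFiniteType.isLocallyNoetherian (pullback.snd r q)
  let w : Pic13.prodK k X q ⟶ (LimLib.bcDiag D i₀ g₀).obj j :=
    pullback.lift (pullback.lift (pullback.fst r q) (pullback.snd r q ≫ D.map j.hom) (by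
      rw [Category.assoc, hs' j.hom]; exact pullback.condition)) (pullback.snd r q) (pullback.lift_snd _ _ _)
  have hw : prodMap k X q qA (c.π.app j.left) (hs _) ≫ w = cm.π.app j := by
    let m := prodMap k X q qA (c.π.app j.left) (hs _)
    have e1 : m ≫ pullback.fst r q = pullback.fst r qA := pullback.lift_fst _ _ _
    have e2 : m ≫ pullback.snd r q = pullback.snd r qA ≫ c.π.app j.left := pullback.lift_snd _ _ _
    have e3 : w ≫ pullback.fst g₀ (D.map j.hom) = pullback.lift (pullback.fst r q) (pullback.snd r q ≫ D.map j.hom) (by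
        rw [Category.assoc, hs' j.hom]; exact pullback.condition) := pullback.lift_fst _ _ _
    have e4 : w ≫ pullback.snd g₀ (D.map j.hom) = pullback.snd r q := pullback.lift_snd _ _ _
    have e5 : cm.π.app j ≫ pullback.fst g₀ (D.map j.hom) = qY := pullback.lift_fst _ _ _
    have e6 : cm.π.app j ≫ pullback.snd g₀ (D.map j.hom) = pullback.snd r qA ≫ c.π.app j.left :=
      pullback.lift_snd _ _ _
    refine pullback.hom_ext (pullback.hom_ext ?_ ?_) ?_
    · refine (congrArg (· ≫ pullback.fst r (s i₀)) ((Category.assoc _ _ _).trans (congrArg (m ≫ ·) e3))).trans ?_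
      refine ((Category.assoc _ _ _).trans (congrArg (m ≫ ·) (pullback.lift_fst _ _ _))).trans ?_
      exact e1.trans ((congrArg (· ≫ pullback.fst r (s i₀)) e5).trans (pullback.lift_fst _ _ _)).symm
    · refine (congrArg (· ≫ pullback.snd r (s i₀)) ((Category.assoc _ _ _).trans (congrArg (m ≫ ·) e3))).trans ?_
      refine ((Category.assoc _ _ _).trans (congrArg (m ≫ ·) (pullback.lift_snd _ _ _))).trans ?_
      refine ((Category.assoc _ _ _).symm.trans (congrArg (· ≫ D.map j.hom) e2)).trans ?_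
      refine Eq.trans ?_ ((congrArg (· ≫ pullback.snd r (s i₀)) e5).trans (pullback.lift_snd _ _ _)).symm
      exact (Category.assoc _ _ _).trans (congrArg (pullback.snd r qA ≫ ·) (c.w j.hom))
    · exact ((Category.assoc _ _ _).trans (congrArg (m ≫ ·) e4)).trans (e2.trans e6.symm)
  haveI := hGq
  obtain ⟨hq', hfp'⟩ := ConsPairLib.isFP_pullback w G hG
  haveI : Coh.IsQCoh ((Scheme.Modules.pullback w).obj G) := hq'
  refine ⟨T, q, inferInstance, ?_, c.π.app j.left, hs _, (Scheme.Modules.pullback w).obj G,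
    ConsPairLib.isCoh_of_isFP _ hfp', ⟨(Scheme.Modules.pullbackComp _ w).app G ≪≫
      (Scheme.Modules.pullbackCongr hw).app G ≪≫ e⟩⟩
  haveI : IsAffine T := LimLib.isAffine_fgDiagram k A j.left
  exact (HasAffineProperty.iff_of_isAffine (P := @QuasiCompact)).2 inferInstance

end Groth.Agent.NumTriv.BddModel
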