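import Groth.Agent.NumTriv.Bounded
import Groth.Agent.NumTriv.AmpleDeg

/-!
# Translates of numerically trivial modules
-/

universe u

open CategoryTheory CategoryTheory.Limits AlgebraicGeometry

set_option linter.style.haveILetI false

noncomputable section

namespace Groth.Agent.NumTriv.Translate

open ProjTwist

variable {k : Type u} [Field k] {X : Scheme.{u}} [X.Over (Spec (CommRingCat.of k))]
  [IsProper (X ↘ Spec (CommRingCat.of k))]

/-- The translates of `Num1` modules by a fixed invertible module form a bounded family. -/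
theorem isBounded_translate [Infinite k] {M₀ : X.Modules} (hM₀ : PicF.IsInvertible M₀) :
    Pic13.IsBounded k X
      (fun M => ∃ N : X.Modules, Num1 k N ∧ Nonempty (M ≅ CohB1.tensorMod M₀ N)) := by
  haveI := EulerChar.isNoetherian k (X := X)
  obtain ⟨T, q, hft, hqc, G, hG, h⟩ := Bounded.isBounded_num1_proper (k := k) (X := X)
  haveI := hft
  haveI := hqc
  haveI : IsLocallyNoetherian T := LocallyOfFiniteType.isLocallyNoetherian q
  haveI : IsLocallyNoetherian (Pic13.prodK k X q) :=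
    LocallyOfFiniteType.isLocallyNoetherian (pullback.snd (X ↘ Spec (CommRingCat.of k)) q)
  haveI : CompactSpace T := QuasiCompact.compactSpace_of_compactSpace q
  haveI : IsProper (pullback.snd (X ↘ Spec (CommRingCat.of k)) q) := inferInstance
  haveI : CompactSpace (Pic13.prodK k X q) :=
    QuasiCompact.compactSpace_of_compactSpace (pullback.snd (X ↘ Spec (CommRingCat.of k)) q)
  haveI : IsNoetherian (Pic13.prodK k X q) := ⟨⟩
  let p : Pic13.prodK k X q ⟶ X := pullback.fst (X ↘ Spec (CommRingCat.of k)) q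
  have hp := PicCl.isInvertible_pullback p hM₀
  refine ⟨T, q, hft, hqc, CohB1.tensorMod ((Scheme.Modules.pullback p).obj M₀) G,
    CohDev.isCoh_of_iso (tensComm _ _) (ProjTwist.isCoh_tensor hp hG), fun M ⟨N, hN, ⟨e⟩⟩ => ?_⟩
  obtain ⟨t, ht, ⟨eN⟩⟩ := h N hN
  obtain ⟨f⟩ := EulerFam.nonempty_slice_iso q t ht M₀ G
  exact ⟨t, ht, ⟨f ≪≫ tensCongr (Iso.refl M₀) eN ≪≫ e.symm⟩⟩

/-- A finite union of bounded families is bounded. -/
theorem isBounded_finite {ι : Type*} [Finite ι] {P : ι → X.Modules → Prop}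
    (h : ∀ a, Pic13.IsBounded k X (P a)) : Pic13.IsBounded k X (fun M => ∃ a, P a M) := by
  obtain ⟨n, ⟨φ⟩⟩ := Finite.exists_equiv_fin ι
  obtain ⟨T, q, hft, hqc, F, hF, hfib⟩ := Union.isBounded_iUnion (fun i => h (φ.symm i))
  exact ⟨T, q, hft, hqc, F, hF, fun M ⟨a, ha⟩ => hfib M ⟨φ a, by rwa [Equiv.symm_apply_apply]⟩⟩

/-- Invertible modules covered by finitely many classes modulo `Num1` form a bounded family. -/
theorem isBounded_of_classes [Infinite k] {ι : Type*} [Finite ι] (Cl : ι → X.Modules → Prop)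
    {P : X.Modules → Prop} (hP : ∀ M, P M → PicF.IsInvertible M) (hcov : ∀ M, P M → ∃ a, Cl a M)
    (hpair : ∀ a M M', P M → P M' → Cl a M → Cl a M' → ∀ F : X.Modules, Coh.IsCoh F →
      topologicalKrullDim ↥(CohB1.support F) ≤ ((1 : ℕ) : WithBot ℕ∞) →
        deg1 k F M = deg1 k F M') :
    Pic13.IsBounded k X P := by
  classical
  have hb : ∀ a, Pic13.IsBounded k X (fun M => P M ∧ Cl a M) := fun a => by
    by_cases h : ∃ M, P M ∧ Cl a M
    · obtain ⟨M₀, hM₀, hc₀⟩ := h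
      obtain ⟨T, q, hft, hqc, F, hF, hfib⟩ := isBounded_translate (k := k) (hP M₀ hM₀)
      refine ⟨T, q, hft, hqc, F, hF, fun M ⟨hM, hc⟩ => hfib M ?_⟩
      obtain ⟨M₀', hM₀', ⟨e⟩⟩ := PicLaw.exists_inverse (hP M₀ hM₀)
      refine ⟨CohB1.tensorMod M₀' M,
        ⟨AmpleLib.isInvertible_tensorMod hM₀' (hP M hM), fun G hG hd => sub_eq_zero.1 ?_⟩, ⟨?_⟩⟩
      · change deg1 k G _ = 0
        have h0 : deg1 k G M₀ + deg1 k G M₀' = 0 := by
          rw [← deg1_tens k hG hd (hP M₀ hM₀) hM₀', deg1_iso k G e, deg1_one]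
        rw [deg1_tens k hG hd hM₀' (hP M hM), hpair a M M₀ hM hM₀ hc hc₀ G hG hd]
        omega
      · exact (oneTens M).symm ≪≫ tensCongr e.symm (Iso.refl M) ≪≫ tensAssoc M₀ M₀' M
    · obtain ⟨T, q, hft, hqc, F, hF, hfib⟩ := isBounded_translate (k := k) (X := X)
        (LFFrame.isInvertible_structureModule X)
      exact ⟨T, q, hft, hqc, F, hF, fun M hM => absurd ⟨M, hM⟩ h⟩
  obtain ⟨T, q, hft, hqc, F, hF, hfib⟩ := isBounded_finite hb
  exact ⟨T, q, hft, hqc, F, hF, fun M hM => hfib M ((hcov M hM).imp fun a ha => ⟨hM, ha⟩)⟩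

/-- Invertible modules whose `n`-th powers lie in a bounded family form a bounded family. -/
theorem isBounded_roots [Infinite k] {n : ℕ} (hn : 0 < n) {P : X.Modules → Prop}
    (hP : Pic13.IsBounded k X P) :
    Pic13.IsBounded k X (fun M : X.Modules => PicF.IsInvertible M ∧
      ∃ L : X.Modules, P L ∧ Nonempty (CohB1.tensorPow M n ≅ L)) := by
  haveI := EulerChar.isNoetherian k (X := X)
  let P' : X.Modules → Prop := fun L => P L ∧ PicF.IsInvertible L
  have hP' : Pic13.IsBounded k X P' := by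
    obtain ⟨T, q, hft, hqc, F, hF, h⟩ := hP
    exact ⟨T, q, hft, hqc, F, hF, fun L hL => h L hL.1⟩
  obtain ⟨ι, _, Cl, hcov, hpair⟩ := exists_algClasses_of_isBounded hP' fun L hL => hL.2
  refine isBounded_of_classes (fun a M => ∃ L, Nonempty (CohB1.tensorPow M n ≅ L) ∧ Cl a L)
    (fun M hM => hM.1) (fun M hM => ?_) fun a M M' hM hM' => ?_
  · obtain ⟨hi, L, hL, ⟨e⟩⟩ := hM
    obtain ⟨a, ha⟩ := hcov L ⟨hL, PicCl.isInvertible_of_iso e (AmpleLib.isInvertible_tensorPow hi n)⟩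
    exact ⟨a, L, ⟨e⟩, ha⟩
  · rintro ⟨L, ⟨e⟩, hc⟩ ⟨L', ⟨e'⟩, hc'⟩ F hF hd
    obtain ⟨hL', N, hN, hNalg, ⟨f⟩⟩ := hpair a L L' hc hc'
    have hN0 : deg1 k F N = 0 := by
      have hτ : Pic13.IsTauEquivZero k X N :=
        ⟨1, one_pos, EulerFam.isAlgEquivZero_of_iso (oneTens N).symm hNalg⟩
      exact sub_eq_zero.2 ((num1_of_isTauEquivZero k hN hτ).2 F hF hd)
    have h1 := deg1_pow k hF hd hM.1 n
    have h2 := deg1_pow k hF hd hM'.1 n
    rw [deg1_iso k F e, deg1_iso k F f, deg1_tens k hF hd hL' hN, hN0] at h1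
    rw [deg1_iso k F e'] at h2
    have h3 : (n : ℤ) * deg1 k F M = n * deg1 k F M' := by omega
    exact mul_left_cancel₀ (by exact_mod_cast hn.ne') h3

end Groth.Agent.NumTriv.Translate
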