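import Groth.Agent.NumTriv.BddModel
import Groth.Agent.NumTriv.Translate
import Groth.Agent.PicCl.Basic
import Groth.Agent.AlgSp.FTPoints
import Groth.Agent.S2115
import Groth.Agent.IntProd70.Family
import Groth.Prelude.Def_PicRel2

/-!
# Bounded families and quasi-compact opens of the Picard scheme
-/

set_option autoImplicit false

universe u

open CategoryTheory CategoryTheory.Limits AlgebraicGeometry TopologicalSpace

set_option linter.style.haveILetI false

noncomputable section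

namespace Groth.Agent.NumTriv.BddPic

variable {k : Type u} [Field k] [IsAlgClosed k] {X : Scheme.{u}} [X.Over (Spec (CommRingCat.of k))]
  [IsProper (X ↘ Spec (CommRingCat.of k))] {P : Over (Spec (CommRingCat.of k))}
  (φ : ∀ T : Over (Spec (CommRingCat.of k)), PicF.Cl (PicF.XT (X ↘ Spec (CommRingCat.of k)) T) → (T ⟶ P))

/-- The trivial parameter scheme. -/
abbrev pt (k : Type u) [Field k] : Over (Spec (CommRingCat.of k)) := Over.mk (𝟙 (Spec (CommRingCat.of k)))

/-- The `k`-point of `P` attached to a module. -/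
def pcls (L : X.Modules) : pt k ⟶ P :=
  φ (pt k) (PicF.pullCl (pullback.fst (X ↘ Spec (CommRingCat.of k)) (𝟙 (Spec (CommRingCat.of k)))) (PicF.cl L))

variable {φ} (hP : PicRel.IsRelPic (X ↘ Spec (CommRingCat.of k)) P φ)

include hP in
/-- The point of a fibre of an invertible family. -/
theorem pcls_fibre {T : Scheme.{u}} (q : T ⟶ Spec (CommRingCat.of k)) {M : (Pic13.prodK k X q).Modules}
    (hM : PicF.IsInvertible M) (s : Spec (CommRingCat.of k) ⟶ T) (hs : s ≫ q = 𝟙 _) (L : X.Modules)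
    (i : Pic13.fibreMod k X q s hs M ≅ L) :
    pcls φ L = (Over.homMk s hs : pt k ⟶ Over.mk q) ≫ φ (Over.mk q) (PicF.cl M) := by
  rw [pcls, ← hP.natural _ _ (Over.homMk s hs : pt k ⟶ Over.mk q) (PicF.cl M) ⟨M, rfl, hM⟩]
  congr 1
  rw [← Groth.Agent.PicCl.cl_eq_of_iso i]
  rw [Pic13.fibreMod, ← Groth.Agent.PicCl.pullCl_cl, ← Groth.Agent.PicCl.pullCl_comp]
  congr 1
  apply pullback.hom_ext
  · rw [Category.assoc]
    erw [pullback.lift_fst, pullback.lift_fst]
    rfl
  · rw [Category.assoc]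
    erw [pullback.lift_snd, pullback.lift_snd]
    erw [pullback.condition_assoc, Category.id_comp]
    rfl

include hP in
/-- Points determine the invertible module. -/
theorem pcls_injective {L L' : X.Modules} (hL : PicF.IsInvertible L) (hL' : PicF.IsInvertible L')
    (h : pcls φ L = pcls φ L') : Nonempty (L ≅ L') := by
  let r := X ↘ Spec (CommRingCat.of k)
  let p₁ := pullback.fst r (𝟙 (Spec (CommRingCat.of k)))
  obtain ⟨ι, U, hU, hc⟩ := hP.locallyInjective (pt k)
    (PicF.pullCl p₁ (PicF.cl L)) (PicF.pullCl p₁ (PicF.cl L'))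
    ⟨_, rfl, PicCl.isInvertible_pullback p₁ hL⟩ ⟨_, rfl, PicCl.isInvertible_pullback p₁ hL'⟩ h
  obtain ⟨j, w, -⟩ := hU (IsLocalRing.closedPoint k)
  haveI : Etale (U j).hom := (U j).prop
  obtain ⟨σ, hσ, -⟩ := AlgSpB.exists_section_of_etale (K := k) (U j).hom w
  let e : X ⟶ PicF.XT r (PicRel.ovr (pt k) (U j)) :=
    pullback.lift (𝟙 X) (r ≫ σ) (by
      show 𝟙 X ≫ r = (r ≫ σ) ≫ (U j).hom ≫ 𝟙 _
      rw [Category.comp_id, Category.assoc, hσ, Category.comp_id, Category.id_comp])
  have he : (e ≫ PicF.XTmap r (PicRel.ovrHom (pt k) (U j))) ≫ p₁ = 𝟙 X := by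
    rw [Category.assoc]
    erw [pullback.lift_fst]
    rw [← Category.assoc]
    erw [pullback.lift_fst]
    exact Category.comp_id _
  have h1 := congrArg (PicF.pullCl e) (hc j)
  have h2 : ∀ M : X.Modules, PicF.pullCl e (PicF.pullCl (PicF.XTmap r (PicRel.ovrHom (pt k) (U j)))
      (PicF.pullCl p₁ (PicF.cl M))) = PicF.cl M := fun M => by
    refine ((Groth.Agent.PicCl.pullCl_comp _ _ _).symm.trans (Groth.Agent.PicCl.pullCl_comp _ _ _).symm).trans ?_
    rw [he, Groth.Agent.PicCl.pullCl_id]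
  exact Groth.Agent.PicCl.nonempty_iso_of_cl_eq ((h2 L).symm.trans (h1.trans (h2 L')))

include hP in
/-- A bounded family has all its points in a compact set. -/
theorem exists_compact_of_isBounded {Q : X.Modules → Prop} (hQ : ∀ L, Q L → PicF.IsInvertible L)
    (hb : Pic13.IsBounded k X Q) :
    ∃ C : Set ↥P.left, IsCompact C ∧ ∀ L, Q L → Set.range (pcls φ L).left.base ⊆ C := by
  classical
  obtain ⟨T, q, hft, hqc, G, hG, hfib⟩ := hb
  haveI := hft
  haveI := hqc
  let f := pullback.snd (X ↘ Spec (CommRingCat.of k)) q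
  haveI : IsProper f := inferInstanceAs (IsProper (pullback.snd _ _))
  haveI : IsLocallyNoetherian T := LocallyOfFiniteType.isLocallyNoetherian q
  haveI : IsLocallyNoetherian (Pic13.prodK k X q) := LocallyOfFiniteType.isLocallyNoetherian f
  haveI : CompactSpace T := QuasiCompact.compactSpace_of_compactSpace q
  haveI : IsNoetherian T := ⟨⟩
  haveI : LocallyOfFinitePresentation f := MonoVal.locallyOfFinitePresentation_of_lft f
  obtain ⟨n, I, hmono, htop, h0, -, hflat⟩ := S1455.result f G hG.1 (HomShQC.isFP_of_isCoh G hG)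
  let Z : ∀ i : Fin n, Scheme.{u} := fun i =>
    (((I i.castSucc).subschemeι ⁻¹ᵁ (I i.succ).support.compl : (I i.castSucc).subscheme.Opens))
  let j : ∀ i : Fin n, Z i ⟶ T := fun i =>
    ((I i.castSucc).subschemeι ⁻¹ᵁ (I i.succ).support.compl).ι ≫ (I i.castSucc).subschemeι
  haveI : ∀ i, IsImmersion (j i) := fun i => by
    dsimp only [j]; infer_instance
  haveI : ∀ i, IsLocallyNoetherian (Z i) := fun i =>
    LocallyOfFiniteType.isLocallyNoetherian (j i)
  haveI : ∀ i, NoetherianSpace (Z i) := fun i => (j i).isEmbedding.isInducing.noetherianSpace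
  let f' : ∀ i : Fin n, pullback f (j i) ⟶ Z i := fun i => pullback.snd f (j i)
  haveI : ∀ i, IsProper (f' i) := fun i => inferInstanceAs (IsProper (pullback.snd f (j i)))
  haveI : ∀ i, IsLocallyNoetherian (pullback f (j i)) := fun i =>
    LocallyOfFiniteType.isLocallyNoetherian (f' i)
  let G' : ∀ i : Fin n, (pullback f (j i)).Modules := fun i =>
    (Scheme.Modules.pullback (pullback.fst f (j i))).obj G
  have hG' : ∀ i, Coh.IsCoh (G' i) := fun i => ZClosLib.CohDescent.isCoh_pullback _ G hG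
  let U : ∀ i, (Z i).Opens := fun i =>
    ⟨((f' i) '' ((invLocus (G' i) : Set (pullback f (j i) : Scheme.{u})))ᶜ)ᶜ,
      ((f' i).isClosedMap _ (invLocus (G' i)).2.isClosed_compl).isOpen_compl⟩
  let qU : ∀ i, (U i : Scheme.{u}) ⟶ Spec (CommRingCat.of k) := fun i => ((U i).ι ≫ j i) ≫ q
  let Θ : ∀ i, Pic13.prodK k X (qU i) ⟶ Pic13.prodK k X q := fun i =>
    BddModel.prodMap k X q (qU i) ((U i).ι ≫ j i) rfl
  let P' : ∀ i, Pic13.prodK k X (qU i) ⟶ pullback f (j i) := fun i =>
    pullback.lift (Θ i) (pullback.snd _ (qU i) ≫ (U i).ι)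
      ((pullback.lift_snd _ _ _).trans (Category.assoc _ _ _).symm)
  have hinv : ∀ i, PicF.IsInvertible ((Scheme.Modules.pullback (Θ i)).obj G) := by
    intro i
    let V : (pullback f (j i) : Scheme.{u}).Opens := (f' i) ⁻¹ᵁ (U i)
    have hV : V ≤ invLocus (G' i) := fun w hw => by_contra fun h => hw ⟨w, h, rfl⟩
    have hr : Set.range (P' i) ⊆ Set.range V.ι := by
      rintro _ ⟨w, rfl⟩
      rw [Scheme.Opens.range_ι]
      show f' i (P' i w) ∈ U i
      rw [← Scheme.Hom.comp_apply, show P' i ≫ f' i = pullback.snd _ (qU i) ≫ (U i).ι from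
        pullback.lift_snd _ _ _]
      exact (pullback.snd _ (qU i) w).2
    exact PicCl.isInvertible_of_iso
      (((Scheme.Modules.pullbackComp _ V.ι).app (G' i)) ≪≫
        (Scheme.Modules.pullbackCongr (IsOpenImmersion.lift_fac V.ι (P' i) hr)).app (G' i) ≪≫
        (Scheme.Modules.pullbackComp (P' i) (pullback.fst f (j i))).app G ≪≫
        (Scheme.Modules.pullbackCongr (pullback.lift_fst _ _ _)).app G)
      (PicCl.isInvertible_pullback (IsOpenImmersion.lift V.ι (P' i) hr)
        (isInvertible_restrict_le (G' i) hV))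
  let ψ : ∀ i, Over.mk (qU i) ⟶ P := fun i => φ _ (PicF.cl ((Scheme.Modules.pullback (Θ i)).obj G))
  refine ⟨⋃ i, Set.range (ψ i).left.base, isCompact_iUnion fun i => ?_, fun L hL => ?_⟩
  · haveI : NoetherianSpace (U i : Scheme.{u}) := (U i).ι.isOpenEmbedding.isInducing.noetherianSpace
    haveI : CompactSpace ↥(Over.mk (qU i)).left := inferInstanceAs (CompactSpace (U i : Scheme.{u}))
    exact isCompact_range (ψ i).left.continuous
  obtain ⟨t, ht, ⟨e⟩⟩ := hfib L hL
  let z : Spec (CommRingCat.of k) := IsLocalRing.closedPoint k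
  obtain ⟨i, hi1, hi2⟩ : ∃ i : Fin n, t.base z ∈ (I i.castSucc).support ∧
      t.base z ∉ (I i.succ).support := by
    by_contra hno
    push Not at hno
    have : ∀ a : Fin (n + 1), t.base z ∈ (I a).support := fun a => by
      induction a using Fin.induction with
      | zero => rw [← SetLike.mem_coe, h0]; trivial
      | succ a ih => exact hno a ih
    have h1 := this (Fin.last n)
    rw [htop, Scheme.IdealSheafData.support_top] at h1
    exact h1.elim
  have hr : Set.range t ⊆ Set.range (j i) := by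
    rintro _ ⟨w, rfl⟩
    rw [Subsingleton.elim w z]
    have hs : t.base z ∈ Set.range (I i.castSucc).subschemeι := by
      rw [Scheme.IdealSheafData.range_subschemeι]
      exact hi1
    obtain ⟨y, hy⟩ := hs
    refine ⟨⟨y, ?_⟩, hy⟩
    change (I i.castSucc).subschemeι y ∈ ((I i.succ).support.compl : T.Opens)
    rw [hy]
    exact hi2
  obtain ⟨g₁, hg₁⟩ := RedSub.exists_lift (j i) t hr
  let σ : X ⟶ pullback f (j i) := pullback.lift (Pic13.sliceAt k X q t ht)
    ((X ↘ Spec (CommRingCat.of k)) ≫ g₁) (by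
      rw [Category.assoc, hg₁]; exact pullback.lift_snd _ _ _)
  have sq : IsPullback σ (X ↘ Spec (CommRingCat.of k)) (f' i) g₁ := by
    refine IsPullback.of_right ?_ (pullback.lift_snd _ _ _) (IsPullback.of_hasPullback f (j i))
    rw [show σ ≫ pullback.fst f (j i) = Pic13.sliceAt k X q t ht from pullback.lift_fst _ _ _, hg₁]
    exact EulerFam.isPullback_slice q t ht
  have eσ : (Scheme.Modules.pullback σ).obj (G' i) ≅ Pic13.fibreMod k X q t ht G :=
    (Scheme.Modules.pullbackComp _ _).app G ≪≫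
      (Scheme.Modules.pullbackCongr (pullback.lift_fst _ _ _)).app G
  have hzU : g₁ z ∈ U i := by
    rintro ⟨w, hw, hwt⟩
    refine hw ?_
    obtain ⟨v, hv, -⟩ := Scheme.Pullback.exists_preimage_pullback (f := f' i) (g := g₁) w z hwt
    have hr : w ∈ Set.range σ := ⟨sq.isoPullback.inv v, by
      rw [← Scheme.Hom.comp_apply, sq.isoPullback_inv_fst]
      exact hv⟩
    obtain ⟨x', rfl⟩ := hr
    exact mem_invLocus_of_fibre (G' i) sq (hG' i) (hflat i)
      (PicCl.isInvertible_of_iso (eσ ≪≫ e).symm (hQ L hL)) x'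
  have hrU : Set.range g₁ ⊆ Set.range (U i).ι := by
    rintro _ ⟨w, rfl⟩
    rw [Subsingleton.elim w z, Scheme.Opens.range_ι]
    exact hzU
  let g := IsOpenImmersion.lift (U i).ι g₁ hrU
  have hgt : g ≫ (U i).ι ≫ j i = t := by rw [IsOpenImmersion.lift_fac_assoc, hg₁]
  have hgq : g ≫ qU i = 𝟙 _ := by
    show g ≫ ((U i).ι ≫ j i) ≫ q = _
    rw [← Category.assoc, hgt, ht]
  obtain ⟨a⟩ := BddModel.fibre_prodMap k X q (qU i) ((U i).ι ≫ j i) rfl g hgq G
  have hkey := pcls_fibre hP (qU i) (hinv i) g hgq L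
    (a ≪≫ (Scheme.Modules.pullbackCongr (show Pic13.sliceAt k X q (g ≫ (U i).ι ≫ j i) _ =
      Pic13.sliceAt k X q t ht from by congr 1)).app G ≪≫ e)
  rintro _ ⟨w, rfl⟩
  rw [hkey]
  exact Set.mem_iUnion.2 ⟨i, ⟨g w, rfl⟩⟩

include hP in
/-- Modules with points in a quasi-compact open form a bounded family. -/
theorem isBounded_of_subset {Q : X.Modules → Prop} (hQ : ∀ L, Q L → PicF.IsInvertible L)
    (U : P.left.Opens) (hU : IsCompact (U : Set ↥P.left))
    (h : ∀ L, Q L → Set.range (pcls φ L).left.base ⊆ (U : Set ↥P.left)) : Pic13.IsBounded k X Q := by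
  classical
  let TU : Over (Spec (CommRingCat.of k)) := Over.mk (U.ι ≫ P.hom)
  obtain ⟨ι, W, hW, hc⟩ := hP.locallySurjective TU (Over.homMk U.ι rfl : TU ⟶ P)
  haveI : CompactSpace (U : Scheme.{u}) := isCompact_iff_compactSpace.1 hU
  -- affine pieces
  have hpiece : ∀ x : (U : Scheme.{u}), ∃ (i : ι) (V : ((W i).left : Scheme.{u}).Opens),
      IsAffineOpen V ∧ x ∈ (W i).hom.base '' (V : Set ↥((W i).left : Scheme.{u})) := fun x => by
    obtain ⟨i, y, hy⟩ := hW x
    obtain ⟨V, hV, hyV, -⟩ := exists_isAffineOpen_mem_and_subset (x := y) (U := ⊤) trivial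
    exact ⟨i, V, hV, y, hyV, hy⟩
  choose idx V hV hxV using hpiece
  have hopen : ∀ x, IsOpen ((W (idx x)).hom.base '' (V x : Set ↥((W (idx x)).left : Scheme.{u}))) := fun x => by
    haveI : Etale (W (idx x)).hom := (W (idx x)).prop
    exact (W (idx x)).hom.isOpenMap _ (V x).2
  obtain ⟨F, hF⟩ := (isCompact_univ (X := ↥(U : Scheme.{u}))).elim_finite_subcover _ hopen fun x _ => Set.mem_iUnion.2 ⟨x, hxV x⟩
  let R : {x // x ∈ F} → X.Modules → Prop := fun x L =>
    PicF.IsInvertible L ∧ ∃ (s : Spec (CommRingCat.of k) ⟶ (V x.1 : Scheme.{u}))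
      (hs : s ≫ (V x.1).ι ≫ (W (idx x.1)).hom ≫ TU.hom = 𝟙 _),
      pcls φ L = (Over.homMk s hs : pt k ⟶ Over.mk ((V x.1).ι ≫ (W (idx x.1)).hom ≫ TU.hom)) ≫
        Over.homMk ((V x.1).ι ≫ (W (idx x.1)).hom ≫ U.ι) (by simp [TU])
  have hR : ∀ x, Pic13.IsBounded k X (R x) := by
    rintro ⟨x, hx⟩
    let qW : (W (idx x)).left ⟶ Spec (CommRingCat.of k) := (W (idx x)).hom ≫ TU.hom
    let qV : (V x : Scheme.{u}) ⟶ Spec (CommRingCat.of k) := (V x).ι ≫ qW
    obtain ⟨c, ⟨M, rfl, hM⟩, hcφ⟩ := hc (idx x)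
    let Θ := BddModel.prodMap k X qW qV (V x).ι rfl
    let M' := (Scheme.Modules.pullback Θ).obj M
    have hM' : PicF.IsInvertible M' := PicCl.isInvertible_pullback Θ hM
    have hφ' : φ (Over.mk qV) (PicF.cl M') =
        Over.homMk ((V x).ι ≫ (W (idx x)).hom ≫ U.ι) (by simp [qV, qW, TU]) := by
      have h1 := hP.natural (PicRel.ovr TU (W (idx x))) (Over.mk qV) (Over.homMk (V x).ι rfl)
        (PicF.cl M) ⟨M, rfl, hM⟩
      rw [hcφ] at h1
      refine Eq.trans ?_ (h1.trans ?_)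
      · congr 1
      · ext1
        simp
    haveI : IsAffine (V x : Scheme.{u}) := hV x
    let A := Γ((V x : Scheme.{u}), ⊤)
    let e := (V x : Scheme.{u}).isoSpec
    obtain ⟨a, ha⟩ := Spec.map_surjective (e.inv ≫ qV)
    letI : Algebra k A := a.hom.toAlgebra
    let qA := Spec.map (CommRingCat.ofHom (algebraMap k A))
    have heq : e.inv ≫ qV = qA := ha.symm
    let M'' := (Scheme.Modules.pullback (BddModel.prodMap k X qV qA e.inv heq)).obj M'
    have hM'' : PicF.IsInvertible M'' := PicCl.isInvertible_pullback _ hM'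
    haveI hq'' : M''.IsQuasicoherent := ProjTwist.isQCoh_of_isInvertible hM''
    have hfp : CohB1.IsFP M'' := by
      haveI := ProjTwist.isQuasicoherent_structureModule (Pic13.prodK k X qA)
      haveI := (IntProd70.isFP_tensor (IntProd70.isFP_unit (Pic13.prodK k X qA)) hM'').1
      exact S2115.isFP_of_iso (ProjTwist.oneTens M'')
        (IntProd70.isFP_tensor (IntProd70.isFP_unit _) hM'').2
    obtain ⟨T, q, hft, hqc, θ, hθ, G, hG, ⟨eG⟩⟩ := BddModel.exists_ft_model k X A M'' hfp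
    refine ⟨T, q, hft, hqc, G, hG, fun L hL => ?_⟩
    obtain ⟨hLi, s, hs, hsL⟩ := hL
    let t := s ≫ e.hom
    have htA : t ≫ qA = 𝟙 _ := by
      rw [← heq, Category.assoc, Iso.hom_inv_id_assoc]
      exact hs
    have htq : (t ≫ θ) ≫ q = 𝟙 _ := by rw [Category.assoc, hθ, htA]
    refine ⟨t ≫ θ, htq, ?_⟩
    obtain ⟨a₁⟩ := BddModel.fibre_prodMap k X q qA θ hθ t htA G
    obtain ⟨a₂⟩ := BddModel.fibre_prodMap k X qV qA e.inv heq t htA M'
    have hts : t ≫ e.inv = s := by simp [t]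
    let L' := Pic13.fibreMod k X qV s hs M'
    have hL' : PicF.IsInvertible L' := PicCl.isInvertible_pullback _ hM'
    have hp' : pcls φ L' = pcls φ L := by
      rw [hsL, pcls_fibre hP qV hM' s hs L' (Iso.refl _), hφ']
    obtain ⟨b⟩ := pcls_injective hP hL' hLi hp'
    exact ⟨a₁.symm ≪≫ (Scheme.Modules.pullback (Pic13.sliceAt k X qA t htA)).mapIso eG ≪≫ a₂ ≪≫
      (Scheme.Modules.pullbackCongr (show Pic13.sliceAt k X qV (t ≫ e.inv) _ =
        Pic13.sliceAt k X qV s hs from by congr 1)).app M' ≪≫ b⟩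
  obtain ⟨T, q, hft, hqc, G, hG, hfib⟩ := Translate.isBounded_finite hR
  refine ⟨T, q, hft, hqc, G, hG, fun L hL => hfib L ?_⟩
  -- locate the point
  let p := pcls φ L
  have hpr : Set.range p.left ⊆ Set.range U.ι := by rw [Scheme.Opens.range_ι]; exact h L hL
  let s₀ : Spec (CommRingCat.of k) ⟶ (U : Scheme.{u}) := IsOpenImmersion.lift U.ι p.left hpr
  obtain ⟨x, hxF, y, hyV, hy⟩ := Set.mem_iUnion₂.1 (hF (Set.mem_univ (s₀ (IsLocalRing.closedPoint k))))
  let w : (V x : Scheme.{u}) ⟶ (U : Scheme.{u}) := (V x).ι ≫ (W (idx x)).hom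
  haveI : Etale (W (idx x)).hom := (W (idx x)).prop
  haveI : Etale w := inferInstanceAs (Etale ((V x).ι ≫ (W (idx x)).hom))
  obtain ⟨v, hv, -⟩ := Scheme.Pullback.exists_preimage_pullback (f := w) (g := s₀)
    ⟨y, hyV⟩ (IsLocalRing.closedPoint k) hy
  obtain ⟨σ, hσ, -⟩ := AlgSpB.exists_section_of_etale (K := k) (pullback.snd w s₀) v
  let s := σ ≫ pullback.fst w s₀
  have hsw : s ≫ w = s₀ := by
    rw [Category.assoc, pullback.condition, ← Category.assoc, hσ, Category.id_comp]
  have hsp : s ≫ (V x).ι ≫ (W (idx x)).hom ≫ U.ι = p.left := by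
    rw [← Category.assoc (V x).ι, ← Category.assoc, hsw]
    exact IsOpenImmersion.lift_fac _ _ _
  have hs : s ≫ (V x).ι ≫ (W (idx x)).hom ≫ TU.hom = 𝟙 _ := by
    have hp := Over.w p
    rw [← hsp] at hp
    simpa [TU, Category.assoc] using hp
  refine ⟨⟨x, hxF⟩, hQ L hL, s, hs, ?_⟩
  ext1
  exact hsp.symm

end Groth.Agent.NumTriv.BddPic
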