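import Groth.Agent.NumTriv.LowBound
import Groth.Agent.Props.AmpleGG
import Groth.Agent.Props.AmpleTwist

/-!
# Families with bounded top three coefficients are bounded
-/

set_option autoImplicit false

universe u

open CategoryTheory CategoryTheory.Limits AlgebraicGeometry

set_option linter.style.haveILetI false

noncomputable section

namespace Groth.Agent.NumTriv.ChiBdd

open ProjTwist OnSet NefPos IntProd70

variable {k : Type u} [Field k] {n : ℕ} {X : Scheme.{u}} [X.Over (Spec (CommRingCat.of k))]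
  [IsProper (X ↘ Spec (CommRingCat.of k))] (i : X ⟶ CohB1.ProjSpace n k)

/-- Differences of the Hilbert function in the binomial basis. -/
theorem iC_twist_eq {d : ℕ} (hd : topologicalKrullDim X ≤ (d : WithBot ℕ∞)) (L : X.Modules) (a : Fin (d + 1) → ℤ)
    (ha : ∀ m : ℕ, FGA.eulerCharLE k X (Pic13.twistOn k i L m) d = ∑ l : Fin (d + 1), a l * ((m + l).choose l : ℤ)) :
    ∀ j m : ℕ, iC k (List.replicate j (oX i 1)) (Pic13.twistOn k i L m) =
      ∑ l : Fin (d + 1), a l * ((m + l).choose (m + j) : ℤ) := by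
  haveI := EulerChar.isNoetherian k (X := X)
  intro j
  induction j with
  | zero =>
    intro m
    rw [List.replicate_zero, iC_nil, ← Snapper.eulerCharLE_eq k hd, ha]
    exact Finset.sum_congr rfl fun l _ => by rw [add_zero, Nat.choose_symm_add]
  | succ j IH =>
    intro m
    obtain ⟨e⟩ := nonempty_oX_add i (m : ℤ) 1 ((m + 1 : ℕ) : ℤ) (by push_cast; ring)
    let U := oX i 1
    let V := oX i (m : ℤ)
    let e' : CohB1.tensorMod U (Pic13.twistOn k i L m) ≅ Pic13.twistOn k i L ((m + 1 : ℕ) : ℤ) :=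
      tensComm U (CohB1.tensorMod L V) ≪≫ tensAssoc L V U ≪≫ tensCongr (Iso.refl L) e
    rw [List.replicate_succ, iC_cons, iC_iso k _ e', IH (m + 1), IH m, ← Finset.sum_sub_distrib]
    refine Finset.sum_congr rfl fun l _ => ?_
    rw [show m + 1 + (l : ℕ) = m + l + 1 by omega, show m + 1 + j = m + j + 1 by omega,
      Nat.choose_succ_succ, show m + (j + 1) = (m + j).succ by omega]
    push_cast
    ring

/-- Bounded coefficients bound the differences. -/
theorem abs_iC_le {d : ℕ} (hd : topologicalKrullDim X ≤ (d : WithBot ℕ∞)) (L : X.Modules) (a : Fin (d + 1) → ℤ)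
    (ha : ∀ m : ℕ, FGA.eulerCharLE k X (Pic13.twistOn k i L m) d = ∑ l : Fin (d + 1), a l * ((m + l).choose l : ℤ))
    (j : ℕ) (B : ℤ) (hB : ∀ l : Fin (d + 1), j ≤ (l : ℕ) → |a l| ≤ B) :
    |iC k (List.replicate j (oX i 1)) L| ≤ B * ∑ l : Fin (d + 1), ((l : ℕ).choose j : ℤ) := by
  haveI := EulerChar.isNoetherian k (X := X)
  obtain ⟨e₀⟩ := nonempty_oX_zero i
  have e : Pic13.twistOn k i L ((0 : ℕ) : ℤ) ≅ L := tensCongr (Iso.refl L) e₀ ≪≫ tensOne L
  rw [← iC_iso k _ e, iC_twist_eq i hd L a ha j 0, Finset.mul_sum]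
  refine (Finset.abs_sum_le_sum_abs _ _).trans (Finset.sum_le_sum fun l _ => ?_)
  rw [zero_add, zero_add, abs_mul, Nat.abs_cast]
  rcases Nat.lt_or_ge (l : ℕ) j with h | h
  · simp [Nat.choose_eq_zero_of_lt h]
  · exact mul_le_mul_of_nonneg_right (hB l h) (Int.natCast_nonneg _)

omit [X.Over (Spec (CommRingCat.of k))] [IsProper (X ↘ Spec (CommRingCat.of k))] in
/-- `O(1)` is globally generated. -/
theorem isGloballyGenerated_one : Curv2.IsGloballyGenerated (oX i 1) := by
  refine CMReg.isGloballyGenerated_pullback i (Props.AmpleGG.isGloballyGenerated_of_genLocus fun x => ?_)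
  have hcov := Props.AmpleTwist.iSup_basicOpen_X_pow n k Nat.one_pos
  obtain ⟨j, hj⟩ := TopologicalSpace.Opens.mem_iSup.mp (hcov.ge (trivial : x ∈ (⊤ : (CohB1.ProjSpace n k).Opens)))
  obtain ⟨s, hs⟩ := Props.AmpleTwist.exists_section (𝒜 := CohB1.polyGrading n k) (D := 1)
    (fun j : ULift.{u} (Fin (n + 1)) => Props.AmpleTwist.X_pow_mem n k 1 j.down) hcov
    (Props.AmpleTwist.X_pow_mem n k 1 j.down)
  let U : (CohB1.ProjSpace n k).Modules := Twist.twistProjSpace n k 1
  refine ⟨s ≫ (show CohB1.tensorPow U 1 ≅ U from oneTens U).hom, ?_⟩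
  rw [AbExt.genLocus_comp]
  exact hs ▸ hj

variable [IsIntegral X] [IsClosedImmersion i]

/-- Bounded degree and bounded third coefficient give a bounded family. -/
theorem isBounded_of_bdd [Infinite k]
    {s : ℕ} (hdim : topologicalKrullDim X = ((s + 2 : ℕ) : WithBot ℕ∞)) {Q : X.Modules → Prop}
    (hQ : ∀ L, Q L → PicF.IsInvertible L) (C : ℤ)
    (h₁ : ∀ L, Q L → |iC k (List.replicate (s + 1) (oX i 1)) L| ≤ C)
    (h₂ : ∀ L, Q L → |iC k (List.replicate s (oX i 1)) L| ≤ C) :
    Pic13.IsBounded k X Q := by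
  classical
  haveI := EulerChar.isNoetherian k (X := X)
  haveI : CompactSpace X := EulerChar.compactSpace k
  have hO := ProperFin.isCoh_structureModule X
  have hO1 := LFFrame.isInvertible_structureModule X
  let A := oX i 1
  have hA := isAmple_oX_one i
  have hgg : Curv2.IsGloballyGenerated A :=
    isGloballyGenerated_one i
  have hrep : ∀ C' ∈ List.replicate (s + 1) A, PicF.IsInvertible C' := fun C' hC =>
    (List.eq_of_mem_replicate hC) ▸ isInvertible_oX i 1
  let dg : X.Modules → ℤ := fun L => iC k (L :: List.replicate (s + 1) A) (Coh.structureModule X)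
  have hdg : ∀ L, dg L = iC k (List.replicate (s + 1) A) L -
      iC k (List.replicate (s + 1) A) (Coh.structureModule X) := fun L => by
    show iC k (L :: _) _ = _
    rw [iC_cons, iC_iso k _ (tensOne L)]
  have hdl : topologicalKrullDim ↥(CohB1.support (Coh.structureModule X)) ≤
      (((List.replicate (s + 1) A).length + 1 : ℕ) : WithBot ℕ∞) := by
    rw [List.length_replicate]; exact EulerChar.dim_support_le hdim.le
  let D : ℤ := C + |iC k (List.replicate (s + 1) A) (Coh.structureModule X)|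
  have hmem : ∀ L, Q L → dg L ∈ Finset.Icc (-D) D := fun L hL => by
    rw [Finset.mem_Icc, ← abs_le, hdg]
    exact (abs_sub _ _).trans (add_le_add (h₁ L hL) le_rfl)
  -- a representative and its inverse for each degree
  have hz : ∀ z : ↥(Finset.Icc (-D) D), ∃ (L₀ L₀' : X.Modules) (ι : Type u) (_ : Finite ι) (cl : X.Modules → ι),
      PicF.IsInvertible L₀ ∧ PicF.IsInvertible L₀' ∧ ∀ L M, Q L → Q M → dg L = z.1 → dg M = z.1 →
        cl (CohB1.tensorMod L L₀') = cl (CohB1.tensorMod M L₀') → FinCl.SameDeg k L M := by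
    intro z
    by_cases hex : ∃ L, Q L ∧ dg L = z.1
    swap
    · exact ⟨_, _, PUnit, inferInstance, fun _ => PUnit.unit, hO1, hO1, fun L M hL _ hz _ _ => absurd ⟨L, hL, hz⟩ hex⟩
    obtain ⟨L₀, hL₀Q, hL₀d⟩ := hex
    have hL₀ := hQ L₀ hL₀Q
    obtain ⟨L₀', hL₀', ⟨e⟩⟩ := PicLaw.exists_inverse hL₀
    obtain ⟨c', hc'⟩ := LowBound.low s k X A L₀ (-C) hA hgg hL₀ hdim
    obtain ⟨ι, hι, cl, hcl⟩ := FinCl.finCl s k X A c' hA hdim
    refine ⟨L₀, L₀', ι, hι, cl, hL₀, hL₀', fun L M hL hM hzL hzM hc => ?_⟩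
    have mem : ∀ N, Q N → dg N = z.1 → PicF.IsInvertible (CohB1.tensorMod N L₀') ∧
        iC k (CohB1.tensorMod N L₀' :: List.replicate (s + 1) A) (Coh.structureModule X) = 0 ∧
        -c' ≤ iC k (CohB1.tensorMod N L₀' :: CohB1.tensorMod N L₀' :: List.replicate s A)
          (Coh.structureModule X) := by
      intro N hN hzN
      have hN1 := AmpleLib.isInvertible_tensorMod (hQ N hN) hL₀'
      have hsum := iC_mul k (l := List.replicate (s + 1) A) hrep hL₀ hL₀' hO hdl
      rw [iC_congr k e, iC_cons, iC_iso k _ (oneTens (Coh.structureModule X)), sub_self] at hsum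
      have h0 : iC k (CohB1.tensorMod N L₀' :: List.replicate (s + 1) A) (Coh.structureModule X) = 0 := by
        rw [iC_mul k (l := List.replicate (s + 1) A) hrep (hQ N hN) hL₀' hO hdl]
        change dg N + _ = 0
        have : dg L₀ = z.1 := hL₀d
        simp only [dg] at this hzN ⊢
        omega
      refine ⟨hN1, h0, hc' _ hN1 h0 ?_⟩
      have e' : CohB1.tensorMod L₀ (CohB1.tensorMod N L₀') ≅ N :=
        tensCongr (Iso.refl L₀) (tensComm N L₀') ≪≫ (tensAssoc L₀ L₀' N).symm ≪≫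
          tensCongr e (Iso.refl N) ≪≫ oneTens N
      rw [iC_iso k _ e']
      exact (abs_le.1 (h₂ N hN)).1
    intro F hF hdF
    have h := hcl _ _ (mem L hL hzL) (mem M hM hzM) hc F hF hdF
    rw [deg1_tens k hF hdF (hQ L hL) hL₀', deg1_tens k hF hdF (hQ M hM) hL₀'] at h
    exact add_right_cancel h
  choose L₀ L₀' ι hι cl hL₀ hL₀' hcl using hz
  haveI := hι
  refine Translate.isBounded_of_classes
    (fun (a : Σ z : ↥(Finset.Icc (-D) D), ι z) L => dg L = a.1.1 ∧ cl a.1 (CohB1.tensorMod L (L₀' a.1)) = a.2)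
    hQ (fun L hL => ⟨⟨⟨dg L, hmem L hL⟩, cl ⟨dg L, hmem L hL⟩ (CohB1.tensorMod L (L₀' ⟨dg L, hmem L hL⟩))⟩, rfl, rfl⟩) fun a L M hL hM ha hb F hF hdF => ?_
  exact hcl a.1 L M hL hM ha.1 hb.1 (ha.2.trans hb.2.symm) F hF hdF

end Groth.Agent.NumTriv.ChiBdd
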