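import Groth.Agent.NumTriv.IndexThm
import Groth.Agent.BigVol.FieldPoint
import Groth.Agent.EulerFam.Tau

/-!
# Numerical triviality through Euler characteristics of `L^a ⊗ A^b`
-/

set_option autoImplicit false

universe u

open CategoryTheory CategoryTheory.Limits AlgebraicGeometry TopologicalSpace

set_option linter.style.haveILetI false

noncomputable section

namespace Groth.Agent.NumTriv.ChiCrit

open ProjTwist NefPos

variable (k : Type u) [Field k] {X : Scheme.{u}} [X.Over (Spec (CommRingCat.of k))]
  [IsProper (X ↘ Spec (CommRingCat.of k))]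

/-- Intersection numbers against powers of `A` see only the Euler characteristics of the twists. -/
theorem iC_rep_congr {A : X.Modules} : ∀ (j : ℕ) (G G' : X.Modules),
    (∀ b : ℕ, Curv2.euler k X (CohB1.tensorMod (CohB1.tensorPow A b) G) =
      Curv2.euler k X (CohB1.tensorMod (CohB1.tensorPow A b) G')) →
    iC k (List.replicate j A) G = iC k (List.replicate j A) G'
  | 0, G, G', h => (EulerChar.euler_iso k (oneTens G)).symm.trans ((h 0).trans (EulerChar.euler_iso k (oneTens G')))
  | j + 1, G, G', h => by
    rw [List.replicate_succ, iC_cons, iC_cons, iC_rep_congr j G G' h,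
      iC_rep_congr j (CohB1.tensorMod A G) (CohB1.tensorMod A G') fun b =>
        ((EulerChar.euler_iso k (tensAssoc (CohB1.tensorPow A b) A G)).symm.trans (h (b + 1))).trans
          (EulerChar.euler_iso k (tensAssoc (CohB1.tensorPow A b) A G'))]

/-- Numerically trivial modules do not change Euler characteristics. -/
theorem euler_pow_tens {L : X.Modules} (h : Num1 k L) : ∀ (a : ℕ) {G : X.Modules}, Coh.IsCoh G →
    Curv2.euler k X (CohB1.tensorMod (CohB1.tensorPow L a) G) = Curv2.euler k X G
  | 0, G, _ => EulerChar.euler_iso k (oneTens G)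
  | a + 1, G, hG => by
    change Curv2.euler k X (CohB1.tensorMod (CohB1.tensorMod (CohB1.tensorPow L a) L) G) = _
    rw [EulerChar.euler_iso k (tensAssoc (CohB1.tensorPow L a) L G ≪≫
      tensCongr (Iso.refl _) (tensComm L G) ≪≫ (tensAssoc (CohB1.tensorPow L a) G L).symm),
      AnyField.euler_tens_eq' (Snapper.isCoh_tensorMod k (AmpleLib.isInvertible_tensorPow h.1 a) hG) h,
      euler_pow_tens h a hG]

/-- The Euler characteristic criterion for numerical triviality on an integral scheme. -/
theorem num1_iff [Infinite k] [IsIntegral X] {A L : X.Modules} (hA : CohB1.IsAmple A)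
    (hL : PicF.IsInvertible L) :
    Num1 k L ↔ ∀ a b : ℕ, Curv2.euler k X (CohB1.tensorMod (CohB1.tensorPow L a) (CohB1.tensorPow A b)) =
      Curv2.euler k X (CohB1.tensorPow A b) := by
  haveI := EulerChar.isNoetherian k (X := X)
  refine ⟨fun h a b => euler_pow_tens k h a ((CohDev.isCoh_of_iso (tensOne _)
    (Snapper.isCoh_tensorMod k (AmpleLib.isInvertible_tensorPow hA.1 b) (ProperFin.isCoh_structureModule X)))), ?_⟩
  intro h
  obtain ⟨D, hD⟩ := HilbPolyX.exists_dim_le k X
  obtain ⟨r, hr⟩ : ∃ r : ℕ, topologicalKrullDim X = ((r : ℕ) : WithBot ℕ∞) := by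
    haveI : Nonempty (IrreducibleCloseds X) :=
      ⟨⟨closure {genericPoint X}, isIrreducible_singleton.closure, isClosed_closure⟩⟩
    have h0 : (0 : WithBot ℕ∞) ≤ topologicalKrullDim X := Order.krullDim_nonneg
    cases hk : topologicalKrullDim X with
    | bot => simp [hk] at h0
    | coe e =>
      cases e with
      | top => rw [hk] at hD; exact absurd (WithBot.coe_le_coe.1 hD) (by simp)
      | coe r => exact ⟨r, rfl⟩
  by_cases hr2 : 2 ≤ r
  · obtain ⟨s, rfl⟩ : ∃ s, r = s + 2 := ⟨r - 2, by omega⟩
    -- the two Euler characteristic identities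
    have e1 : ∀ b : ℕ, Curv2.euler k X (CohB1.tensorMod (CohB1.tensorPow A b)
        (CohB1.tensorMod L (Coh.structureModule X))) = Curv2.euler k X (CohB1.tensorPow A b) := fun b =>
      (EulerChar.euler_iso k (tensCongr (Iso.refl (CohB1.tensorPow A b)) (tensOne L) ≪≫
        tensComm _ L ≪≫ tensCongr (oneTens L).symm (Iso.refl _))).trans (h 1 b)
    have e2 : ∀ b : ℕ, Curv2.euler k X (CohB1.tensorMod (CohB1.tensorPow A b)
        (CohB1.tensorMod L (CohB1.tensorMod L (Coh.structureModule X)))) =
        Curv2.euler k X (CohB1.tensorPow A b) := fun b =>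
      (EulerChar.euler_iso k (tensCongr (Iso.refl (CohB1.tensorPow A b))
        (tensCongr (oneTens L).symm (tensOne L)) ≪≫ tensComm _ _)).trans (h 2 b)
    have e0 : ∀ b : ℕ, Curv2.euler k X (CohB1.tensorMod (CohB1.tensorPow A b) (Coh.structureModule X)) =
        Curv2.euler k X (CohB1.tensorPow A b) := fun b => EulerChar.euler_iso k (tensOne _)
    have c1 : ∀ j, iC k (List.replicate j A) (CohB1.tensorMod L (Coh.structureModule X)) =
        iC k (List.replicate j A) (Coh.structureModule X) := fun j =>
      iC_rep_congr k j _ _ fun b => (e1 b).trans (e0 b).symm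
    have c2 : ∀ j, iC k (List.replicate j A) (CohB1.tensorMod L (CohB1.tensorMod L (Coh.structureModule X))) =
        iC k (List.replicate j A) (Coh.structureModule X) := fun j =>
      iC_rep_congr k j _ _ fun b => (e2 b).trans (e0 b).symm
    refine IndexThm.num1_of_irreducible k hA hL hr ?_ ?_
    · rw [iC_cons, c1, sub_self]
    · rw [iC_cons, iC_cons, iC_cons, c1, c2, sub_self]
  · refine num1_of_isNumEquivZero (k := k) hL ?_
    intro Y i _ hY hY1
    haveI := hY
    haveI : Surjective i := by
      refine ⟨fun x => ?_⟩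
      by_contra hx
      have hlt := CohDev.dim_lt_of_irreducible i.isClosedEmbedding.isClosed_range
        (IrreducibleSpace.isIrreducible_univ X) (Set.subset_univ _) (fun hsub => hx (hsub (Set.mem_univ x)))
        (show topologicalKrullDim ↥(Set.univ : Set X) ≤ ((1 : ℕ) : WithBot ℕ∞) from
          ((Homeomorph.Set.univ X).isHomeomorph.topologicalKrullDim_eq _).le.trans
            (hr.le.trans (by exact_mod_cast (by omega : r ≤ 1))))
      rw [← IsHomeomorph.topologicalKrullDim_eq _
        (i.isClosedEmbedding.isEmbedding.toHomeomorph).isHomeomorph, hY1] at hlt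
      exact (lt_irrefl _ (by exact_mod_cast hlt)).elim
    haveI : IsIso i := isIso_of_isClosedImmersion_of_surjective i
    letI : Y.Over (Spec (CommRingCat.of k)) := ⟨i ≫ (X ↘ Spec (CommRingCat.of k))⟩
    haveI : IsProper (Y ↘ Spec (CommRingCat.of k)) :=
      inferInstanceAs (IsProper (i ≫ (X ↘ Spec (CommRingCat.of k))))
    have H : IsPullback i (Y ↘ Spec (CommRingCat.of k)) (X ↘ Spec (CommRingCat.of k))
        (Spec.map (CommRingCat.ofHom (algebraMap k k))) :=
      haveI : IsIso (Spec.map (CommRingCat.ofHom (algebraMap k k))) := by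
        rw [show CommRingCat.ofHom (algebraMap k k) = 𝟙 _ from rfl, Spec.map_id]; infer_instance
      IsPullback.of_horiz_isIso ⟨by
        rw [show CommRingCat.ofHom (algebraMap k k) = 𝟙 _ from rfl, Spec.map_id, Category.comp_id]; rfl⟩
    have hO := ProperFin.isCoh_structureModule X
    have bc := fun G hG => BigVol.FieldPoint.euler_baseChange (K := k) (X ↘ Spec (CommRingCat.of k)) i
      (Y ↘ Spec (CommRingCat.of k)) H G hG
    have hd : topologicalKrullDim Y ≤ (1 : ℕ) := by rw [hY1]; rfl
    have hLc : Coh.IsCoh L := CohDev.isCoh_of_iso (tensOne L) (Snapper.isCoh_tensorMod k hL hO)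
    have hL0 : Curv2.euler k X L = Curv2.euler k X (Coh.structureModule X) :=
      (EulerChar.euler_iso k ((oneTens L).symm ≪≫ (tensOne _).symm)).trans (h 1 0)
    have key : Curv2.euler k Y ((Scheme.Modules.pullback i).obj L) =
        Curv2.euler k Y (Coh.structureModule Y) :=
      ((bc L hLc).trans (hL0.trans (bc _ hO).symm) :
        Curv2.euler k Y ((Scheme.Modules.pullback i).obj L) =
          Curv2.euler k Y ((Scheme.Modules.pullback i).obj (Coh.structureModule X))).trans
        (EulerChar.euler_iso k (QCoh.pullbackUnitIso i))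
    exact sub_eq_zero.2 ((Snapper.eulerCharLE_eq k hd _).trans
      (key.trans (Snapper.eulerCharLE_eq k hd _).symm))

end Groth.Agent.NumTriv.ChiCrit
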