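import Groth.Agent.Snapper.Basic
import Groth.Agent.EulerFam.Tau
import Groth.Agent.EulerChar.Restrict
import Groth.Agent.EulerChar.Components
import Groth.Agent.PicLaw.Basic

/-!
# Invertible modules preserving Euler characteristics in dimension at most one
-/

universe u

open CategoryTheory CategoryTheory.Limits AlgebraicGeometry

set_option linter.style.haveILetI false

noncomputable section

namespace Groth.Agent.NumTriv

open ProjTwist

variable (k : Type u) [Field k] {X : Scheme.{u}} [X.Over (Spec (CommRingCat.of k))]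

/-- Invertible modules `M` with `χ(F ⊗ M) = χ(F)` for coherent `F` with support of dimension `≤ 1`. -/
def Num1 (M : X.Modules) : Prop :=
  PicF.IsInvertible M ∧ ∀ F : X.Modules, Coh.IsCoh F →
    topologicalKrullDim ↥(CohB1.support F) ≤ ((1 : ℕ) : WithBot ℕ∞) →
      Curv2.euler k X (CohB1.tensorMod F M) = Curv2.euler k X F

omit k [Field k] [X.Over (Spec (CommRingCat.of k))] in
theorem eq_zero_of_smallK_zero {c : SGA6.Kcoh X}
    (hc : c ∈ Snapper.smallK X ((0 : ℕ) : WithBot ℕ∞)) : c = 0 := by
  induction hc using AddSubgroup.closure_induction with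
  | mem x hx =>
    obtain ⟨G, hG, hGd, rfl⟩ := hx
    exact CohDev.kcl_of_isZero
      (CohDev.isZero_of_support_eq_empty (EulerChar.support_eq_empty_of_dim_lt hGd))
  | zero => rfl
  | add x y _ _ hx hy => rw [hx, hy, add_zero]
  | neg x _ hx => rw [hx, neg_zero]

variable [IsProper (X ↘ Spec (CommRingCat.of k))]

omit k [Field k] [X.Over (Spec (CommRingCat.of k))] [IsProper (X ↘ Spec (CommRingCat.of k))] in
theorem dim_support_tens_le (F M : X.Modules) :
    topologicalKrullDim ↥(CohB1.support (CohB1.tensorMod F M)) ≤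
      topologicalKrullDim ↥(CohB1.support F) :=
  CohDev.dim_mono (HilbPolyX.support_tensorMod_subset F M)

include k in
theorem isCoh_tens {F M : X.Modules} (hM : PicF.IsInvertible M) (hF : Coh.IsCoh F) :
    Coh.IsCoh (CohB1.tensorMod F M) :=
  haveI := EulerChar.isNoetherian k (X := X)
  ProjTwist.isCoh_tensor hM hF

theorem num1_one : Num1 k (Coh.structureModule X) :=
  ⟨LFFrame.isInvertible_structureModule X, fun F _ _ => EulerChar.euler_iso k (tensOne F)⟩

theorem num1_tens {M N : X.Modules} (hM : Num1 k M) (hN : Num1 k N) :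
    Num1 k (CohB1.tensorMod M N) :=
  ⟨AmpleLib.isInvertible_tensorMod hM.1 hN.1, fun F hF hd => by
    rw [← EulerChar.euler_iso k (tensAssoc F M N),
      hN.2 _ (isCoh_tens k hM.1 hF) ((dim_support_tens_le F M).trans hd), hM.2 F hF hd]⟩

theorem num1_iso {M N : X.Modules} (e : M ≅ N) (hN : PicF.IsInvertible N) (hM : Num1 k M) :
    Num1 k N :=
  ⟨hN, fun F hF hd => by rw [← EulerChar.euler_iso k (tensCongr (Iso.refl F) e), hM.2 F hF hd]⟩

theorem num1_pow {M : X.Modules} (hM : Num1 k M) : ∀ j : ℕ, Num1 k (CohB1.tensorPow M j)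
  | 0 => num1_one k
  | j + 1 => num1_tens k (num1_pow hM j) hM

theorem num1_of_inverse {M M' : X.Modules} (hM : Num1 k M) (hM' : PicF.IsInvertible M')
    (e : CohB1.tensorMod M' M ≅ Coh.structureModule X) : Num1 k M' :=
  ⟨hM', fun F hF hd => by
    rw [← hM.2 _ (isCoh_tens k hM' hF) ((dim_support_tens_le F M').trans hd),
      EulerChar.euler_iso k (tensAssoc F M' M ≪≫ tensCongr (Iso.refl F) e ≪≫ tensOne F)]⟩

theorem num1_exists_inverse {M : X.Modules} (hM : Num1 k M) :
    ∃ M' : X.Modules, Num1 k M' ∧ Nonempty (CohB1.tensorMod M' M ≅ Coh.structureModule X) := by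
  obtain ⟨M', hM', ⟨e⟩⟩ := PicLaw.exists_inverse hM.1
  exact ⟨M', num1_of_inverse k hM hM' (tensComm M' M ≪≫ e), ⟨tensComm M' M ≪≫ e⟩⟩

theorem num1_of_isTauEquivZero {M : X.Modules} (hM : PicF.IsInvertible M)
    (h : Pic13.IsTauEquivZero k X M) : Num1 k M :=
  ⟨hM, fun _ hF _ => EulerFam.euler_tensor_of_isTauEquivZero hM h hF⟩

/-- `χ(- ⊗ M) - χ` on `K₀`. -/
def dev {M : X.Modules} (hM : PicF.IsInvertible M) : SGA6.Kcoh X →+ ℤ :=
  EulerChar.liftK (fun F => Curv2.euler k X (CohB1.tensorMod F M) - Curv2.euler k X F)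
    fun S hS h₁ h₂ h₃ => by
      have h' : Curv2.euler k X (CohB1.tensorMod S.X₂ M) = Curv2.euler k X (CohB1.tensorMod S.X₁ M) +
          Curv2.euler k X (CohB1.tensorMod S.X₃ M) := EulerChar.euler_add k
        (S := S.map ((DCoh.tensorBi (X := X)).flip.obj M))
        (ProjTwist.shortExact_tensor hM hS) (isCoh_tens k hM h₁) (isCoh_tens k hM h₂)
        (isCoh_tens k hM h₃)
      have := EulerChar.euler_add k hS h₁ h₂ h₃
      show _ - _ = _ - _ + (_ - _)
      linarith

theorem dev_kcl {M F : X.Modules} (hM : PicF.IsInvertible M) (hF : Coh.IsCoh F) :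
    dev k hM (CohDev.kcl F) = Curv2.euler k X (CohB1.tensorMod F M) - Curv2.euler k X F :=
  EulerChar.liftK_kcl _ _ hF

theorem dev_small {M : X.Modules} (hM : PicF.IsInvertible M) {e : ℕ}
    (h : ∀ G : X.Modules, Coh.IsCoh G → topologicalKrullDim ↥(CohB1.support G) < (e : WithBot ℕ∞) →
      Curv2.euler k X (CohB1.tensorMod G M) = Curv2.euler k X G)
    {c : SGA6.Kcoh X} (hc : c ∈ Snapper.smallK X (e : WithBot ℕ∞)) : dev k hM c = 0 := by
  induction hc using AddSubgroup.closure_induction with
  | mem x hx =>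
    obtain ⟨G, hG, hGd, rfl⟩ := hx
    rw [dev_kcl k hM hG, h G hG hGd, sub_self]
  | zero => exact map_zero _
  | add x y _ _ hx hy => rw [map_add, hx, hy, add_zero]
  | neg x _ hx => rw [map_neg, hx, neg_zero]

/-- Tensoring by an invertible module does not change `dev` in the presence of vanishing below. -/
theorem dev_tens_left {M A F : X.Modules} (hM : PicF.IsInvertible M) (hA : PicF.IsInvertible A)
    (hF : Coh.IsCoh F) {e : ℕ}
    (hd : topologicalKrullDim ↥(CohB1.support F) ≤ (e : WithBot ℕ∞))
    (h : ∀ G : X.Modules, Coh.IsCoh G → topologicalKrullDim ↥(CohB1.support G) < (e : WithBot ℕ∞) →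
      Curv2.euler k X (CohB1.tensorMod G M) = Curv2.euler k X G) :
    Curv2.euler k X (CohB1.tensorMod (CohB1.tensorMod F A) M) - Curv2.euler k X (CohB1.tensorMod F A) =
      Curv2.euler k X (CohB1.tensorMod F M) - Curv2.euler k X F := by
  have h0 := dev_small k hM h (Snapper.kcl_tens_sub_small k hA hF hd)
  rw [map_sub, dev_kcl k hM (Snapper.isCoh_tensorMod k hA hF), dev_kcl k hM hF, sub_eq_zero] at h0
  rw [← h0, EulerChar.euler_iso k (tensCongr (tensComm F A) (Iso.refl M)),
    EulerChar.euler_iso k (tensComm F A)]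

/-- Numerically trivial invertible modules. -/
theorem num1_of_isNumEquivZero {M : X.Modules} (hM : PicF.IsInvertible M)
    (h : Pic13.IsNumEquivZero k X M) : Num1 k M := by
  haveI := EulerChar.isNoetherian k (X := X)
  have hpt : ∀ G : X.Modules, Coh.IsCoh G →
      topologicalKrullDim ↥(CohB1.support G) ≤ ((0 : ℕ) : WithBot ℕ∞) →
      Curv2.euler k X (CohB1.tensorMod G M) = Curv2.euler k X G := fun G hG hd => by
    have hc := Snapper.kcl_tens_sub_small k hM hG hd
    have h1 := congrArg (Snapper.chiT k (LFFrame.isInvertible_structureModule X))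
      (eq_zero_of_smallK_zero hc)
    rw [map_zero, map_sub, Snapper.chiT_kcl k _ (Snapper.isCoh_tensorMod k hM hG), Snapper.chiT_kcl k _ hG,
      sub_eq_zero] at h1
    rwa [EulerChar.euler_iso k (tensComm _ _ ≪≫ tensOne (CohB1.tensorMod M G)),
      EulerChar.euler_iso k (tensComm _ _ ≪≫ tensOne G),
      EulerChar.euler_iso k (tensComm M G)] at h1
  refine ⟨hM, fun F hF hd => sub_eq_zero.1 ?_⟩
  rw [← dev_kcl k hM hF]
  have hmem := CohDev.kcl_mem_closure_oz hF
  revert hmem
  generalize CohDev.kcl F = c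
  intro hmem
  induction hmem using AddSubgroup.closure_induction with
  | zero => exact map_zero _
  | add x y _ _ hx hy => rw [map_add, hx, hy, add_zero]
  | neg x _ hx => rw [map_neg, hx, neg_zero]
  | mem c hc =>
    obtain ⟨x, hx, rfl⟩ := hc
    rw [dev_kcl k hM (CohDev.isCoh_oz x), sub_eq_zero]
    have hsub : closure ({x} : Set X) ⊆ CohB1.support F :=
      closure_minimal (Set.singleton_subset_iff.2 hx) (CohDev.isClosed_support hF)
    have hdx := (CohDev.dim_mono hsub).trans hd
    let ι := (IntMult.ptIdeal x).subschemeι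
    letI : (IntMult.ptIdeal x).subscheme.Over (Spec (CommRingCat.of k)) :=
      ⟨ι ≫ (X ↘ Spec (CommRingCat.of k))⟩
    haveI : IsProper ((IntMult.ptIdeal x).subscheme ↘ Spec (CommRingCat.of k)) :=
      inferInstanceAs (IsProper (ι ≫ (X ↘ Spec (CommRingCat.of k))))
    haveI : IsIntegral (IntMult.ptIdeal x).subscheme :=
      S16188.isIntegral_subscheme _ isIrreducible_singleton.closure
    have hr : Set.range ι = closure ({x} : Set X) := (IntMult.ptIdeal x).range_subschemeι
    have hdim : topologicalKrullDim (IntMult.ptIdeal x).subscheme =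
        topologicalKrullDim ↥(closure ({x} : Set X)) := by
      rw [← hr]
      exact (IsHomeomorph.topologicalKrullDim_eq _
        (ι.isClosedEmbedding.isEmbedding.toHomeomorph).isHomeomorph)
    by_cases h1 : topologicalKrullDim (IntMult.ptIdeal x).subscheme = 1
    · have h0 : Pic13.curveDeg k (ι ≫ (X ↘ Spec (CommRingCat.of k)))
          ((Scheme.Modules.pullback ι).obj M) = 0 := h _ ι ‹_› h1
      have hd1 : topologicalKrullDim (IntMult.ptIdeal x).subscheme ≤ ((1 : ℕ) : WithBot ℕ∞) := by
        rw [h1]; simp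
      rw [Pic13.curveDeg, Snapper.eulerCharLE_eq k hd1, Snapper.eulerCharLE_eq k hd1,
        sub_eq_zero] at h0
      haveI := ProjTwist.isQCoh_of_isInvertible (PicCl.isInvertible_pullback ι hM)
      show Curv2.euler k X (CohB1.tensorMod ((Scheme.Modules.pushforward ι).obj
          (Coh.structureModule (IntMult.ptIdeal x).subscheme)) M) =
        Curv2.euler k X ((Scheme.Modules.pushforward ι).obj
          (Coh.structureModule (IntMult.ptIdeal x).subscheme))
      rw [EulerChar.euler_iso k (tensComm _ M ≪≫ EulerChar.tensQuotIso ι M),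
        EulerChar.euler_push ι rfl _ inferInstance,
        EulerChar.euler_push ι rfl _ (ProjTwist.isQuasicoherent_structureModule _)]
      exact h0
    · refine hpt _ (CohDev.isCoh_oz x) ((CohDev.dim_mono (CohDev.support_oz_subset x)).trans ?_)
      rw [hdim] at h1
      generalize topologicalKrullDim ↥(closure ({x} : Set X)) = v at h1 hdx
      cases v with
      | bot => exact bot_le
      | coe a =>
        have h2 : a ≤ 1 := by exact_mod_cast WithBot.coe_le_coe.1 hdx
        have h3 : a ≠ 1 := fun e => h1 (by subst e; rfl)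
        have : a ≤ 0 := by
          rcases lt_or_eq_of_le h2 with h4 | h4
          · exact Order.le_of_lt_add_one (α := ℕ∞) (by simpa using h4)
          · exact absurd h4 h3
        exact WithBot.coe_le_coe.2 (by simpa using this)

end Groth.Agent.NumTriv
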