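import Groth.Agent.NumTriv.IndexThm
import Groth.Agent.CartFilt.Basic

/-!
# Exact cutting by the generic hyperplane

The zero scheme of the generic section is the integral subscheme on the closure of its generic point,
so intersection numbers against it are computed exactly on that subscheme.
-/

set_option autoImplicit false

universe u

open CategoryTheory CategoryTheory.Limits AlgebraicGeometry TopologicalSpace

set_option linter.style.haveILetI false

noncomputable section

namespace Groth.Agent.NumTriv.ExactCut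

open Groth.Agent.Props.GenLocus Groth.Agent.PullStalk.Sky Groth.Agent.PullStalk.Exact ProjTwist NefPos

/-- Two subobjects with the same stalks are isomorphic. -/
theorem exists_iso_of_range {X : Scheme.{u}} {A P M : X.Modules} (a : A ⟶ M) (b : P ⟶ M) [Mono a] [Mono b]
    (h : ∀ (x : X) (t : M.presheaf.stalk x), (∃ z, stalkLin b x z = t) ↔ ∃ z, stalkLin a x z = t) :
    Nonempty (P ≅ A) := by
  have hz : b ≫ cokernel.π a = 0 := by
    refine Omega.Stalks.hom_ext_stalk fun x => LinearMap.ext fun z => ?_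
    obtain ⟨y, hy⟩ := (h x _).1 ⟨z, rfl⟩
    refine (NegVan.stalkLin_comp' _ _ x z).trans (Eq.trans ?_ (CohDev.stalkLin_zero_apply x z).symm)
    rw [← hy, ← CohDev.stalkLin_comp_apply, cokernel.condition, CohDev.stalkLin_zero_apply]
  let k := Abelian.monoLift a b hz
  have hk : k ≫ a = b := Abelian.monoLift_comp a b hz
  haveI : Mono k := mono_of_mono_fac hk
  haveI : Epi k := Omega.Stalks.epi_of_stalk fun x y => by
    obtain ⟨z, hz'⟩ := (h x _).2 ⟨y, rfl⟩
    refine ⟨z, CohDev.stalk_injective a x ?_⟩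
    rw [← hz', ← hk]
    exact (NegVan.stalkLin_comp' _ _ x z).symm
  haveI := isIso_of_mono_of_epi k
  exact ⟨asIso k⟩

/-- The image of a section on stalks. -/
theorem range_sec {X : Scheme.{u}} {L : X.Modules} (s : Coh.structureModule X ⟶ L) {U : X.Opens}
    {E : Γ(L, U)} (hE : IsGen L U E) {f : Γ(X, U)} (hf : sec s U = f • E) {x : X} (hx : x ∈ U)
    (t : L.presheaf.stalk x) :
    (∃ z, stalkLin s x z = t) ↔ ∃ z : L.presheaf.stalk x, X.presheaf.germ U x hx f • z = t := by
  have hone : stalkLin s x (germM (Coh.structureModule X) U x hx (one' U)) =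
      X.presheaf.germ U x hx f • germM L U x hx E := by
    rw [stalkLin_germ, show s.app U (one' U) = sec s U from rfl, hf, germM_smul]
  have hb1 := ((isGen_iff_isFrame _).mp (CartFilt.isGen_one (X := X) U)).stalkComb_bijective x hx
  have hbE := ((isGen_iff_isFrame _).mp hE).stalkComb_bijective x hx
  have key : ∀ {M : X.Modules} (e : Γ(M, U)) (c : Fin 1 → X.presheaf.stalk x),
      LFFrame.stalkComb M (fun _ : Fin 1 => e) x hx c = c 0 • germM M U x hx e := fun e c => by
    simp only [LFFrame.stalkComb, Fintype.linearCombination_apply, Fin.sum_univ_one]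
  constructor
  · rintro ⟨z, rfl⟩
    obtain ⟨c, rfl⟩ := hb1.2 z
    refine ⟨c 0 • germM L U x hx E, ?_⟩
    rw [key, map_smul, hone, smul_smul, smul_smul, mul_comm]
  · rintro ⟨z, rfl⟩
    obtain ⟨c, rfl⟩ := hbE.2 z
    refine ⟨c 0 • germM (Coh.structureModule X) U x hx (one' U), ?_⟩
    rw [key, map_smul, hone, smul_smul, smul_smul, mul_comm]

variable (k : Type u) [Field k] (n : ℕ) {X : Scheme.{u}} (r : X ⟶ Spec (CommRingCat.of k))
  (M : X.Modules) (σ : Fin n → Γ(M, ⊤)) [IsIntegral X]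
  (hσ : ∀ x : X, ∃ j, x ∈ CohB1.genLocus M (homOfSec (σ j)))

include hσ in
/-- Near every point the ideal of the closure of the generic zero is spanned by the equation. -/
theorem exists_eqn (ζ : ↥(GenHyp.XK k n r)) (hζ : GenHyp.zset k n r M σ = closure {ζ})
    (x : ↥(GenHyp.XK k n r)) :
    ∃ (W : (GenHyp.XK k n r).affineOpens) (f : Γ(GenHyp.XK k n r, W.1))
      (E : Γ((Scheme.Modules.pullback (GenHyp.pX k n r)).obj M, W.1)),
      x ∈ W.1 ∧ CartFilt.IsEqn (IntMult.ptIdeal ζ) W f ∧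
      IsGen ((Scheme.Modules.pullback (GenHyp.pX k n r)).obj M) W.1 E ∧
      sec (GenHyp.sH k n r M σ) W.1 = f • E := by
  obtain ⟨U, j, hU, hxU, hj⟩ := GenHyp.exists_affine_mem k n r M σ hσ x
  haveI : Nonempty ↥U := ⟨⟨_, hxU⟩⟩
  obtain ⟨hd, f, E, hE, hsec, hf, hP⟩ := GenHyp.exists_chart_frame k n r M σ hU hj
  haveI := hd
  have hW := hU.preimage (GenHyp.pX k n r)
  refine ⟨⟨_, hW⟩, f, E, hxU, ⟨mem_nonZeroDivisors_of_ne_zero hf, ?_⟩, hE, hsec⟩
  have hpre : hW.fromSpec ⁻¹' (closure ({ζ} : Set ↥(GenHyp.XK k n r))) =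
      PrimeSpectrum.zeroLocus ((Ideal.span {f} : Ideal Γ(GenHyp.XK k n r, GenHyp.pX k n r ⁻¹ᵁ U)) : Set _) := by
    rw [← hζ, PrimeSpectrum.zeroLocus_span]
    ext q
    have hq : hW.fromSpec q ∈ GenHyp.pX k n r ⁻¹ᵁ U := by
      have : hW.fromSpec q ∈ Set.range hW.fromSpec := ⟨q, rfl⟩
      rwa [hW.range_fromSpec] at this
    have h1 : hW.fromSpec q ∈ (GenHyp.XK k n r).basicOpen f ↔ f ∉ q.asIdeal := by
      have h : q ∈ hW.fromSpec ⁻¹ᵁ (GenHyp.XK k n r).basicOpen f ↔ q ∈ PrimeSpectrum.basicOpen f := by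
        rw [hW.fromSpec_preimage_basicOpen]; rfl
      exact h
    rw [← genLocus_inf hE _ hsec] at h1
    have hz0 : q ∈ PrimeSpectrum.zeroLocus {f} ↔ f ∈ q.asIdeal := by
      show {f} ⊆ (q.asIdeal : Set _) ↔ _
      rw [Set.singleton_subset_iff]; rfl
    refine Iff.trans ?_ hz0.symm
    show hW.fromSpec q ∈ GenHyp.zset k n r M σ ↔ _
    constructor
    · intro hz
      by_contra hfq
      exact hz (h1.2 hfq).1
    · intro hfq hz
      exact h1.1 ⟨hz, hq⟩ hfq
  show PrimeSpectrum.vanishingIdeal (hW.fromSpec ⁻¹' (closure ({ζ} : Set ↥(GenHyp.XK k n r)))) = _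
  refine (congrArg PrimeSpectrum.vanishingIdeal hpre).trans ?_
  rw [PrimeSpectrum.vanishingIdeal_zeroLocus_eq_radical]
  rcases hP with ⟨hp, -⟩ | ht
  · exact hp.radical
  · rw [ht, Ideal.radical_top]

include hσ in
/-- `B' ⊗ I ≅ O` for the ideal `I` of the closure of the generic zero. -/
theorem exists_inverse [IsLocallyNoetherian (GenHyp.XK k n r)] [IsIntegral (GenHyp.XK k n r)]
    (hM : PicF.IsInvertible M) (ζ : ↥(GenHyp.XK k n r)) (hζ : GenHyp.zset k n r M σ = closure {ζ}) :
    PicF.IsInvertible (ClSub.idealMod (IntMult.ptIdeal ζ)) ∧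
      Nonempty (CohB1.tensorMod ((Scheme.Modules.pullback (GenHyp.pX k n r)).obj M)
        (ClSub.idealMod (IntMult.ptIdeal ζ)) ≅ Coh.structureModule (GenHyp.XK k n r)) := by
  have hI : BlowUp.IsEffCartierIdeal (IntMult.ptIdeal ζ) := fun x => by
    obtain ⟨W, f, E, hxW, ⟨hf, hid⟩, -, -⟩ := exists_eqn k n r M σ hσ ζ hζ x
    exact ⟨W, hxW, f, hf, hid⟩
  have hM' := PicCl.isInvertible_pullback (GenHyp.pX k n r) hM
  refine ⟨IdealSh.IdealMod.isInvertible_of_isEffCartierIdeal _ hI, ?_⟩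
  obtain ⟨η, -, hη⟩ := GenHyp.exists_generic_XK k n r M σ hσ
  haveI : Mono (GenHyp.sH k n r M σ) := IndexThm.mono_of_genLocus hM' _ (not_not.1 hη)
  haveI := CartFilt.mono_α hI _ hM'
  refine exists_iso_of_range (GenHyp.sH k n r M σ)
    (CartFilt.α (IntMult.ptIdeal ζ) ((Scheme.Modules.pullback (GenHyp.pX k n r)).obj M)) fun x t => ?_
  obtain ⟨W, f, E, hxW, heq, hE, hsec⟩ := exists_eqn k n r M σ hσ ζ hζ x
  obtain ⟨e, he, hg⟩ := CartFilt.exists_gen heq
  rw [range_sec _ hE hsec hxW]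
  have h := NegVan.mem_range_mulθ_iff (ClSub.idealModι (IntMult.ptIdeal ζ))
    ((Scheme.Modules.pullback (GenHyp.pX k n r)).obj M) he x hxW t
  rw [hg] at h
  exact ⟨fun ⟨z, hz⟩ => h.1 ⟨z, hz⟩, fun hz => LinearMap.mem_range.1 (h.2 hz)⟩

/-- Cutting by an invertible ideal, exactly. -/
theorem iC_cons_ideal {K : Type u} [Field K] {Z : Scheme.{u}} [Z.Over (Spec (CommRingCat.of K))]
    [IsProper (Z ↘ Spec (CommRingCat.of K))] (I : Z.IdealSheafData)
    [I.subscheme.Over (Spec (CommRingCat.of K))] [IsProper (I.subscheme ↘ Spec (CommRingCat.of K))]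
    (w : I.subschemeι ≫ (Z ↘ Spec (CommRingCat.of K)) = I.subscheme ↘ Spec (CommRingCat.of K))
    {B : Z.Modules} (hB : PicF.IsInvertible B) (e : CohB1.tensorMod B (ClSub.idealMod I) ≅ Coh.structureModule Z)
    (hJ : PicF.IsInvertible (ClSub.idealMod I)) :
    ∀ (l : List Z.Modules), (∀ A ∈ l, PicF.IsInvertible A) → ∀ G : Z.Modules, PicF.IsInvertible G →
      iC K (B :: l) G = iC K (l.map (Scheme.Modules.pullback I.subschemeι).obj)
        ((Scheme.Modules.pullback I.subschemeι).obj (CohB1.tensorMod B G))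
  | [], _, G, hG => by
    haveI := EulerChar.isNoetherian K (X := Z)
    let T := CohB1.tensorMod B G
    have hT : PicF.IsInvertible T := AmpleLib.isInvertible_tensorMod hB hG
    haveI hTq : T.IsQuasicoherent := ProjTwist.isQCoh_of_isInvertible hT
    have hO := ProperFin.isCoh_structureModule Z
    have hQ := EulerChar.isCoh_quotMod K I
    have hJc := BigVol.isCoh_of_isInvertible hJ
    have hadd := EulerChar.euler_add K (ProjTwist.shortExact_tensor hT (EulerChar.shortExact_ideal I))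
      (isCoh_tens K hT hJc) (isCoh_tens K hT hO) (isCoh_tens K hT hQ)
    let J := ClSub.idealMod I
    let e₁ : CohB1.tensorMod J T ≅ G := (tensAssoc J B G).symm ≪≫
      tensCongr (tensComm J B ≪≫ e) (Iso.refl G) ≪≫ oneTens G
    let e₂ : CohB1.tensorMod (Coh.structureModule Z) T ≅ T := oneTens T
    let e₃ := EulerChar.tensQuotIso I.subschemeι T
    have h3 : Curv2.euler K Z (CohB1.tensorMod (ClSub.quotMod I) T) =
        Curv2.euler K I.subscheme ((Scheme.Modules.pullback I.subschemeι).obj T) :=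
      (EulerChar.euler_iso K (tensComm (ClSub.quotMod I) T ≪≫ e₃)).trans (EulerChar.euler_push I.subschemeι w _ inferInstance)
    have h1 := EulerChar.euler_iso K e₁
    have h2 := EulerChar.euler_iso K e₂
    rw [List.map_nil, iC_cons, iC_nil, iC_nil, iC_nil]
    show Curv2.euler K Z T - _ = _
    rw [← h3, ← h2, ← h1]
    exact sub_eq_of_eq_add' hadd
  | A :: l, hl, G, hG => by
    have hA := hl A List.mem_cons_self
    have hl' : ∀ C ∈ l, PicF.IsInvertible C := fun C hC => hl C (List.mem_cons_of_mem A hC)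
    let T := CohB1.tensorMod B G
    have sw : CohB1.tensorMod B (CohB1.tensorMod A G) ≅ CohB1.tensorMod A T :=
      (tensAssoc B A G).symm ≪≫ tensCongr (tensComm B A) (Iso.refl G) ≪≫ tensAssoc A B G
    rw [iC_perm K (List.Perm.swap A B l), iC_cons, iC_cons_ideal I w hB e hJ l hl' G hG,
      iC_cons_ideal I w hB e hJ l hl' _ (AmpleLib.isInvertible_tensorMod hA hG), List.map_cons, iC_cons]
    exact congrArg (fun z => z - _) (iC_iso K _ ((Scheme.Modules.pullback I.subschemeι).mapIso sw ≪≫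
      KFlat.PullTensor.pullTensorIso I.subschemeι A T))

end Groth.Agent.NumTriv.ExactCut
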