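import Groth.Agent.NumTriv.Quad
import Groth.Agent.NumTriv.Translate
import Groth.Agent.EulerFam.RegBounded
import Groth.Agent.EulerFam.UnivCoker

/-!
# Boundedness on a surface of modules trivial on a hyperplane section
-/

universe u

open CategoryTheory CategoryTheory.Limits AlgebraicGeometry

set_option linter.style.haveILetI false

noncomputable section

namespace Groth.Agent.NumTriv.SurfBdd

open ProjTwist ProjTwist.Pn OnSet

variable {k : Type u} [Field k] {n : ℕ} {X : Scheme.{u}} [X.Over (Spec (CommRingCat.of k))]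
  [IsProper (X ↘ Spec (CommRingCat.of k))]

/-- Regular invertible modules with finitely many values of `χ` at the regularity form a bounded
family. -/
theorem isBounded_regular [IsAlgClosed k] (i : X ⟶ CohB1.ProjSpace n k) [IsClosedImmersion i] (m : ℤ)
    (p : ℕ) {P : X.Modules → Prop} (hP : ∀ F, P F → Coh.IsCoh F ∧ Pic13.IsMRegular k i F m ∧
      ∃ q, q ≤ p ∧ (q : ℤ) = chi ((Coh.push i).obj F) m) :
    Pic13.IsBounded k X P := by
  let A : ℕ → X.Modules := fun q => (Scheme.Modules.pullback i).obj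
    (∐ fun _ : Fin (h0Tw (∐ fun _ : Fin q => Twist.twistProjSpace n k (-m)) (m + 1)) =>
      Twist.twistProjSpace n k (-(m + 1)))
  let B : ℕ → X.Modules := fun q => (Scheme.Modules.pullback i).obj
    (∐ fun _ : Fin q => Twist.twistProjSpace n k (-m))
  have hb : ∀ q : Fin (p + 1), Pic13.IsBounded k X (fun G => ∃ φ : A q ⟶ B q,
      Nonempty (cokernel φ ≅ G)) := fun q =>
    EulerFam.isBounded_cokernel
      (ZClosLib.CohDescent.isCoh_pullback i _ (isCoh_sum _ fun _ => isCoh_twistProjSpace n k _))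
      (ZClosLib.CohDescent.isCoh_pullback i _ (isCoh_sum _ fun _ => isCoh_twistProjSpace n k _))
  obtain ⟨T, q, hft, hqc, G, hG, hfib⟩ := Translate.isBounded_finite hb
  refine ⟨T, q, hft, hqc, G, hG, fun F hF => hfib F ?_⟩
  obtain ⟨hc, hreg, r, hr, hchi⟩ := hP F hF
  exact ⟨⟨r, by omega⟩, EulerFam.exists_iso_cokernel i hc hreg hchi⟩

variable [IsIntegral X] (i : X ⟶ CohB1.ProjSpace n k) [IsClosedImmersion i]
  (hi : i ≫ CohB1.ProjSpace.toSpec n k = X ↘ Spec (CommRingCat.of k))
  (σ : oX i (-1) ⟶ Coh.structureModule X) (hσ : σ ≠ 0) {S : Set X}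
  (hS : CohB1.support (cokernel σ) ⊆ S)

include hi hσ hS in
/-- Uniform regularity once `χ` is bounded below. -/
theorem exists_regular [Infinite k] {d : ℕ}
    (hd : topologicalKrullDim X = ((d + 2 : ℕ) : WithBot ℕ∞)) (c : ℤ) :
    ∃ (m : ℤ) (p : ℕ), ∀ M : X.Modules, NumOn k S M →
      c ≤ Curv2.euler k X (CohB1.tensorMod (Coh.structureModule X) M) -
        Curv2.euler k X (Coh.structureModule X) →
      Curv2.IsMRegular k n (NumTriv.G i (Coh.structureModule X) M) m ∧
        h0Tw (NumTriv.G i (Coh.structureModule X) M) m ≤ p := by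
  haveI := EulerChar.isNoetherian k (X := X)
  haveI := isLocallyNoetherian_projSpace n k
  have hF := ProperFin.isCoh_structureModule X
  let F := Coh.structureModule X
  obtain ⟨C, f, g, wfg, hex, hC, hsupp⟩ := IdealBound.exists_seq i hi σ hσ hS (𝟙 F) hF
  obtain ⟨-, m, hm⟩ := uniform_on i hi hC hsupp
  have hseq : ∀ M : X.Modules, NumOn k S M →
      ∃ (a : twF (NumTriv.G i F M) (-1) ⟶ NumTriv.G i F M) (b : NumTriv.G i F M ⟶ NumTriv.G i C M)
        (w : a ≫ b = 0), (ShortComplex.mk a b w).ShortExact := fun M hM => by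
    have hS' := shortExact_push i (ProjTwist.shortExact_tensor hM.1 hex)
    let ε : twF (NumTriv.G i F M) (-1) ≅ NumTriv.G i (Pic13.twistOn k i F (-1)) M :=
      CMReg.pushTwistIso i (CohB1.tensorMod F M) (-1) ≪≫ (Coh.push i).mapIso (twistTens i F M (-1))
    obtain ⟨w, h⟩ := exists_shift hS' ε
    exact ⟨_, _, w, h⟩
  let q : ℕ → ℕ := fun s => (Curv2.euler k X (Pic13.twistOn k i C (m + s))).toNat
  have hQ : ∀ M : X.Modules, NumOn k S M → ∀ s : ℕ, ∀ j : ℤ, j ≤ m + s →
      h0Tw (NumTriv.G i C M) j ≤ q s := by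
    intro M hM s j hj
    refine (h0Tw_mono (isCoh_G i hM.1 hC) hj).trans ?_
    have h := EulerFam.h0Tw_eq_chi (isCoh_G i hM.1 hC)
      (isMRegular_of_le (isCoh_G i hM.1 hC).1 (hm M hM) (by omega : m ≤ m + (s : ℤ)))
    rw [chi_G i hi hM.1 hC, (uniform_on i hi (isCoh_twistOn i hC (m + s))
      ((HilbPolyX.support_tensorMod_subset C (oX i (m + s))).trans hsupp)).1 M hM] at h
    simp only [q, ← h, Int.toNat_natCast, le_refl]
  -- a bound of `h⁰` in each degree
  have hh0 : ∀ j : ℤ, ∃ B : ℕ, ∀ M : X.Modules, NumOn k S M →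
      h0Tw (NumTriv.G i F M) j ≤ B := fun j => by
    let j₀ := min (-1) j
    let s := (j - m).toNat
    refine ⟨(j - j₀).toNat * q s, fun M hM => ?_⟩
    have hlow : h0Tw (NumTriv.G i F M) j₀ ≤ 0 := by
      rw [← IdealBound.h0Tw_eq_zero i hi σ hσ hS hd hM]
      exact h0Tw_mono (isCoh_G i hM.1 hF) (min_le_left _ _)
    have key : ∀ c : ℕ, j₀ + c ≤ j → h0Tw (NumTriv.G i F M) (j₀ + c) ≤ c * q s := by
      intro c
      induction c with
      | zero => intro _; simpa using hlow
      | succ c ih =>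
        intro hc
        obtain ⟨a, b, w, hS'⟩ := hseq M hM
        have h1 := h0Tw_le_add hS' (isCoh_tw (isCoh_G i hM.1 hF) (-1)) (isCoh_G i hM.1 hF)
          (isCoh_G i hM.1 hC) (j₀ + (c + 1 : ℕ))
        have h2 : h0Tw (twF (NumTriv.G i F M) (-1)) (j₀ + (c + 1 : ℕ)) =
            h0Tw (NumTriv.G i F M) (j₀ + c) :=
          finrank_iso (twTw (NumTriv.G i F M) (-1) (j₀ + (c + 1 : ℕ)) (j₀ + c) (by push_cast; ring)) 0
        have h3 := hQ M hM s (j₀ + (c + 1 : ℕ)) (by omega)
        have h4 := ih (by omega)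
        rw [h2] at h1
        rw [Nat.succ_mul]
        dsimp only at h1
        omega
    have h := key (j - j₀).toNat (by omega)
    rwa [show j₀ + ((j - j₀).toNat : ℤ) = j by omega] at h
  obtain ⟨B₁, hB₁⟩ := hh0 (m - 1)
  let K : ℕ := ((B₁ : ℤ) - c - Curv2.euler k X (Pic13.twistOn k i F (m - 1))).toNat
  obtain ⟨p, hp⟩ := hh0 (m + K)
  refine ⟨m + K, p, fun M hM hc => ⟨?_, hp M hM⟩⟩
  intro r hr _
  obtain ⟨a, b, w, hS'⟩ := hseq M hM
  rcases hr.eq_or_lt with rfl | hr2
  · refine extension_subsingleton_one a b w hS' (isCoh_G i hM.1 hF) (isCoh_G i hM.1 hC).1 (hm M hM) _ ?_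
    have hchi : (h0Tw (NumTriv.G i F M) (m - 1) : ℤ) - h1Tw (NumTriv.G i F M) (m - 1) =
        Curv2.euler k X (CohB1.tensorMod (Pic13.twistOn k i F (m - 1)) M) := by
      rw [← chi_G i hi hM.1 hF, chi_eq_of_vanishing fun q hq =>
        extension_subsingleton a b w hS' (isCoh_G i hM.1 hF) (isCoh_G i hM.1 hC).1 (hm M hM) q hq
          (m - 1) (by omega)]
    have hcst := IdealBound.euler_twist_const i hi σ hσ hS (𝟙 F) hF hM (m - 1)
    have h2 := hB₁ M hM
    have h3 := Int.self_le_toNat ((B₁ : ℤ) - c - Curv2.euler k X (Pic13.twistOn k i F (m - 1)))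
    simp only [F] at *
    have h4 : Curv2.euler k X (Pic13.twistOn k i F (m - 1)) =
        Curv2.euler k X (Pic13.twistOn k i (Coh.structureModule X) (m - 1)) := rfl
    push_cast
    omega
  · exact extension_subsingleton a b w hS' (isCoh_G i hM.1 hF) (isCoh_G i hM.1 hC).1 (hm M hM) r hr2 _
      (by omega)

include hi hσ hS in
/-- Modules trivial on the section with quadratic term bounded below form a bounded family. -/
theorem isBounded_numOn [IsAlgClosed k] (hd : topologicalKrullDim X = ((2 : ℕ) : WithBot ℕ∞)) (c : ℤ) :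
    Pic13.IsBounded k X (fun M : X.Modules => NumOn k S M ∧
      c ≤ Curv2.euler k X (CohB1.tensorMod (Coh.structureModule X) (CohB1.tensorMod M M)) -
        2 * Curv2.euler k X (CohB1.tensorMod (Coh.structureModule X) M) +
        Curv2.euler k X (Coh.structureModule X)) := by
  haveI := EulerChar.isNoetherian k (X := X)
  have hO := ProperFin.isCoh_structureModule X
  have hd' : topologicalKrullDim ↥(CohB1.support (Coh.structureModule X)) ≤ ((2 : ℕ) : WithBot ℕ∞) :=
    EulerChar.dim_support_le hd.le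
  obtain ⟨B, hB⟩ := IdealBound.exists_bound i hi σ hσ hS (d := 0) hd (𝟙 _) hO
  obtain ⟨m, p, hreg⟩ := exists_regular i hi σ hσ hS (d := 0) hd (c - B)
  refine isBounded_regular i m p fun M ⟨hM, hc⟩ => ?_
  obtain ⟨M', hM', ⟨e⟩⟩ := PicLaw.exists_inverse hM.1
  let e' := tensComm M' M ≪≫ e
  have h1 := hB M' (numOn_inverse hM hM' e')
  -- `χ(M) + χ(M⁻¹) = 2 χ(O) + quad`
  have key := Quad.quad_tens (k := k) hM.1 hM' hO hd'
  rw [Quad.quad_kcl hM.1 (isCoh_tens k hM' hO), Quad.quad_kcl hM.1 hO] at key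
  let c3 : CohB1.tensorMod (CohB1.tensorMod (Coh.structureModule X) M') M ≅ Coh.structureModule X :=
    tensAssoc _ M' M ≪≫ tensCongr (Iso.refl _) e' ≪≫ tensOne _
  let c4 : CohB1.tensorMod (CohB1.tensorMod (Coh.structureModule X) M') (CohB1.tensorMod M M) ≅
      CohB1.tensorMod (Coh.structureModule X) M :=
    (tensAssoc _ M M).symm ≪≫ tensCongr c3 (Iso.refl M)
  rw [EulerChar.euler_iso k c3, EulerChar.euler_iso k c4] at key
  obtain ⟨hr, hp⟩ := hreg M hM (by omega)
  haveI := (isCoh_tens k hM.1 hO).1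
  let eM : CohB1.tensorMod (Coh.structureModule X) M ≅ M := oneTens M
  have hMc : Coh.IsCoh M := CohDev.isCoh_of_iso eM (isCoh_tens k hM.1 hO)
  haveI := hMc.1
  have hG : Coh.IsCoh ((Coh.push i).obj M) := ProperFin.isCoh_push_of_isFinite i M hMc
  have hr' : Curv2.IsMRegular k n ((Coh.push i).obj M) m := fun q hq hqn =>
    @subsingleton_of_iso _ _ _ _ _
      ((twFun n k (m - q)).mapIso ((Coh.push i).mapIso eM)) q (hr q hq hqn)
  refine ⟨hMc, CMReg.isMRegular_of_push i hr', _, hp, ?_⟩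
  rw [← EulerFam.h0Tw_eq_chi hG hr']
  exact_mod_cast finrank_iso ((twFun n k m).mapIso ((Coh.push i).mapIso eM)) 0

end Groth.Agent.NumTriv.SurfBdd
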