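import Groth.Agent.NumTriv.IndexThm
import Groth.Agent.NumTriv.SurfBdd
import Groth.Agent.NumTriv.AmpleBdd
import Groth.Agent.NumTriv.AmpleIff
import Groth.Agent.BigVol.Basic

/-!
# Finitely many numerical classes of given degree with self-intersection bounded below

The classes `D` with `(D · A^{r-1}) = 0` and `(D² · A^{r-2}) ≥ -c` on an integral projective scheme of
dimension `r ≥ 2` over an infinite field are finitely many modulo numerical equivalence.
-/

set_option autoImplicit false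

universe u

open CategoryTheory CategoryTheory.Limits AlgebraicGeometry TopologicalSpace

set_option linter.style.haveILetI false

noncomputable section

namespace Groth.Agent.NumTriv.FinCl

open ProjTwist ProjTwist.Pn OnSet NefPos IntProd70 IndexThm AmpleBdd

variable (k : Type u) [Field k] {X : Scheme.{u}} [X.Over (Spec (CommRingCat.of k))]

/-- The same degrees on all curves. -/
def SameDeg (D E : X.Modules) : Prop :=
  ∀ F : X.Modules, Coh.IsCoh F → topologicalKrullDim ↥(CohB1.support F) ≤ ((1 : ℕ) : WithBot ℕ∞) →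
    deg1 k F D = deg1 k F E

/-- Finitely many classes for the degrees on curves. -/
def HasFinCl (P : X.Modules → Prop) : Prop :=
  ∃ (ι : Type u) (_ : Finite ι) (cl : X.Modules → ι), ∀ D E, P D → P E → cl D = cl E → SameDeg k D E

variable {k}

theorem hasFinCl_mono {P Q : X.Modules → Prop} (h : ∀ D, P D → Q D) (hQ : HasFinCl k Q) : HasFinCl k P :=
  let ⟨ι, hι, cl, hcl⟩ := hQ
  ⟨ι, hι, cl, fun D E hD hE e => hcl D E (h D hD) (h E hE) e⟩

variable [IsProper (X ↘ Spec (CommRingCat.of k))]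

theorem num1_of_sameDeg {D E E' : X.Modules} (hD : PicF.IsInvertible D) (hE : PicF.IsInvertible E)
    (hE' : PicF.IsInvertible E') (e : CohB1.tensorMod E E' ≅ Coh.structureModule X) (h : SameDeg k D E) :
    Num1 k (CohB1.tensorMod D E') :=
  ⟨AmpleLib.isInvertible_tensorMod hD hE', fun F hF hd =>
    (numOn_quot (S := Set.univ) hD hE hE' e fun G hG _ hd' => h G hG hd').2 F hF (Set.subset_univ _) hd⟩

theorem sameDeg_of_num1 {D E E' : X.Modules} (hD : PicF.IsInvertible D) (hE : PicF.IsInvertible E)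
    (hE' : PicF.IsInvertible E') (e : CohB1.tensorMod E E' ≅ Coh.structureModule X)
    (h : Num1 k (CohB1.tensorMod D E')) : SameDeg k D E :=
  fun _ hF hd => deg1_of_quot hD hE hE' e h hF hd

/-- Classes pulled back along a map detecting numerical triviality. -/
theorem hasFinCl_of_detect {K : Type u} [Field K] {Y : Scheme.{u}} [Y.Over (Spec (CommRingCat.of K))]
    [IsProper (Y ↘ Spec (CommRingCat.of K))] (p : Y ⟶ X)
    (hdet : ∀ D : X.Modules, PicF.IsInvertible D → Num1 K ((Scheme.Modules.pullback p).obj D) → Num1 k D)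
    {P : X.Modules → Prop} (hP : ∀ D, P D → PicF.IsInvertible D) {Q : Y.Modules → Prop}
    (hPQ : ∀ D, P D → Q ((Scheme.Modules.pullback p).obj D)) (hQ : HasFinCl K Q) : HasFinCl k P := by
  obtain ⟨ι, hι, cl, hcl⟩ := hQ
  refine ⟨ι, hι, fun D => cl ((Scheme.Modules.pullback p).obj D), fun D E hD hE e => ?_⟩
  obtain ⟨E', hE', ⟨eE⟩⟩ := PicLaw.exists_inverse (hP E hE)
  refine sameDeg_of_num1 (hP D hD) (hP E hE) hE' eE (hdet _ (AmpleLib.isInvertible_tensorMod (hP D hD) hE') ?_)
  have h := num1_of_sameDeg (PicCl.isInvertible_pullback p (hP D hD)) (PicCl.isInvertible_pullback p (hP E hE))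
    (PicCl.isInvertible_pullback p hE')
    ((KFlat.PullTensor.pullTensorIso p E E').symm ≪≫ (Scheme.Modules.pullback p).mapIso eE ≪≫
      QCoh.pullbackUnitIso p) (hcl _ _ (hPQ D hD) (hPQ E hE) e)
  exact num1_iso K (KFlat.PullTensor.pullTensorIso p D E').symm
    (PicCl.isInvertible_pullback p (AmpleLib.isInvertible_tensorMod (hP D hD) hE')) h

/-- Powers add. -/
theorem nonempty_pow_add (A : X.Modules) (a : ℕ) : ∀ b : ℕ,
    Nonempty (CohB1.tensorPow A (a + b) ≅ CohB1.tensorMod (CohB1.tensorPow A a) (CohB1.tensorPow A b))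
  | 0 => ⟨(tensOne (CohB1.tensorPow A a)).symm⟩
  | b + 1 => by
    obtain ⟨e⟩ := nonempty_pow_add A a b
    let P := CohB1.tensorPow A a
    let Q := CohB1.tensorPow A b
    exact ⟨(tensCongr e (Iso.refl A) ≪≫ tensAssoc P Q A :
      CohB1.tensorMod (CohB1.tensorPow A (a + b)) A ≅ CohB1.tensorMod P (CohB1.tensorMod Q A))⟩

/-- Numerical triviality descends along a field extension. -/
theorem num1_descend {K : Type u} [Field K] [Algebra k K] {Z : Scheme.{u}} [Z.Over (Spec (CommRingCat.of K))]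
    [IsProper (Z ↘ Spec (CommRingCat.of K))] (p : Z ⟶ X)
    (H : IsPullback p (Z ↘ Spec (CommRingCat.of K)) (X ↘ Spec (CommRingCat.of k))
      (Spec.map (CommRingCat.ofHom (algebraMap k K))))
    {D : X.Modules} (hD : PicF.IsInvertible D) (h : Num1 K ((Scheme.Modules.pullback p).obj D)) :
    Num1 k D := by
  haveI := EulerChar.isNoetherian k (X := X)
  haveI := EulerChar.isNoetherian K (X := Z)
  refine ⟨hD, fun F hF _ => ?_⟩
  have hFK : Coh.IsCoh ((Scheme.Modules.pullback p).obj F) := ZClosLib.CohDescent.isCoh_pullback p F hF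
  have h' := (EulerChar.euler_iso K (KFlat.PullTensor.pullTensorIso p F D)).trans
    (AnyField.euler_tens_eq' (k := K) hFK h)
  have b₁ := BigVol.FieldPoint.euler_baseChange (X ↘ Spec (CommRingCat.of k)) p
    (Z ↘ Spec (CommRingCat.of K)) H _ (isCoh_tens k hD hF)
  have b₂ := BigVol.FieldPoint.euler_baseChange (X ↘ Spec (CommRingCat.of k)) p
    (Z ↘ Spec (CommRingCat.of K)) H F hF
  exact b₁.symm.trans (h'.trans b₂)

/-- Modules with `A^N ⊗ L^{±1}` ample, for the powers of another polarisation. -/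
theorem amp_of_ample {n : ℕ} (i : X ⟶ CohB1.ProjSpace n k) {A : X.Modules} (hA : CohB1.IsAmple A)
    {a : ℕ} (ha : 0 < a) (eA : CohB1.tensorPow A a ≅ oX i 1) (N : ℕ) {L : X.Modules}
    (hL : CohB1.IsAmple (CohB1.tensorMod (CohB1.tensorPow A N) L)) :
    CohB1.IsAmple (CohB1.tensorMod (oX i (N : ℤ)) L) := by
  haveI : CompactSpace X := EulerChar.compactSpace k
  obtain ⟨e₁⟩ := nonempty_oX_pow i N
  obtain ⟨e₂⟩ := BigVol.nonempty_pow_mul hA.1 a N
  obtain ⟨b, rfl⟩ : ∃ b, a = b + 1 := ⟨a - 1, by omega⟩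
  obtain ⟨e₃⟩ := nonempty_pow_add A (b * N) N
  let T := CohB1.tensorPow A (b * N)
  let S := CohB1.tensorPow A N
  let eO : CohB1.tensorMod T S ≅ oX i (N : ℤ) :=
    e₃.symm ≪≫ eqToIso (by rw [add_mul, one_mul]) ≪≫ e₂.symm ≪≫ powMap eA N ≪≫ e₁
  refine Props.AmpleFrames.isAmple_of_iso ((tensAssoc T S L).symm ≪≫ tensCongr eO (Iso.refl L)) ?_
  rcases Nat.eq_zero_or_pos (b * N) with h0 | hpos
  · refine Props.AmpleFrames.isAmple_of_iso ?_ hL
    exact (oneTens (CohB1.tensorMod S L)).symm ≪≫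
      tensCongr (eqToIso (show Coh.structureModule X = T by show _ = CohB1.tensorPow A (b * N); rw [h0]; rfl))
        (Iso.refl _)
  · exact isAmple_tens ((AmpleLib.isAmple_tensorPow_iff hA.1 hpos).2 hA) hL

/-- Finitely many classes of modules between ample translates, over an algebraically closed field. -/
theorem hasFinCl_ample_algClosed [IsAlgClosed k] {A : X.Modules} (hA : CohB1.IsAmple A) (N : ℕ) :
    HasFinCl k (fun L : X.Modules => PicF.IsInvertible L ∧ ∃ L' : X.Modules, PicF.IsInvertible L' ∧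
      Nonempty (CohB1.tensorMod L L' ≅ Coh.structureModule X) ∧
      CohB1.IsAmple (CohB1.tensorMod (CohB1.tensorPow A N) L) ∧
      CohB1.IsAmple (CohB1.tensorMod (CohB1.tensorPow A N) L')) := by
  classical
  haveI := EulerChar.isNoetherian k (X := X)
  obtain ⟨C, hCfin, hCcl, hCirr, hCU⟩ :=
    TopologicalSpace.NoetherianSpace.exists_finite_set_isClosed_irreducible (isClosed_univ (X := X))
  haveI : Finite C := hCfin.to_subtype
  have hgen : ∀ Z : C, ∃ x : X, closure ({x} : Set X) = Z.1 := fun Z =>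
    QuasiSober.sober (hCirr _ Z.2) (hCcl _ Z.2) |>.imp fun x hx => hx.def
  choose x hx using hgen
  let W : C → Scheme.{u} := fun Z => (IntMult.ptIdeal (x Z)).subscheme
  let j : ∀ Z : C, W Z ⟶ X := fun Z => (IntMult.ptIdeal (x Z)).subschemeι
  letI : ∀ Z, (W Z).Over (Spec (CommRingCat.of k)) := fun Z => ⟨j Z ≫ (X ↘ Spec (CommRingCat.of k))⟩
  haveI : ∀ Z, IsProper (W Z ↘ Spec (CommRingCat.of k)) := fun Z =>
    inferInstanceAs (IsProper (j Z ≫ (X ↘ Spec (CommRingCat.of k))))
  haveI : ∀ Z, IsIntegral (W Z) := fun Z =>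
    S16188.isIntegral_subscheme _ isIrreducible_singleton.closure
  let Pb := fun Z : C => Scheme.Modules.pullback (j Z)
  have hAW : ∀ Z, CohB1.IsAmple ((Pb Z).obj A) := fun Z =>
    AmpleLib.isAmple_pullback_of_qaMor (j Z) (AmpleFam.Pullback.qaMor_of_isAffineHom (j Z)) hA
  choose a m i ha hic hi he using fun Z => Section.exists_embedding_pow (k := k) (hAW Z)
  haveI := hic
  have hbZ : ∀ Z, Pic13.IsBounded k (W Z) (fun L => Amp (i Z) N L) := fun Z =>
    isBounded_amp _ (i Z) (hi Z) ((Hodge.dim_ptIdeal (x Z)).trans (Wall.dim_closure k (x Z))) N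
  choose κ hκ Cl hcov hpair using fun Z => exists_algClasses_of_isBounded (hbZ Z) fun L hL => hL.1
  haveI := hκ
  have hamp : ∀ (Z : C) (L : X.Modules), (PicF.IsInvertible L ∧ ∃ L' : X.Modules, PicF.IsInvertible L' ∧
      Nonempty (CohB1.tensorMod L L' ≅ Coh.structureModule X) ∧
      CohB1.IsAmple (CohB1.tensorMod (CohB1.tensorPow A N) L) ∧
      CohB1.IsAmple (CohB1.tensorMod (CohB1.tensorPow A N) L')) → Amp (i Z) N ((Pb Z).obj L) := by
    intro Z L h
    obtain ⟨hL, L', hL', ⟨e⟩, h₁, h₂⟩ := h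
    obtain ⟨eA⟩ := he Z
    have pull : ∀ {M : X.Modules}, CohB1.IsAmple (CohB1.tensorMod (CohB1.tensorPow A N) M) →
        CohB1.IsAmple (CohB1.tensorMod (oX (i Z) (N : ℤ)) ((Pb Z).obj M)) := fun {M} hM => by
      obtain ⟨ep⟩ := EulerFam.pullback_tensorPow (j Z) A N
      exact amp_of_ample (i Z) (hAW Z) (ha Z) eA N (Props.AmpleFrames.isAmple_of_iso
        (KFlat.PullTensor.pullTensorIso (j Z) (CohB1.tensorPow A N) M ≪≫ tensCongr ep (Iso.refl _))
        (AmpleLib.isAmple_pullback_of_qaMor (j Z) (AmpleFam.Pullback.qaMor_of_isAffineHom (j Z)) hM))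
    exact ⟨PicCl.isInvertible_pullback _ hL, (Pb Z).obj L', PicCl.isInvertible_pullback _ hL',
      ⟨(KFlat.PullTensor.pullTensorIso (j Z) L L').symm ≪≫ (Pb Z).mapIso e ≪≫ QCoh.pullbackUnitIso (j Z)⟩,
      pull h₁, pull h₂⟩
  let cl : X.Modules → ∀ Z, Option (κ Z) := fun L Z =>
    if h : Amp (i Z) N ((Pb Z).obj L) then some (hcov Z _ h).choose else none
  refine ⟨∀ Z, Option (κ Z), inferInstance, cl, fun L M hL hM e F hF hdF => ?_⟩
  refine deg1_eq (S := Set.univ) hL.1 hM.1 (fun y _ hy1 => ?_) hF (Set.subset_univ _) hdF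
  obtain ⟨Z, hZ, hyZ⟩ : ∃ Z, Z ∈ C ∧ y ∈ Z := by
    have h : y ∈ ⋃₀ C := hCU ▸ Set.mem_univ y
    exact h
  have haL := hamp ⟨Z, hZ⟩ L hL
  have haM := hamp ⟨Z, hZ⟩ M hM
  have e' := congrFun e ⟨Z, hZ⟩
  simp only [cl, dif_pos haL, dif_pos haM, Option.some.injEq] at e'
  obtain ⟨hMi, N', hN', hNalg, ⟨g⟩⟩ := hpair ⟨Z, hZ⟩ _ _ _ (hcov ⟨Z, hZ⟩ _ haL).choose_spec
    (e'.symm ▸ (hcov ⟨Z, hZ⟩ _ haM).choose_spec)
  obtain ⟨M', hM', ⟨eM⟩⟩ := PicLaw.exists_inverse hM.1
  have hN1 : Num1 k N' := num1_of_isTauEquivZero k hN'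
    ⟨1, one_pos, EulerFam.isAlgEquivZero_of_iso (oneTens N').symm hNalg⟩
  have hq : Num1 k ((Pb ⟨Z, hZ⟩).obj (CohB1.tensorMod L M')) := by
    refine num1_iso k ?_ (PicCl.isInvertible_pullback _ (AmpleLib.isInvertible_tensorMod hL.1 hM')) hN1
    exact (oneTens N').symm ≪≫ tensCongr ((QCoh.pullbackUnitIso (j ⟨Z, hZ⟩)).symm ≪≫
        (Scheme.Modules.pullback _).mapIso (eM.symm ≪≫ tensComm M M') ≪≫
        KFlat.PullTensor.pullTensorIso _ M' M) (Iso.refl N') ≪≫
      tensAssoc _ _ _ ≪≫ tensComm _ _ ≪≫ tensCongr g.symm (Iso.refl _) ≪≫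
      (KFlat.PullTensor.pullTensorIso _ L M').symm
  have hNO := Hodge.numOn_range (j ⟨Z, hZ⟩) rfl (AmpleLib.isInvertible_tensorMod hL.1 hM') hq
  have hyr : closure ({y} : Set X) ⊆ Set.range (j ⟨Z, hZ⟩).base := by
    rw [show Set.range (j ⟨Z, hZ⟩).base = closure ({x ⟨Z, hZ⟩} : Set X) from
      (IntMult.ptIdeal (x ⟨Z, hZ⟩)).range_subschemeι.trans (CohDev.coe_support_ptIdeal _), hx]
    exact closure_minimal (Set.singleton_subset_iff.2 hyZ) (hCcl _ hZ)
  have hdy := (CohDev.dim_mono (CohDev.support_oz_subset y)).trans hy1.le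
  have h1 : deg1 k (Cyc.closureStructureSheaf y) (CohB1.tensorMod L M') = 0 :=
    sub_eq_zero.2 (hNO.2 _ (CohDev.isCoh_oz y) ((CohDev.support_oz_subset y).trans hyr) hdy)
  have h0 : deg1 k (Cyc.closureStructureSheaf y) M + deg1 k (Cyc.closureStructureSheaf y) M' = 0 := by
    rw [← deg1_tens k (CohDev.isCoh_oz y) hdy hM.1 hM', deg1_iso k _ eM, deg1_one]
  rw [deg1_tens k (CohDev.isCoh_oz y) hdy hL.1 hM'] at h1
  omega

/-- Finitely many classes of modules between ample translates, over any field. -/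
theorem hasFinCl_amp {n : ℕ} (i : X ⟶ CohB1.ProjSpace n k) [IsClosedImmersion i] (N : ℕ) :
    HasFinCl k (fun L : X.Modules => Amp i N L) := by
  haveI := EulerChar.isNoetherian k (X := X)
  let K := AlgebraicClosure k
  let g := Spec.map (CommRingCat.ofHom (algebraMap k K))
  let Z := pullback (X ↘ Spec (CommRingCat.of k)) g
  let p : Z ⟶ X := pullback.fst _ _
  letI : Z.Over (Spec (CommRingCat.of K)) := ⟨pullback.snd _ _⟩
  haveI : IsProper (Z ↘ Spec (CommRingCat.of K)) :=
    inferInstanceAs (IsProper (pullback.snd (X ↘ Spec (CommRingCat.of k)) g))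
  haveI : IsAffineHom g := isAffineHom_of_isAffine _
  haveI : IsAffineHom p := MorphismProperty.pullback_fst _ _ inferInstance
  haveI : CompactSpace Z := EulerChar.compactSpace K
  let A := oX i 1
  have hA : CohB1.IsAmple ((Scheme.Modules.pullback p).obj A) :=
    AmpleLib.isAmple_pullback_of_qaMor p (AmpleFam.Pullback.qaMor_of_isAffineHom p) (isAmple_oX_one i)
  refine hasFinCl_of_detect (K := K) p
    (fun D hD h => num1_descend (K := K) p (IsPullback.of_hasPullback _ g) hD h)
    (fun D hD => hD.1) (fun L hL => ?_) (hasFinCl_ample_algClosed hA N)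
  obtain ⟨hL1, L', hL', ⟨e⟩, h₁, h₂⟩ := hL
  have pull : ∀ {M : X.Modules}, CohB1.IsAmple (CohB1.tensorMod (oX i (N : ℤ)) M) →
      CohB1.IsAmple (CohB1.tensorMod (CohB1.tensorPow ((Scheme.Modules.pullback p).obj A) N)
        ((Scheme.Modules.pullback p).obj M)) := fun {M} hM => by
    obtain ⟨eN⟩ := nonempty_oX_pow i N
    obtain ⟨ep⟩ := EulerFam.pullback_tensorPow p A N
    exact Props.AmpleFrames.isAmple_of_iso
      (KFlat.PullTensor.pullTensorIso p (oX i (N : ℤ)) M ≪≫
        tensCongr ((Scheme.Modules.pullback p).mapIso eN.symm ≪≫ ep) (Iso.refl _))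
      (AmpleLib.isAmple_pullback_of_qaMor p (AmpleFam.Pullback.qaMor_of_isAffineHom p) hM)
  exact ⟨PicCl.isInvertible_pullback p hL1, (Scheme.Modules.pullback p).obj L',
    PicCl.isInvertible_pullback p hL', ⟨(KFlat.PullTensor.pullTensorIso p L L').symm ≪≫
      (Scheme.Modules.pullback p).mapIso e ≪≫ QCoh.pullbackUnitIso p⟩, pull h₁, pull h₂⟩

section
variable [Infinite k] [IsIntegral X] {n : ℕ} (i : X ⟶ CohB1.ProjSpace n k) [IsClosedImmersion i]
  (hi : i ≫ CohB1.ProjSpace.toSpec n k = X ↘ Spec (CommRingCat.of k))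
  (σ : oX i (-1) ⟶ Coh.structureModule X) (hσ : σ ≠ 0) {S : Set X}
  (hS : CohB1.support (cokernel σ) ⊆ S)

include hi hσ hS in
/-- On a surface, bounded square gives bounded position between ample translates. -/
theorem exists_amp (hd : topologicalKrullDim X = ((2 : ℕ) : WithBot ℕ∞)) (c : ℤ) :
    ∃ N : ℕ, ∀ M : X.Modules, NumOn k S M →
      c ≤ iC k [M, M] (Coh.structureModule X) → Amp i N M := by
  haveI := EulerChar.isNoetherian k (X := X)
  haveI := isLocallyNoetherian_projSpace n k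
  have hO := ProperFin.isCoh_structureModule X
  have hd' : topologicalKrullDim ↥(CohB1.support (Coh.structureModule X)) ≤ ((2 : ℕ) : WithBot ℕ∞) :=
    EulerChar.dim_support_le hd.le
  obtain ⟨B, hB⟩ := IdealBound.exists_bound i hi σ hσ hS (d := 0) hd (𝟙 _) hO
  obtain ⟨m, p, hreg⟩ := SurfBdd.exists_regular i hi σ hσ hS (d := 0) hd (c - B)
  let N₀ : ℕ := m.toNat
  have amp : ∀ M : X.Modules, NumOn k S M →
      c - B ≤ Curv2.euler k X (CohB1.tensorMod (Coh.structureModule X) M) -
        Curv2.euler k X (Coh.structureModule X) →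
      CohB1.IsAmple (CohB1.tensorMod (oX i ((N₀ + 1 : ℕ) : ℤ)) M) := fun M hM hc => by
    have hMc : Coh.IsCoh M := VBLib.isCoh_of_ofRank (ProjTwist.isFinLocFreeOfRank_one hM.1)
    haveI := hMc.1
    have hG0 := isCoh_G i hM.1 hO
    let eM : CohB1.tensorMod (Coh.structureModule X) M ≅ M := oneTens M
    have hr := (hreg M hM hc).1
    have hr1 : Curv2.IsMRegular k n ((Coh.push i).obj M) m := fun q hq hqn =>
      @subsingleton_of_iso _ _ _ _ _
        ((twFun n k (m - q)).mapIso ((Coh.push i).mapIso eM)) q (hr q hq hqn)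
    have hG : Coh.IsCoh ((Coh.push i).obj M) := ProperFin.isCoh_push_of_isFinite i M hMc
    have hr2 := isMRegular_of_le hG.1 hr1 (Int.self_le_toNat m)
    have hgg : Curv2.IsGloballyGenerated (CohB1.tensorMod M (oX i (N₀ : ℤ))) :=
      CMReg.isGloballyGenerated_iso (Iso.refl _) (CMReg.isGloballyGenerated_twistOn i _ (N₀ : ℤ)
        (isGloballyGenerated_of_isMRegular hG hr2))
    obtain ⟨e⟩ := nonempty_oX_add i 1 (N₀ : ℤ) ((N₀ + 1 : ℕ) : ℤ) (by push_cast; ring)
    let U := oX i 1
    let V := oX i (N₀ : ℤ)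
    refine Props.AmpleFrames.isAmple_of_iso ?_ (isAmple_tens_gg (isAmple_oX_one i)
      (AmpleLib.isInvertible_tensorMod hM.1 (isInvertible_oX i (N₀ : ℤ))) hgg)
    exact tensCongr (Iso.refl U) (tensComm M V) ≪≫ (tensAssoc U V M).symm ≪≫ tensCongr e (Iso.refl M)
  refine ⟨N₀ + 1, fun M hM hc => ?_⟩
  obtain ⟨M', hM', ⟨e⟩⟩ := PicLaw.exists_inverse hM.1
  let e' := tensComm M' M ≪≫ e
  have hMS' := numOn_inverse hM hM' e'
  have h1 := hB M' hMS'
  have h2 := hB M hM
  -- `χ(M) + χ(M⁻¹) = 2 χ(O) + quad`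
  have key := Quad.quad_tens (k := k) hM.1 hM' hO hd'
  rw [Quad.quad_kcl hM.1 (isCoh_tens k hM' hO), Quad.quad_kcl hM.1 hO] at key
  let c3 : CohB1.tensorMod (CohB1.tensorMod (Coh.structureModule X) M') M ≅ Coh.structureModule X :=
    tensAssoc _ M' M ≪≫ tensCongr (Iso.refl _) e' ≪≫ tensOne _
  let c4 : CohB1.tensorMod (CohB1.tensorMod (Coh.structureModule X) M') (CohB1.tensorMod M M) ≅
      CohB1.tensorMod (Coh.structureModule X) M :=
    (tensAssoc _ M M).symm ≪≫ tensCongr c3 (Iso.refl M)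
  rw [EulerChar.euler_iso k c3, EulerChar.euler_iso k c4] at key
  simp only [iC_cons, iC_nil] at hc
  have e₁ : CohB1.tensorMod M (CohB1.tensorMod M (Coh.structureModule X)) ≅
      CohB1.tensorMod (Coh.structureModule X) (CohB1.tensorMod M M) :=
    tensCongr (Iso.refl M) (tensOne M) ≪≫ (oneTens (CohB1.tensorMod M M)).symm
  rw [EulerChar.euler_iso k e₁, EulerChar.euler_iso k (tensComm M (Coh.structureModule X))] at hc
  exact ⟨hM.1, M', hM', ⟨e⟩, amp M hM (by omega), amp M' hMS' (by omega)⟩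

end

/-- The statement in dimension `s + 2`. -/
def Fin2 (s : ℕ) : Prop :=
  ∀ (k : Type u) [Field k] [Infinite k] (X : Scheme.{u}) [X.Over (Spec (CommRingCat.of k))]
    [IsProper (X ↘ Spec (CommRingCat.of k))] [IsIntegral X] (A : X.Modules) (c : ℤ),
    CohB1.IsAmple A → topologicalKrullDim X = ((s + 2 : ℕ) : WithBot ℕ∞) →
    HasFinCl k (fun D : X.Modules => PicF.IsInvertible D ∧
      iC k (D :: List.replicate (s + 1) A) (Coh.structureModule X) = 0 ∧
      -c ≤ iC k (D :: D :: List.replicate s A) (Coh.structureModule X))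

set_option maxHeartbeats 1000000 in
/-- Finitely many classes. -/
theorem finCl : ∀ s : ℕ, Fin2.{u} s := by
  intro s
  induction s using Nat.strong_induction_on with
  | _ s IH =>
  intro k _ _ X _ _ _ A c hA hd
  haveI := EulerChar.isNoetherian k (X := X)
  haveI : CompactSpace X := EulerChar.compactSpace k
  obtain ⟨q, hgg⟩ := BigVol.SemiAmple.exists_gg_of_isAmple k hA
  set B := CohB1.tensorPow A (q + 1) with hBdef
  have hB : CohB1.IsAmple B := (AmpleLib.isAmple_tensorPow_iff hA.1 (Nat.succ_pos q)).2 hA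
  have hO := ProperFin.isCoh_structureModule X
  have hdO : topologicalKrullDim ↥(CohB1.support (Coh.structureModule X)) ≤ ((s + 2 : ℕ) : WithBot ℕ∞) :=
    EulerChar.dim_support_le hd.le
  obtain ⟨n, σ, hσ⟩ := exists_gens k hB.1 hgg
  let K := GenForm.K k n
  let r := X ↘ Spec (CommRingCat.of k)
  let X' := GenHyp.XK k n r
  let p : X' ⟶ X := GenHyp.pX k n r
  letI : X'.Over (Spec (CommRingCat.of K)) := ⟨GenHyp.qX k n r⟩
  haveI : IsProper (X' ↘ Spec (CommRingCat.of K)) :=
    inferInstanceAs (IsProper (pullback.snd r (GenHyp.g k n)))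
  haveI : IsIntegral X' := GenHyp.isIntegral_XK k n r B σ hσ
  haveI : Infinite K := Infinite.of_injective (algebraMap k K) (algebraMap k K).injective
  haveI : CompactSpace X' := EulerChar.compactSpace K
  haveI := EulerChar.isNoetherian K (X := X')
  have hd' : topologicalKrullDim X' = ((s + 2 : ℕ) : WithBot ℕ∞) := (GenHyp.dim_XK k n r).trans hd
  have hsq : IsPullback p (X' ↘ Spec (CommRingCat.of K)) (X ↘ Spec (CommRingCat.of k))
      (Spec.map (CommRingCat.ofHom (algebraMap k K))) := IsPullback.of_hasPullback _ _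
  let P := Scheme.Modules.pullback p
  let B' := P.obj B
  have hB' : CohB1.IsAmple B' :=
    AmpleLib.isAmple_pullback_of_qaMor p (AmpleFam.Pullback.qaMor_of_isAffineHom p) hB
  have hO' := ProperFin.isCoh_structureModule X'
  have bc : ∀ l : List X.Modules, (∀ C ∈ l, PicF.IsInvertible C) →
      iC K (l.map P.obj) (Coh.structureModule X') = iC k l (Coh.structureModule X) := fun l hl =>
    (iC_iso K _ (QCoh.pullbackUnitIso p)).symm.trans (iC_baseChange p hsq l hl _ hO)
  -- the hyperplane section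
  let s' := GenHyp.sH k n r B σ
  obtain ⟨η, -, hη⟩ := GenHyp.exists_generic_XK k n r B σ hσ
  have hηs : η ∈ CohB1.genLocus _ s' := not_not.1 hη
  haveI : Mono s' := mono_of_genLocus hB'.1 s' hηs
  let ψ : Coh.structureModule X' ⟶ CohB1.tensorMod B' (Coh.structureModule X') :=
    s' ≫ (tensComm B' (Coh.structureModule X') ≪≫ oneTens B').inv
  haveI : Mono ψ := mono_comp _ _
  have hT := Snapper.isCoh_tensorMod K hB'.1 hO'
  have hQ : Coh.IsCoh (cokernel ψ) := CohDev.isCoh_cokernel ψ hO'.1 hT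
  let Z := GenHyp.zset k n r B σ
  have hs'Z : CohB1.support (cokernel s') ⊆ Z := fun y hy hgen =>
    CohDev.not_mem_support_cokernel s' (HilbPolyX.stalk_sec_bijective s' hgen).2 hy
  have hsupp : CohB1.support (cokernel ψ) ⊆ Z := fun y hy =>
    hs'Z (CohDev.support_subset_of_epi (cokernelCompIsIso s' _).inv hy)
  have hZd : ∀ T : Set X', IsClosed T → T ⊆ Z →
      topologicalKrullDim ↥T ≤ ((s + 1 : ℕ) : WithBot ℕ∞) := fun T hT hTZ =>
    Snapper.le_of_lt_succ (CohDev.dim_lt_of_irreducible hT (IrreducibleSpace.isIrreducible_univ X')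
      (Set.subset_univ _) (fun h => hη (hTZ (h (Set.mem_univ η))))
      ((IsHomeomorph.topologicalKrullDim_eq _ (Homeomorph.Set.univ X').isHomeomorph).trans hd').le)
  have hQd := hZd _ (CohDev.isClosed_support hQ) hsupp
  have hcut : ∀ l : List X'.Modules, (∀ C ∈ l, PicF.IsInvertible C) →
      iC K (B' :: l) (Coh.structureModule X') = iC K l (cokernel ψ) := fun l hl =>
    iC_cons_mono K (l := l) hl hB'.1 hO' ψ hQ
  have hrep : ∀ j, ∀ C ∈ List.replicate j B', PicF.IsInvertible C := fun j C hC =>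
    (List.eq_of_mem_replicate hC) ▸ hB'.1
  have hpos : 0 < iC K (List.replicate (s + 2) B') (Coh.structureModule X') := by
    have h := pos_ample K hB' B' hd' (dim_support_structure hd')
    simpa [Dfun, word] using h
  rw [List.replicate_succ, hcut _ (hrep _)] at hpos
  obtain ⟨y, hy, hyd, -⟩ := SecRank.exists_piece K (hrep (s + 1)) hQ (by simpa using hQd) hpos.ne'
  rw [List.length_replicate] at hyd
  obtain ⟨ζ, hZ⟩ : ∃ ζ, Z = closure {ζ} := by
    rcases GenHyp.zset_irreducible k n r B σ hσ with h | h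
    · exact absurd (hsupp hy) (by rw [show Z = ∅ from h]; exact Set.notMem_empty y)
    · exact h
  have hsub : ∀ z ∈ CohB1.support (cokernel ψ), closure ({z} : Set X') ⊆ closure {ζ} := fun z hz =>
    closure_minimal (Set.singleton_subset_iff.2 (hZ ▸ hsupp hz)) isClosed_closure
  have hζd : topologicalKrullDim ↥(closure ({ζ} : Set X')) = ((s + 1 : ℕ) : WithBot ℕ∞) :=
    le_antisymm (hZd _ isClosed_closure (by rw [hZ])) (hyd ▸ CohDev.dim_mono (hsub y hy))
  have huniq : ∀ z ∈ CohB1.support (cokernel ψ),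
      topologicalKrullDim ↥(closure ({z} : Set X')) = ((s + 1 : ℕ) : WithBot ℕ∞) → z = ζ := by
    intro z hz hzd
    by_contra hne
    refine absurd (CohDev.dim_lt_of_irreducible isClosed_closure isIrreducible_singleton.closure
      (hsub z hz) (fun h => hne ?_) hζd.le) (by rw [hzd]; exact lt_irrefl _)
    exact ((specializes_iff_mem_closure.2 (h (subset_closure rfl))).antisymm
      (specializes_iff_mem_closure.2 (hsub z hz (subset_closure rfl)))).eq
  obtain ⟨m, hm⟩ := exists_mult K hQ hQd ζ huniq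
  have hm0 : 0 < (m : ℤ) := lt_of_le_of_ne (Int.natCast_nonneg m) fun h0 =>
    hpos.ne' (by rw [hm _ (hrep _) (by simp), ← h0, zero_mul])
  -- the numbers on `X'`
  let g : ℤ := ((q + 1 : ℕ) : ℤ)
  have num₁ : ∀ D : X.Modules, PicF.IsInvertible D →
      iC K (P.obj D :: List.replicate (s + 1) B') (Coh.structureModule X') =
        g ^ (s + 1) * iC k (D :: List.replicate (s + 1) A) (Coh.structureModule X) := fun D hD => by
    have h := bc _ (List.forall_mem_cons.2 ⟨hD, fun C hC => (List.eq_of_mem_replicate hC) ▸ hB.1⟩ :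
      ∀ C ∈ D :: List.replicate (s + 1) B, PicF.IsInvertible C)
    rw [List.map_cons, List.map_replicate] at h
    rw [h, show D :: List.replicate (s + 1) B = [D] ++ List.replicate (s + 1) B from rfl,
      iC_perm k List.perm_append_comm, hBdef,
      iC_append_pow k hA.1 (q + 1) hO (s + 1) [D] (by simpa using hD) (by simpa [add_assoc] using hdO),
      iC_perm k List.perm_append_comm]
    rfl
  have num₂ : ∀ D : X.Modules, PicF.IsInvertible D →
      iC K (P.obj D :: P.obj D :: List.replicate s B') (Coh.structureModule X') =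
        g ^ s * iC k (D :: D :: List.replicate s A) (Coh.structureModule X) := fun D hD => by
    have h := bc _ (List.forall_mem_cons.2 ⟨hD, List.forall_mem_cons.2 ⟨hD,
        fun C hC => (List.eq_of_mem_replicate hC) ▸ hB.1⟩⟩ :
      ∀ C ∈ D :: D :: List.replicate s B, PicF.IsInvertible C)
    rw [List.map_cons, List.map_cons, List.map_replicate] at h
    rw [h, show D :: D :: List.replicate s B = [D, D] ++ List.replicate s B from rfl,
      iC_perm k List.perm_append_comm, hBdef,
      iC_append_pow k hA.1 (q + 1) hO s [D, D] (by simpa using hD) (by simpa using hdO),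
      iC_perm k List.perm_append_comm]
    rfl
  have hsq' : ∀ D : X.Modules, PicF.IsInvertible D → -c ≤ iC k (D :: D :: List.replicate s A) (Coh.structureModule X) →
      -(g ^ s * |c|) ≤ iC K (P.obj D :: P.obj D :: List.replicate s B') (Coh.structureModule X') := fun D hD h => by
    rw [num₂ D hD, ← mul_neg]
    exact mul_le_mul_of_nonneg_left ((neg_le_neg (le_abs_self c)).trans h) (pow_nonneg (Int.natCast_nonneg _) _)
  have hz1 : ∀ D : X.Modules, PicF.IsInvertible D →
      iC k (D :: List.replicate (s + 1) A) (Coh.structureModule X) = 0 →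
      iC K (P.obj D :: List.replicate s B') (Cyc.closureStructureSheaf ζ) = 0 := fun D hD h => by
    have hl : ∀ C ∈ P.obj D :: List.replicate s B', PicF.IsInvertible C :=
      List.forall_mem_cons.2 ⟨PicCl.isInvertible_pullback p hD, hrep _⟩
    have h1 := num₁ D hD
    rw [h, mul_zero, List.replicate_succ, iC_perm K (List.Perm.swap _ _ _), hcut _ hl, hm _ hl (by simp)] at h1
    exact (mul_eq_zero.1 h1).resolve_left hm0.ne'
  -- the hyperplane
  obtain ⟨a, N, i, -, hic, hi, ⟨eB⟩⟩ := Section.exists_embedding_pow (k := K) hB'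
  haveI := hic
  obtain ⟨φ, hφ⟩ := Section.exists_section_pow hB'.1 s' hs'Z a
  obtain ⟨τ', hτ'⟩ := Section.exists_form i (φ ≫ eB.hom)
    ((CohDev.support_subset_of_mono (cokernelCompIsIso φ eB.hom).hom).trans hφ)
  have hτ0 : τ' ≠ 0 := fun h => hη (Hodge.univ_subset_of_eq_zero h hτ' η)
  rcases s with _ | t
  · obtain ⟨N', hN'⟩ := exists_amp i hi τ' hτ0 hτ' hd' (-(g ^ 0 * |c|))
    refine hasFinCl_of_detect p (fun D hD h => num1_descend p hsq hD h) (fun D hD => hD.1)
      (fun D hD => ?_) (hasFinCl_amp i N')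
    refine hN' _ ?_ (hsq' D hD.1 hD.2.2)
    rw [hZ]
    exact numOn_curve K (PicCl.isInvertible_pullback p hD.1) ζ hζd (hz1 D hD.1 hD.2.1)
  let I := IntMult.ptIdeal ζ
  letI : I.subscheme.Over (Spec (CommRingCat.of K)) := ⟨I.subschemeι ≫ (X' ↘ Spec (CommRingCat.of K))⟩
  haveI : IsProper (I.subscheme ↘ Spec (CommRingCat.of K)) :=
    inferInstanceAs (IsProper (I.subschemeι ≫ (X' ↘ Spec (CommRingCat.of K))))
  obtain ⟨hId, hIi, -⟩ := piece_eq K ζ hζd (hrep (t + 1 + 1)) (by simp)
  haveI := hIi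
  let J := Scheme.Modules.pullback I.subschemeι
  have hcl := IH t (Nat.lt_succ_self t) K I.subscheme (J.obj B') (g ^ (t + 1) * |c|)
    (AmpleLib.isAmple_pullback_of_qaMor I.subschemeι
      (AmpleFam.Pullback.qaMor_of_isAffineHom I.subschemeι) hB') hId
  have hdet : ∀ E : X'.Modules, PicF.IsInvertible E → Num1 K (J.obj E) → Num1 K E := fun E hE h => by
    refine Hodge.num1_of_three_le (t + 1 + 2) i hi hd' (by omega) τ' hτ' ?_
    rw [hZ]
    have h' := Hodge.numOn_range I.subschemeι rfl hE h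
    rwa [show Set.range I.subschemeι.base = closure ({ζ} : Set X') from
      I.range_subschemeι.trans (CohDev.coe_support_ptIdeal ζ)] at h'
  refine hasFinCl_of_detect p (fun D hD h => num1_descend p hsq hD h) (fun D hD => hD.1)
    (Q := fun E => ∃ D, (PicF.IsInvertible D ∧
      iC k (D :: List.replicate (t + 1 + 1) A) (Coh.structureModule X) = 0 ∧
      -c ≤ iC k (D :: D :: List.replicate (t + 1) A) (Coh.structureModule X)) ∧ E = P.obj D)
    (fun D hD => ⟨D, hD, rfl⟩) ?_
  refine hasFinCl_of_detect I.subschemeι hdet (fun E ⟨D, hD, e⟩ => e ▸ PicCl.isInvertible_pullback p hD.1)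
    (fun E ⟨D, hD, e⟩ => ?_) hcl
  subst e
  have hD' := PicCl.isInvertible_pullback p hD.1
  refine ⟨PicCl.isInvertible_pullback _ hD', ?_, ?_⟩
  · have h := hz1 D hD.1 hD.2.1
    obtain ⟨-, -, he⟩ := piece_eq K ζ hζd (List.forall_mem_cons.2 ⟨hD', hrep (t + 1)⟩) (by simp)
    rwa [he, List.map_cons, List.map_replicate] at h
  · have hl2 : ∀ C ∈ P.obj D :: P.obj D :: List.replicate t B', PicF.IsInvertible C :=
      List.forall_mem_cons.2 ⟨hD', List.forall_mem_cons.2 ⟨hD', hrep _⟩⟩
    have h2 := hsq' D hD.1 hD.2.2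
    have hp : (P.obj D :: P.obj D :: List.replicate (t + 1) B').Perm
        (B' :: P.obj D :: P.obj D :: List.replicate t B') := by
      rw [List.replicate_succ]
      exact ((List.Perm.swap _ _ _).cons _).trans (List.Perm.swap _ _ _)
    obtain ⟨-, -, he⟩ := piece_eq K ζ hζd hl2 (by simp)
    rw [iC_perm K hp, hcut _ hl2, hm _ hl2 (by simp), he, List.map_cons, List.map_cons, List.map_replicate] at h2
    have hc0 : 0 ≤ g ^ (t + 1) * |c| := mul_nonneg (pow_nonneg (Int.natCast_nonneg _) _) (abs_nonneg c)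
    nlinarith

end Groth.Agent.NumTriv.FinCl
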