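import Groth.Agent.NumTriv.AnyField
import Groth.Agent.NumTriv.Descend
import Groth.Agent.NumTriv.Section
import Groth.Agent.NumTriv.AlgTriv
import Groth.Agent.CMReg.FieldBC
import Groth.Agent.CBC.GeomRedEtale
import Groth.Agent.S7671
import Groth.Agent.S4277

/-!
# Numerically trivial modules are torsion when `H¹(O) = 0`
-/

universe u

open CategoryTheory CategoryTheory.Limits AlgebraicGeometry

set_option linter.style.haveILetI false

noncomputable section

namespace Groth.Agent.NumTriv.H1Zero

open ProjTwist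

variable {k : Type u} [Field k] {K : Type u} [Field K] [Algebra k K]

/-- Numerical triviality ascends along a field extension, projective case. -/
theorem num1_baseChange_proj {X Z : Scheme.{u}} [X.Over (Spec (CommRingCat.of k))]
    [IsProper (X ↘ Spec (CommRingCat.of k))] [Z.Over (Spec (CommRingCat.of K))]
    [IsProper (Z ↘ Spec (CommRingCat.of K))] {n : ℕ} (i : X ⟶ CohB1.ProjSpace n k) [IsClosedImmersion i]
    (p : Z ⟶ X) [IsAffineHom p] {M : X.Modules} (hM : Num1 k M) :
    Num1 K ((Scheme.Modules.pullback p).obj M) := by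
  haveI := EulerChar.compactSpace K (X := Z)
  let A := oX i 1
  have hA : CohB1.IsAmple A := isAmple_oX_one i
  obtain ⟨M', hM', ⟨e⟩⟩ := PicLaw.exists_inverse hM.1
  have hM'1 : Num1 k M' := num1_of_inverse k hM hM' (tensComm M' M ≪≫ e)
  let P := Scheme.Modules.pullback p
  have key : ∀ {N : X.Modules}, Num1 k N → ∀ m : ℕ,
      CohB1.IsAmple (CohB1.tensorMod (CohB1.tensorPow (P.obj N) m) (P.obj A)) := fun {N} hN m => by
    obtain ⟨em⟩ := EulerFam.pullback_tensorPow p N m
    exact Props.AmpleFrames.isAmple_of_iso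
      (KFlat.PullTensor.pullTensorIso p (CohB1.tensorPow N m) A ≪≫ tensCongr em (Iso.refl _))
      (AmpleLib.isAmple_pullback_of_qaMor p (AmpleFam.Pullback.qaMor_of_isAffineHom p)
        (AnyField.isAmple_twist_num1 hA hN m))
  exact num1_of_ample_translates K (H := P.obj A) (L' := P.obj M')
    (PicCl.isInvertible_pullback p hM.1) (PicCl.isInvertible_pullback p hA.1)
    (PicCl.isInvertible_pullback p hM')
    ((KFlat.PullTensor.pullTensorIso p M M').symm ≪≫ P.mapIso e ≪≫ QCoh.pullbackUnitIso p)
    (key hM) (key hM'1)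

/-- Numerical triviality ascends along a field extension to an infinite field. -/
theorem num1_baseChange [Infinite K] {X Z : Scheme.{u}} [X.Over (Spec (CommRingCat.of k))]
    [IsProper (X ↘ Spec (CommRingCat.of k))] [Z.Over (Spec (CommRingCat.of K))]
    [IsProper (Z ↘ Spec (CommRingCat.of K))] (p : Z ⟶ X) [IsAffineHom p]
    {M : X.Modules} (hM : Num1 k M) : Num1 K ((Scheme.Modules.pullback p).obj M) := by
  obtain ⟨n, X', π, j₀, hj₀, hje, hπ, hπs, -⟩ := S0025.result (X ↘ Spec (CommRingCat.of k))
  haveI := hπ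
  haveI := hπs
  obtain ⟨eP, heP⟩ := ProperFin.exists_iso_projSpaceOver n k
  let j := j₀ ≫ eP.hom
  letI : X'.Over (Spec (CommRingCat.of k)) := ⟨π ≫ (X ↘ Spec (CommRingCat.of k))⟩
  haveI : IsProper (X' ↘ Spec (CommRingCat.of k)) :=
    inferInstanceAs (IsProper (π ≫ (X ↘ Spec (CommRingCat.of k))))
  haveI := ProjProper.Basic.isProper_toSpec n k
  have hj : j ≫ CohB1.ProjSpace.toSpec n k = X' ↘ Spec (CommRingCat.of k) := by
    rw [Category.assoc, heP]
    exact hje
  haveI : IsProper (j ≫ CohB1.ProjSpace.toSpec n k) := by rw [hj]; infer_instance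
  haveI : IsProper j := IsProper.of_comp j (CohB1.ProjSpace.toSpec n k)
  haveI : IsClosedImmersion j := .of_isPreimmersion j j.isClosedMap.isClosed_range
  let Z' := pullback π p
  let π' : Z' ⟶ Z := pullback.snd π p
  let p' : Z' ⟶ X' := pullback.fst π p
  letI : Z'.Over (Spec (CommRingCat.of K)) := ⟨π' ≫ (Z ↘ Spec (CommRingCat.of K))⟩
  haveI : IsProper π' := inferInstanceAs (IsProper (pullback.snd π p))
  haveI : IsProper (Z' ↘ Spec (CommRingCat.of K)) :=
    inferInstanceAs (IsProper (π' ≫ (Z ↘ Spec (CommRingCat.of K))))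
  haveI : IsAffineHom p' := MorphismProperty.pullback_fst _ _ inferInstance
  haveI : Surjective π' := MorphismProperty.pullback_snd _ _ inferInstance
  have h' : Num1 K ((Scheme.Modules.pullback p').obj ((Scheme.Modules.pullback π).obj M)) :=
    num1_baseChange_proj j p' (num1_pullback π rfl hM)
  have hMZ : PicF.IsInvertible ((Scheme.Modules.pullback p).obj M) := PicCl.isInvertible_pullback p hM.1
  refine Descend.num1_of_surjective π' rfl hMZ ?_
  exact num1_iso K ((Scheme.Modules.pullbackComp p' π).app M ≪≫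
    (Scheme.Modules.pullbackCongr pullback.condition).app M ≪≫
      ((Scheme.Modules.pullbackComp π' p).app M).symm) (PicCl.isInvertible_pullback π' hMZ) h'

/-- Numerically trivial modules are torsion if `H¹(O) = 0`. -/
theorem exists_pow_trivial {X : Scheme.{u}} [X.Over (Spec (CommRingCat.of k))]
    [IsProper (X ↘ Spec (CommRingCat.of k))]
    (h1 : Subsingleton (Coh.HH X (Coh.structureModule X) 1)) {L : X.Modules} (hL : Num1 k L) :
    ∃ d : ℕ, 0 < d ∧ Nonempty (CohB1.tensorPow L d ≅ Coh.structureModule X) := by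
  haveI := EulerChar.isNoetherian k (X := X)
  let K := AlgebraicClosure k
  let g := Spec.map (CommRingCat.ofHom (algebraMap k K))
  let Z := pullback (X ↘ Spec (CommRingCat.of k)) g
  let p : Z ⟶ X := pullback.fst _ _
  letI : Z.Over (Spec (CommRingCat.of K)) := ⟨pullback.snd _ _⟩
  haveI : IsProper (Z ↘ Spec (CommRingCat.of K)) :=
    inferInstanceAs (IsProper (pullback.snd (X ↘ Spec (CommRingCat.of k)) g))
  haveI : IsAffineHom g := isAffineHom_of_isAffine _
  haveI : IsAffineHom p := MorphismProperty.pullback_fst _ _ inferInstance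
  have hLK : Num1 K ((Scheme.Modules.pullback p).obj L) := num1_baseChange p hL
  have h1' : Subsingleton (Coh.HH Z ((Scheme.Modules.pullback p).obj (Coh.structureModule X)) 1) :=
    (CMReg.subsingleton_baseChange_iff (f := X ↘ Spec (CommRingCat.of k)) p (pullback.snd _ g)
      (IsPullback.of_hasPullback _ g) _ (ProperFin.isCoh_structureModule X) 1).2 h1
  let u₀ : (Scheme.Modules.pullback p).obj (Coh.structureModule X) ≅ Coh.structureModule Z :=
    QCoh.pullbackUnitIso p
  have h1K : Subsingleton (Coh.HH Z (Coh.structureModule Z) 1) := AmpCrit.subsingleton_HH_of_iso u₀ 1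
  obtain ⟨d, hd, halg⟩ := S4277.result K Z _ hLK.1 (Section.isNumEquivZero_of_num1 (k := K) hLK)
  obtain ⟨φ⟩ := AlgTriv.iso_one_of_isAlgEquivZero h1K halg
  obtain ⟨ed⟩ := EulerFam.pullback_tensorPow p L d
  haveI : CompactSpace X := EulerChar.compactSpace k
  haveI : QuasiSeparatedSpace X := inferInstance
  letI := VarBC.H0.topAlgebra k X
  haveI : Module.Finite k Γ(X, ⊤) := CBC.GeomRedEtale.finite_top k X
  haveI : IsArtinianRing Γ(X, ⊤) := (Module.finite_iff_isArtinianRing k _).1 inferInstance
  exact ⟨d, hd, S7671.result k K X (X ↘ Spec (CommRingCat.of k)) inferInstance _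
    (AmpleLib.isInvertible_tensorPow hL.1 d) ⟨ed ≪≫ φ⟩⟩

end Groth.Agent.NumTriv.H1Zero
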