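import Groth.Agent.NumTriv.Embed
import Groth.Agent.NumTriv.Bounded
import Groth.Agent.NumTriv.H1Zero
import Groth.Agent.EulerFam.UnivCoker
import Groth.Agent.ProjTwist.Pn.Mumford
import Groth.Agent.BigVol.Basic
import Groth.Agent.FormalFun.TowerVan

/-!
# Numerically trivial invertible modules on a proper scheme over a finite field
-/

universe u

open CategoryTheory CategoryTheory.Limits AlgebraicGeometry TopologicalSpace

set_option linter.style.haveILetI false

noncomputable section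

namespace Groth.Agent.NumTriv.FiniteField

open ProjTwist Embed

variable {k : Type u} [Field k] {X : Scheme.{u}} [X.Over (Spec (CommRingCat.of k))]
  [IsProper (X ↘ Spec (CommRingCat.of k))]

/-- High twists of numerically trivial modules have no higher cohomology, uniformly. -/
theorem exists_vanishing {n : ℕ} (i : X ⟶ CohB1.ProjSpace n k) [IsClosedImmersion i]
    (_hi : i ≫ CohB1.ProjSpace.toSpec n k = X ↘ Spec (CommRingCat.of k)) {F : X.Modules}
    (hF : Coh.IsCoh F) :
    ∃ D : ℕ, ∀ M : X.Modules, Num1 k M → ∀ d : ℕ, D ≤ d → ∀ q : ℕ, 1 ≤ q →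
      Subsingleton (Coh.HH X (Pic13.twistOn k i (CohB1.tensorMod F M) d) q) := by
  haveI := EulerChar.isNoetherian k (X := X)
  let K := AlgebraicClosure k
  let g := Spec.map (CommRingCat.ofHom (algebraMap k K))
  let Z := pullback (X ↘ Spec (CommRingCat.of k)) g
  let p : Z ⟶ X := pullback.fst _ _
  letI : Z.Over (Spec (CommRingCat.of K)) := ⟨pullback.snd _ _⟩
  haveI : IsProper (Z ↘ Spec (CommRingCat.of K)) :=
    inferInstanceAs (IsProper (pullback.snd (X ↘ Spec (CommRingCat.of k)) g))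
  haveI : IsAffineHom g := isAffineHom_of_isAffine _
  haveI : IsAffineHom p := MorphismProperty.pullback_fst _ _ inferInstance
  haveI := EulerChar.compactSpace K (X := Z)
  haveI := EulerChar.isNoetherian K (X := Z)
  let P := Scheme.Modules.pullback p
  have hA : CohB1.IsAmple (P.obj (oX i 1)) :=
    AmpleLib.isAmple_pullback_of_qaMor p (AmpleFam.Pullback.qaMor_of_isAffineHom p) (isAmple_oX_one i)
  obtain ⟨a, n', i', ha, hic, hi', ⟨eH⟩⟩ := Section.exists_embedding_pow (k := K) hA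
  haveI := hic
  have hG : ∀ r : Fin a, Coh.IsCoh (P.obj (Pic13.twistOn k i F (r : ℕ))) := fun r =>
    ZClosLib.CohDescent.isCoh_pullback p _ (isCoh_twistOn i hF _)
  choose m hm using fun r : Fin a => exists_uniform_regular i' hi' (hG r)
  obtain ⟨b, hb⟩ := (Set.finite_range fun r => (m r).toNat).bddAbove
  refine ⟨a * b, fun M hM d hd q hq => ?_⟩
  let r : Fin a := ⟨d % a, Nat.mod_lt _ ha⟩
  let t : ℕ := d / a
  have hdt : (r : ℕ) + a * t = d := Nat.mod_add_div d a
  have htb : b ≤ t := (Nat.le_div_iff_mul_le ha).2 (by rw [mul_comm]; exact hd)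
  have hmr : (m r).toNat ≤ b := hb ⟨r, rfl⟩
  have hMK : Num1 K (P.obj M) := H1Zero.num1_baseChange_proj i p hM
  have hc : Coh.IsCoh (CohB1.tensorMod (P.obj (Pic13.twistOn k i F (r : ℕ))) (P.obj M)) :=
    isCoh_tens K hMK.1 (hG r)
  haveI := hc.1
  have h1 : Subsingleton (Coh.HH Z (Pic13.twistOn K i'
      (CohB1.tensorMod (P.obj (Pic13.twistOn k i F (r : ℕ))) (P.obj M)) (t : ℤ)) q) :=
    (CMReg.subsingleton_twistOn_iff i' _ (t : ℤ) q).2
      (ProjTwist.Pn.subsingleton_of_le (CMReg.isQCoh_push i' _)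
        (CMReg.isMRegular_push i' (hm r _ hMK)) hq (by omega))
  obtain ⟨e₁⟩ := nonempty_oX_pow i' t
  obtain ⟨e₂⟩ := BigVol.nonempty_pow_mul (PicCl.isInvertible_pullback p (isInvertible_oX i 1)) a t
  obtain ⟨e₃⟩ := EulerFam.pullback_tensorPow p (oX i 1) (a * t)
  obtain ⟨e₄⟩ := nonempty_oX_pow i (a * t)
  obtain ⟨e₅⟩ := FormalFun.nonempty_tensorPow_congr eH t
  obtain ⟨e₆⟩ := nonempty_twistTwist i F ((r : ℕ) : ℤ) ((a * t : ℕ) : ℤ) (d : ℤ) (by exact_mod_cast hdt)
  let S : Z.Modules := P.obj (oX i ((a * t : ℕ) : ℤ))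
  let eT : oX i' (t : ℤ) ≅ S := e₁.symm ≪≫ e₅.symm ≪≫ e₂ ≪≫ e₃.symm ≪≫ P.mapIso e₄
  let U : X.Modules := Pic13.twistOn k i F (r : ℕ)
  let V : X.Modules := oX i ((a * t : ℕ) : ℤ)
  let eX : Pic13.twistOn k i (CohB1.tensorMod F M) (d : ℤ) ≅ CohB1.tensorMod (CohB1.tensorMod U M) V :=
    tensAssoc F M _ ≪≫ tensCongr (Iso.refl F) (tensComm M _) ≪≫ (tensAssoc F _ M).symm ≪≫
      tensCongr e₆.symm (Iso.refl M) ≪≫ tensAssoc U V M ≪≫
        tensCongr (Iso.refl U) (tensComm V M) ≪≫ (tensAssoc U M V).symm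
  let eZ : Pic13.twistOn K i' (CohB1.tensorMod (P.obj U) (P.obj M)) (t : ℤ) ≅
      P.obj (Pic13.twistOn k i (CohB1.tensorMod F M) (d : ℤ)) :=
    tensCongr (Iso.refl _) eT ≪≫ tensCongr (KFlat.PullTensor.pullTensorIso p U M).symm (Iso.refl S) ≪≫
      (KFlat.PullTensor.pullTensorIso p (CohB1.tensorMod U M) V).symm ≪≫ (P.mapIso eX).symm
  have h2 : Subsingleton (Coh.HH Z (P.obj (Pic13.twistOn k i (CohB1.tensorMod F M) (d : ℤ))) q) :=
    haveI := h1
    AmpCrit.subsingleton_HH_of_iso eZ q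
  exact (CMReg.subsingleton_baseChange_iff (f := X ↘ Spec (CommRingCat.of k)) p (pullback.snd _ g)
    (IsPullback.of_hasPullback _ g) _ (isCoh_twistOn i (isCoh_tens k hM.1 hF) _) q).1 h2

/-- Uniform regularity over any field. -/
theorem exists_uniform_regular_any {n : ℕ} (i : X ⟶ CohB1.ProjSpace n k) [IsClosedImmersion i]
    (hi : i ≫ CohB1.ProjSpace.toSpec n k = X ↘ Spec (CommRingCat.of k)) {F : X.Modules}
    (hF : Coh.IsCoh F) :
    ∃ m : ℤ, ∀ M : X.Modules, Num1 k M → Pic13.IsMRegular k i (CohB1.tensorMod F M) m := by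
  obtain ⟨D, hD⟩ := exists_vanishing i hi hF
  refine ⟨(D + n : ℕ), fun M hM => ?_⟩
  haveI := (isCoh_tens k hM.1 hF).1
  refine CMReg.isMRegular_of_push i fun q hq hqn => ?_
  refine (CMReg.subsingleton_twistOn_iff i _ _ q).1 ?_
  rw [show ((D + n : ℕ) : ℤ) - (q : ℤ) = ((D + n - q : ℕ) : ℤ) by omega]
  exact hD M hM _ (by omega) q hq

/-- Every coherent module on a closed subscheme of projective space is nice. -/
theorem nice_proj_any {n : ℕ} (i : X ⟶ CohB1.ProjSpace n k) [IsClosedImmersion i]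
    (hi : i ≫ CohB1.ProjSpace.toSpec n k = X ↘ Spec (CommRingCat.of k)) {F : X.Modules}
    (hF : Coh.IsCoh F) : Nice k F := by
  haveI := EulerChar.isNoetherian k (X := X)
  haveI := ProjTwist.Pn.isLocallyNoetherian_projSpace n k
  have hO := ProperFin.isCoh_structureModule X
  obtain ⟨m, hm⟩ := exists_uniform_regular_any i hi hO
  let p : ℕ := (Curv2.euler k X (Pic13.twistOn k i (Coh.structureModule X) m)).toNat
  let A := (Scheme.Modules.pullback i).obj (∐ fun _ : Fin (ProjTwist.Pn.h0Tw (∐ fun _ : Fin p =>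
    Twist.twistProjSpace n k (-m)) (m + 1)) => Twist.twistProjSpace n k (-(m + 1)))
  let B := (Scheme.Modules.pullback i).obj (∐ fun _ : Fin p => Twist.twistProjSpace n k (-m))
  have hc : ∀ {ι : Type} [Finite ι] (d : ℤ),
      Coh.IsCoh ((Scheme.Modules.pullback i).obj (∐ fun _ : ι => Twist.twistProjSpace n k d)) :=
    fun {ι} _ d => ZClosLib.CohDescent.isCoh_pullback i _
      (ProjTwist.Pn.isCoh_sum _ fun _ => ProjTwist.Pn.isCoh_twistProjSpace n k d)
  refine ⟨hF, HomKernel.ihom B F, HomKernel.ihom A F, HomKernel.isCoh_ihom (hc _) hF,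
    HomKernel.isCoh_ihom (hc _) hF, fun M hM => ?_⟩
  obtain ⟨M', hM', ⟨e'⟩⟩ := num1_exists_inverse k hM
  haveI := (isCoh_tens k hM'.1 hO).1
  obtain ⟨φ, ⟨ψ⟩⟩ := EulerFam.exists_iso_cokernel i (isCoh_tens k hM'.1 hO) (hm M' hM') (p := p) (by
    have h1 := EulerFam.h0Tw_eq_chi (isCoh_G i hM'.1 hO) (CMReg.isMRegular_push i (hm M' hM'))
    have h2 : ProjTwist.Pn.chi (G i (Coh.structureModule X) M') m =
        Curv2.euler k X (Pic13.twistOn k i (Coh.structureModule X) m) := by
      rw [chi_G i hi hM'.1 hO, AnyField.euler_tens_eq_proj i hi (isCoh_twistOn i hO m) hM']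
    have h3 : ((ProjTwist.Pn.h0Tw (G i (Coh.structureModule X) M') m : ℕ) : ℤ) =
        Curv2.euler k X (Pic13.twistOn k i (Coh.structureModule X) m) := h1.trans h2
    refine Eq.trans ?_ h2.symm
    simp only [p]
    omega)
  let e : CohB1.tensorMod M (cokernel φ) ≅ Coh.structureModule X :=
    tensCongr (Iso.refl M) (ψ ≪≫ oneTens M') ≪≫ tensComm M M' ≪≫ e'
  exact ⟨HomKernel.pre F φ, HomKernel.nonempty_tensor_iso_kernel F φ e⟩

variable (k) in
omit [IsProper (X ↘ Spec (CommRingCat.of k))] in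
theorem exists_mono_nice_aux_any [IsNoetherian X] : ∀ (T : Closeds X) (Z : Scheme.{u})
    [Z.Over (Spec (CommRingCat.of k))] [IsProper (Z ↘ Spec (CommRingCat.of k))] (i : Z ⟶ X)
    [IsClosedImmersion i],
    i ≫ (X ↘ Spec (CommRingCat.of k)) = Z ↘ Spec (CommRingCat.of k) →
    Set.range i ⊆ (T : Set X) → ∀ G : Z.Modules, Coh.IsCoh G →
      ∃ (P : Z.Modules) (ι : G ⟶ P), Mono ι ∧ Nice k P := by
  intro T
  induction T using WellFoundedLT.induction with
  | _ T IH =>
    intro Z _ _ i _ hi hr G hG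
    haveI := EulerChar.isNoetherian k (X := Z)
    obtain ⟨n, Z', π, j₀, hj₀, hje, hπ, -, U, hU, hiso⟩ :=
      S0025.result (Z ↘ Spec (CommRingCat.of k))
    obtain ⟨eP, heP⟩ := ProperFin.exists_iso_projSpaceOver n k
    let j := j₀ ≫ eP.hom
    letI : Z'.Over (Spec (CommRingCat.of k)) := ⟨π ≫ (Z ↘ Spec (CommRingCat.of k))⟩
    haveI : IsProper (Z' ↘ Spec (CommRingCat.of k)) :=
      inferInstanceAs (IsProper (π ≫ (Z ↘ Spec (CommRingCat.of k))))
    have hj : j ≫ CohB1.ProjSpace.toSpec n k = Z' ↘ Spec (CommRingCat.of k) := by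
      rw [Category.assoc, heP]
      exact hje
    haveI := ProjProper.Basic.isProper_toSpec n k
    haveI : IsProper (j ≫ CohB1.ProjSpace.toSpec n k) := by rw [hj]; infer_instance
    haveI : IsProper j := IsProper.of_comp j (CohB1.ProjSpace.toSpec n k)
    haveI : IsClosedImmersion j := .of_isPreimmersion j j.isClosedMap.isClosed_range
    let η := (Scheme.Modules.pullbackPushforwardAdjunction π).unit.app G
    have hG' := ZClosLib.CohDescent.isCoh_pullback π G hG
    have hP₁ := nice_push (k := k) π rfl (nice_proj_any j hj hG')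
    rcases isEmpty_or_nonempty Z with hZ | ⟨⟨z₀⟩⟩
    · exact ⟨_, η, ⟨fun a b _ => (CohDev.isZero_of_support_eq_empty
        (Set.eq_empty_of_isEmpty (CohB1.support G))).eq_of_tgt a b⟩, hP₁⟩
    let K := kernel η
    have hK : Coh.IsCoh K := CohDev.isCoh_kernel η hG (isCoh_push (k := k) π rfl hG').1
    haveI := hiso
    have hKs : CohB1.support K ⊆ (U : Set Z)ᶜ := fun y hy hyU =>
      (CohDev.not_mem_support_kernel η
        (unit_stalk_injective π U y hyU G)) hy
    haveI : K.IsQuasicoherent := hK.1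
    haveI : K.IsFiniteType := hK.2
    let I := ScSupp.annIdeal K
    obtain ⟨c, hc⟩ := CohDev.exists_pow_mono_unit (kernel.ι η) hK hG I (CohDev.killed_annIdeal hK)
    let J := I ^ (c + 1)
    let Z₂ := J.subscheme
    let i₂ := J.subschemeι
    letI : Z₂.Over (Spec (CommRingCat.of k)) := ⟨i₂ ≫ (Z ↘ Spec (CommRingCat.of k))⟩
    haveI : IsProper (Z₂ ↘ Spec (CommRingCat.of k)) :=
      inferInstanceAs (IsProper (i₂ ≫ (Z ↘ Spec (CommRingCat.of k))))
    let T' : Closeds X := ⟨Set.range (i₂ ≫ i), (i₂ ≫ i).isClosedMap.isClosed_range⟩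
    have hlt : T' < T := by
      refine lt_of_le_of_ne (fun x hx => ?_) fun he => ?_
      · obtain ⟨w, rfl⟩ := hx
        exact hr ⟨i₂ w, (Scheme.Hom.comp_apply i₂ i w).symm⟩
      · haveI : Nonempty Z := ⟨z₀⟩
        obtain ⟨y, hy⟩ := hU.nonempty
        obtain ⟨w, hw⟩ : i y ∈ (T' : Set X) := he ▸ hr ⟨y, rfl⟩
        rw [Scheme.Hom.comp_apply] at hw
        have hwy : i₂ w = y := i.isClosedEmbedding.injective hw
        have h1 : i₂ w ∈ (J.support : Set Z) := by
          rw [← J.range_subschemeι]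
          exact ⟨w, rfl⟩
        rw [hwy, Scheme.IdealSheafData.support_pow_succ, ScSupp.support_annIdeal] at h1
        exact hKs h1 hy
    obtain ⟨P₂, ι₂, hι₂, hP₂⟩ := IH T' hlt Z₂ (i₂ ≫ i) (by rw [Category.assoc, hi]; rfl)
      subset_rfl _ (ZClosLib.CohDescent.isCoh_pullback i₂ G hG)
    let b := (Scheme.Modules.pullbackPushforwardAdjunction i₂).unit.app G ≫
      (Scheme.Modules.pushforward i₂).map ι₂
    refine ⟨_, biprod.lift η b, Preadditive.mono_of_cancel_zero _ fun {W} z hz => ?_,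
      nice_biprod hP₁ (nice_push (k := k) i₂ rfl hP₂)⟩
    have h1 : z ≫ η = 0 := by
      have := congrArg (· ≫ biprod.fst) hz
      simpa using this
    have h2 : z ≫ b = 0 := by
      have := congrArg (· ≫ biprod.snd) hz
      simpa using this
    haveI := hι₂
    haveI : Mono ((Scheme.Modules.pushforward i₂).map ι₂) := inferInstance
    haveI : Mono (kernel.ι η ≫ (Scheme.Modules.pullbackPushforwardAdjunction i₂).unit.app G) := hc
    have h3 : kernel.lift η z h1 = 0 := by
      rw [← cancel_mono (kernel.ι η ≫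
        (Scheme.Modules.pullbackPushforwardAdjunction i₂).unit.app G), zero_comp,
        kernel.lift_ι_assoc, ← cancel_mono ((Scheme.Modules.pushforward i₂).map ι₂), zero_comp,
        Category.assoc]
      exact h2
    rw [← kernel.lift_ι η z h1, h3, zero_comp]

/-- Every coherent module on a proper scheme embeds into a nice one. -/
theorem exists_mono_nice_any {G : X.Modules} (hG : Coh.IsCoh G) :
    ∃ (P : X.Modules) (ι : G ⟶ P), Mono ι ∧ Nice k P :=
  haveI := EulerChar.isNoetherian k (X := X)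
  exists_mono_nice_aux_any k ⊤ X (𝟙 X) (Category.id_comp _) (Set.subset_univ _) G hG

/-- Over a finite field there are only finitely many maps between coherent modules. -/
theorem finite_hom [Finite k] {A B : X.Modules} (hA : Coh.IsCoh A) (hB : Coh.IsCoh B) :
    Finite (A ⟶ B) := by
  obtain ⟨N, α, hα⟩ := EulerFam.exists_hom_span (k := k) hA hB
  exact Finite.of_surjective (fun c : Fin N → k =>
    ∑ j, α j ≫ KSMod.scal B (Coh.toGlobal (X ↘ Spec (CommRingCat.of k)) (c j)))
    fun φ => (hα φ).imp fun _ h => h.symm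

/-- Over a finite field there are only finitely many numerically trivial invertible modules. -/
theorem exists_finite_num1 [Finite k] :
    ∃ (ι : Type u) (_ : Finite ι) (rep : ι → X.Modules),
      ∀ M : X.Modules, Num1 k M → ∃ a, Nonempty (M ≅ rep a) := by
  haveI := EulerChar.isNoetherian k (X := X)
  have hO := ProperFin.isCoh_structureModule X
  obtain ⟨P, ι, hι, hP⟩ := exists_mono_nice_any (k := k) hO
  haveI := hι
  obtain ⟨hPc, H, H₁, hH, hH₁, hPf⟩ := hP
  have hC : Coh.IsCoh (cokernel ι) := CohDev.isCoh_cokernel ι hO.1 hPc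
  obtain ⟨P', ι', hι', hP'⟩ := exists_mono_nice_any (k := k) hC
  obtain ⟨-, H', H₁', hH', -, hPf'⟩ := hP'
  haveI := finite_hom (k := k) hH hH₁
  haveI : ∀ f : H ⟶ H₁, Finite (kernel f ⟶ H') := fun f =>
    finite_hom (k := k) (CohDev.isCoh_kernel f hH hH₁.1) hH'
  refine ⟨Σ f : H ⟶ H₁, (kernel f ⟶ H'), inferInstance, fun x => kernel x.2, fun M hM => ?_⟩
  obtain ⟨f, ⟨eP⟩⟩ := hPf M hM
  obtain ⟨f', ⟨eP'⟩⟩ := hPf' M hM
  let S := ShortComplex.mk ι (cokernel.π ι) (cokernel.condition _)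
  have hS : S.ShortExact := { exact := ShortComplex.exact_of_g_is_cokernel _ (cokernelIsCokernel _) }
  let Φ := (DCoh.tensorBi (X := X)).flip.obj M
  have hS' : (S.map Φ).ShortExact := shortExact_tensor hM.1 hS
  have hS'' : (ShortComplex.mk ι' (cokernel.π ι') (cokernel.condition _)).ShortExact :=
    haveI := hι'
    { exact := ShortComplex.exact_of_g_is_cokernel _ (cokernelIsCokernel _) }
  let emb : CohB1.tensorMod (cokernel ι) M ⟶ H' := Φ.map ι' ≫ eP'.hom ≫ kernel.ι f'
  haveI : Mono emb :=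
    @mono_comp _ _ _ _ _ (Φ.map ι') (shortExact_tensor hM.1 hS'').mono_f _ inferInstance
  haveI : Mono (S.map Φ).f := hS'.mono_f
  let g : CohB1.tensorMod P M ⟶ H' := Φ.map (cokernel.π ι) ≫ emb
  exact ⟨⟨f, eP.inv ≫ g⟩, ⟨(oneTens M).symm ≪≫
    IsLimit.conePointUniqueUpToIso hS'.exact.fIsKernel (limit.isLimit _) ≪≫
      (kernelCompMono _ emb).symm ≪≫ (kernelIsIsoComp eP.inv g).symm⟩⟩

/-- Over a finite field numerically trivial invertible modules are torsion. -/
theorem exists_pow_trivial [Finite k] {L : X.Modules} (hL : Num1 k L) :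
    ∃ d : ℕ, 0 < d ∧ Nonempty (CohB1.tensorPow L d ≅ Coh.structureModule X) := by
  obtain ⟨ι, _, rep, h⟩ := exists_finite_num1 (k := k) (X := X)
  choose a ha using fun j : ℕ => h _ (num1_pow k hL j)
  obtain ⟨x, y, hne, hxy⟩ := Finite.exists_ne_map_eq_of_infinite a
  wlog hlt : x < y generalizing x y with H
  · exact H y x hne.symm hxy.symm (lt_of_le_of_ne (not_lt.1 hlt) hne.symm)
  obtain ⟨d, rfl⟩ : ∃ d, y = x + d := ⟨y - x, by omega⟩
  obtain ⟨e₁⟩ := ha x
  obtain ⟨e₂⟩ := ha (x + d)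
  obtain ⟨e₃⟩ := nonempty_powAdd L x d
  refine ⟨d, by omega, nonempty_cancel (AmpleLib.isInvertible_tensorPow hL.1 x) ?_⟩
  exact e₃ ≪≫ e₂ ≪≫ eqToIso (congrArg rep hxy.symm) ≪≫ e₁.symm ≪≫ (tensOne _).symm

end Groth.Agent.NumTriv.FiniteField
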