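import Mathlib.RingTheory.Localization.FractionRing
import Mathlib.RingTheory.TensorProduct.Maps
import Mathlib.RingTheory.Localization.Ideal
import Mathlib.RingTheory.MvPolynomial.Basic
import Mathlib.Algebra.MvPolynomial.CommRing
import Mathlib.Algebra.MvPolynomial.Nilpotent

/-!
# The generic linear form over `k(t)` cuts a domain in an irreducible set

For a domain `B` over `k` and `b : ι → B` with some `b j = 1`, the element `Σ t i ⊗ b i` of
`k(t) ⊗ B` generates a prime or the unit ideal, and a prime one contracts to zero in `B`.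
-/

set_option autoImplicit false

universe u

open TensorProduct

noncomputable section

namespace Groth.Agent.NumTriv.GenForm

variable (k : Type u) [Field k] (n : ℕ)

/-- The field `k(t₁, …, tₙ)`. -/
abbrev K := FractionRing (MvPolynomial (Fin n) k)

/-- The variables. -/
def t (i : Fin n) : K k n := algebraMap (MvPolynomial (Fin n) k) (K k n) (MvPolynomial.X i)

variable (B : Type u) [CommRing B] [IsDomain B] [Algebra k B]

/-- The polynomials over `B`. -/
abbrev P := MvPolynomial (Fin n) B

/-- Coefficient extension. -/
def coef : MvPolynomial (Fin n) k →+* P n B := MvPolynomial.map (algebraMap k B)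

theorem coef_injective : Function.Injective (coef k n B) :=
  MvPolynomial.map_injective _ (algebraMap k B).injective

/-- The nonzero scalar polynomials. -/
def den : Submonoid (P n B) := (nonZeroDivisors (MvPolynomial (Fin n) k)).map (coef k n B).toMonoidHom

theorem den_le : den k n B ≤ nonZeroDivisors (P n B) := by
  rintro _ ⟨q, hq, rfl⟩
  exact mem_nonZeroDivisors_of_ne_zero fun h =>
    nonZeroDivisors.ne_zero hq (coef_injective k n B (h.trans (map_zero _).symm))

/-- `k(t) ⊗ B` as a localisation of `B[t]`. -/
abbrev L := Localization (den k n B)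

/-- `k(t)` in the localisation. -/
def ofK : K k n →+* L k n B :=
  IsLocalization.lift (M := nonZeroDivisors (MvPolynomial (Fin n) k))
    (g := (algebraMap (P n B) (L k n B)).comp (coef k n B)) fun q =>
      IsLocalization.map_units (L k n B) (⟨_, q.1, q.2, rfl⟩ : den k n B)

theorem ofK_algebraMap (c : k) :
    ofK k n B (algebraMap k (K k n) c) = algebraMap (P n B) (L k n B) (MvPolynomial.C (algebraMap k B c)) := by
  rw [IsScalarTower.algebraMap_apply k (MvPolynomial (Fin n) k) (K k n), ofK, IsLocalization.lift_eq]
  simp [coef]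

/-- Polynomials over `B` in `k(t) ⊗ B`. -/
def toT : P n B →+* K k n ⊗[k] B :=
  MvPolynomial.eval₂Hom (Algebra.TensorProduct.includeRight : B →ₐ[k] K k n ⊗[k] B).toRingHom
    fun i => t k n i ⊗ₜ 1

theorem toT_coef : (toT k n B).comp (coef k n B) =
    (Algebra.TensorProduct.includeLeftRingHom (B := B)).comp (algebraMap (MvPolynomial (Fin n) k) (K k n)) := by
  refine MvPolynomial.ringHom_ext (fun c => ?_) fun i => ?_
  · simp only [RingHom.comp_apply, coef, MvPolynomial.map_C, toT, MvPolynomial.eval₂Hom_C]
    show (1 : K k n) ⊗ₜ[k] algebraMap k B c = algebraMap (MvPolynomial (Fin n) k) (K k n) (MvPolynomial.C c) ⊗ₜ[k] 1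
    rw [show algebraMap (MvPolynomial (Fin n) k) (K k n) (MvPolynomial.C c) = algebraMap k (K k n) c from
      (IsScalarTower.algebraMap_apply k (MvPolynomial (Fin n) k) (K k n) c).symm,
      Algebra.algebraMap_eq_smul_one, Algebra.algebraMap_eq_smul_one, TensorProduct.smul_tmul]
  · simp [coef, toT, t]

/-- The map from the localisation. -/
def ofL : L k n B →+* K k n ⊗[k] B :=
  IsLocalization.lift (M := den k n B) (g := toT k n B) fun s => by
    obtain ⟨q, hq, hs⟩ := s.2
    rw [← hs]
    show IsUnit ((toT k n B).comp (coef k n B) q)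
    rw [toT_coef]
    exact (IsLocalization.map_units (K k n) ⟨q, hq⟩).map Algebra.TensorProduct.includeLeftRingHom

theorem algebraMap_L (c : k) :
    algebraMap k (L k n B) c = algebraMap (P n B) (L k n B) (MvPolynomial.C (algebraMap k B c)) :=
  IsScalarTower.algebraMap_apply k (P n B) (L k n B) c

/-- `k(t)` in the localisation, over `k`. -/
def ofKₐ : K k n →ₐ[k] L k n B :=
  { ofK k n B with commutes' := fun c => by exact (ofK_algebraMap k n B c).trans (algebraMap_L k n B c).symm }

/-- `B` in the localisation, over `k`. -/
def ofBₐ : B →ₐ[k] L k n B :=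
  { (algebraMap (P n B) (L k n B)).comp (MvPolynomial.C : B →+* P n B) with
    commutes' := fun c => by exact (algebraMap_L k n B c).symm }

/-- The map to the localisation. -/
def toL : K k n ⊗[k] B →+* L k n B :=
  (Algebra.TensorProduct.lift (ofKₐ k n B) (ofBₐ k n B) fun _ _ => Commute.all _ _).toRingHom

theorem toL_tmul (a : K k n) (b : B) :
    toL k n B (a ⊗ₜ b) = ofK k n B a * algebraMap (P n B) (L k n B) (MvPolynomial.C b) := rfl

theorem toL_toT (p : P n B) : toL k n B (toT k n B p) = algebraMap (P n B) (L k n B) p := by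
  refine RingHom.congr_fun (f := (toL k n B).comp (toT k n B)) (MvPolynomial.ringHom_ext (fun b => ?_) fun i => ?_) p
  · simp only [RingHom.comp_apply, toT, MvPolynomial.eval₂Hom_C]
    show toL k n B (1 ⊗ₜ b) = _
    rw [toL_tmul, map_one, one_mul]
  · simp only [RingHom.comp_apply, toT, MvPolynomial.eval₂Hom_X']
    rw [toL_tmul, map_one, map_one, mul_one, t, ofK, IsLocalization.lift_eq]
    simp [coef]

/-- `k(t) ⊗ B ≃ S⁻¹ B[t]`. -/
def equivL : L k n B ≃+* K k n ⊗[k] B :=
  RingEquiv.ofRingHom (ofL k n B) (toL k n B)
    (RingHom.ext fun x => by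
      induction x using TensorProduct.induction_on with
      | zero => simp
      | tmul a b =>
        rw [RingHom.comp_apply, toL_tmul, map_mul, RingHom.id_apply]
        have ha : ofL k n B (ofK k n B a) = a ⊗ₜ 1 := by
          refine RingHom.congr_fun (f := (ofL k n B).comp (ofK k n B))
            (g := Algebra.TensorProduct.includeLeftRingHom)
            (IsLocalization.ringHom_ext (nonZeroDivisors (MvPolynomial (Fin n) k)) ?_) a
          rw [RingHom.comp_assoc, ofK, IsLocalization.lift_comp, ← RingHom.comp_assoc, ofL,
            IsLocalization.lift_comp, toT_coef]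
        have hb : ofL k n B (algebraMap (P n B) (L k n B) (MvPolynomial.C b)) = 1 ⊗ₜ b := by
          rw [ofL, IsLocalization.lift_eq, toT, MvPolynomial.eval₂Hom_C]
          rfl
        rw [ha, hb, Algebra.TensorProduct.tmul_mul_tmul, mul_one, one_mul]
      | add x y hx hy =>
        rw [RingHom.id_apply] at hx hy ⊢
        rw [map_add, hx, hy])
    (IsLocalization.ringHom_ext (den k n B) (RingHom.ext fun p => by
      simp only [RingHom.comp_apply, ofL, IsLocalization.lift_eq, RingHom.id_apply]
      exact toL_toT k n B p))

theorem equivL_algebraMap (p : P n B) : equivL k n B (algebraMap (P n B) (L k n B) p) = toT k n B p :=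
  IsLocalization.lift_eq _ p

instance isDomain_tensor : IsDomain (K k n ⊗[k] B) :=
  haveI : IsDomain (L k n B) := IsLocalization.isDomain_localization (den_le k n B)
  MulEquiv.isDomain (L k n B) (equivL k n B).symm.toMulEquiv

variable {n B} (b : Fin n → B) (j : Fin n) (hj : b j = 1)

/-- The generic form. -/
def form : K k n ⊗[k] B := ∑ i, t k n i ⊗ₜ b i

/-- The generic form in `B[t]`. -/
def form' : P n B := ∑ i, MvPolynomial.C (b i) * MvPolynomial.X i

theorem toT_form' : toT k n B (form' b) = form k b := by
  simp [form, form', toT, Algebra.TensorProduct.tmul_mul_tmul]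

/-- Solving for the variable `j`. -/
def solve : P n B →+* P n B :=
  MvPolynomial.eval₂Hom MvPolynomial.C fun i =>
    if i = j then -∑ l ∈ Finset.univ.erase j, MvPolynomial.C (b l) * MvPolynomial.X l else MvPolynomial.X i

include hj in
theorem solve_form' : solve b j (form' b) = 0 := by
  rw [form', map_sum, ← Finset.add_sum_erase _ _ (Finset.mem_univ j)]
  simp only [solve, map_mul, MvPolynomial.eval₂Hom_C, MvPolynomial.eval₂Hom_X', if_true, hj, map_one, one_mul]
  rw [neg_add_eq_zero]
  exact Finset.sum_congr rfl fun l hl => by rw [if_neg (Finset.ne_of_mem_erase hl)]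

include hj in
theorem ker_solve : RingHom.ker (solve b j) = Ideal.span {form' b} := by
  refine le_antisymm (fun p hp => ?_)
    ((Ideal.span_singleton_le_iff_mem _).2 (RingHom.mem_ker.2 (solve_form' b j hj)))
  have h : (Ideal.Quotient.mk (Ideal.span {form' b})).comp (solve b j) =
      Ideal.Quotient.mk (Ideal.span {form' b}) := by
    refine MvPolynomial.ringHom_ext (fun c => by simp [solve]) fun i => ?_
    simp only [RingHom.comp_apply, solve, MvPolynomial.eval₂Hom_X']
    split_ifs with h
    · subst h
      rw [Ideal.Quotient.eq, Ideal.mem_span_singleton]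
      refine ⟨-1, ?_⟩
      rw [form', ← Finset.add_sum_erase _ _ (Finset.mem_univ i), hj, map_one, one_mul]
      ring
    · rfl
  rw [← Ideal.Quotient.eq_zero_iff_mem, ← h, RingHom.comp_apply, RingHom.mem_ker.1 hp, map_zero]

include hj in
/-- The generic form generates a prime or the unit ideal. -/
theorem prime_or_top : (Ideal.span {form k b}).IsPrime ∧
    (Ideal.span {form k b}).comap (Algebra.TensorProduct.includeRight : B →ₐ[k] K k n ⊗[k] B).toRingHom = ⊥ ∨
      Ideal.span {form k b} = ⊤ := by
  have hp : (Ideal.span {form' b}).IsPrime := by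
    rw [← ker_solve b j hj]
    exact RingHom.ker_isPrime _
  have hmap : Ideal.span {form k b} = ((Ideal.span {form' b}).map (algebraMap (P n B) (L k n B))).map
      (equivL k n B : L k n B →+* K k n ⊗[k] B) := by
    rw [Ideal.map_span, Set.image_singleton, Ideal.map_span, Set.image_singleton]
    exact congrArg (fun x => Ideal.span {x}) ((equivL_algebraMap k n B _).trans (toT_form' k b)).symm
  by_cases hd : Disjoint (den k n B : Set (P n B)) (Ideal.span {form' b} : Set (P n B))
  · left
    haveI := IsLocalization.isPrime_of_isPrime_disjoint (den k n B) (L k n B) _ hp hd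
    refine ⟨hmap ▸ Ideal.map_isPrime_of_equiv _, ?_⟩
    refine le_bot_iff.1 fun c hc => ?_
    rw [Ideal.mem_comap, hmap] at hc
    obtain ⟨x, hx, hxc⟩ := (Ideal.mem_map_iff_of_surjective _ (equivL k n B).surjective).1 hc
    have e : x = algebraMap (P n B) (L k n B) (MvPolynomial.C c) := by
      refine (equivL k n B).injective (hxc.trans ?_)
      rw [equivL_algebraMap, toT, MvPolynomial.eval₂Hom_C]
    subst e
    have hc' : MvPolynomial.C c ∈ Ideal.span {form' b} :=
      ((IsLocalization.under_map_of_isPrime_disjoint (den k n B) (L k n B) hp hd).le hx)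
    rw [← ker_solve b j hj, RingHom.mem_ker] at hc'
    simpa [solve] using hc'
  · right
    obtain ⟨s, hs, hs'⟩ := Set.not_disjoint_iff.1 hd
    rw [hmap, Ideal.eq_top_of_isUnit_mem _ (Ideal.mem_map_of_mem _ hs') (IsLocalization.map_units _ ⟨s, hs⟩),
      Ideal.map_top]

end Groth.Agent.NumTriv.GenForm
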