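import Groth.Agent.NumTriv.GenForm
import Groth.Agent.Props.GenLocus
import Groth.Agent.FEtPush.Scheme
import Groth.Agent.VarDim.Scheme
import Groth.Agent.ProperFib.FibDim
import Groth.Agent.S9777
import Groth.Agent.UnibrBir.Scheme
import Mathlib.Algebra.Category.Ring.Constructions

/-!
# The generic hyperplane section over `k(t)`

For an integral scheme `X` over `k` and sections `σ₁, …, σₙ` generating an invertible module `M`, the
section `Σ tᵢ σᵢ` of the pullback of `M` to `X_{k(t)}` vanishes on an irreducible (or empty) closed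
set, and `X_{k(t)}` is integral of the same dimension as `X`.
-/

set_option autoImplicit false

universe u

open CategoryTheory CategoryTheory.Limits AlgebraicGeometry TopologicalSpace TensorProduct

noncomputable section

namespace Groth.Agent.NumTriv.GenForm

variable {k : Type u} [Field k] {n : ℕ} {B : Type u} [CommRing B] [IsDomain B] [Algebra k B]

/-- The generic form with a unit coefficient is nonzero. -/
theorem form_ne_zero (b : Fin n → B) (j : Fin n) (hj : b j = 1) : form k b ≠ 0 := by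
  intro h
  rw [← toT_form', ← equivL_algebraMap] at h
  have h0 : algebraMap (P n B) (L k n B) (form' b) = 0 :=
    (equivL k n B).injective (h.trans (map_zero _).symm)
  have h1 : form' b = 0 :=
    IsLocalization.injective (L k n B) (den_le k n B) (h0.trans (map_zero _).symm)
  have c := congrArg (MvPolynomial.coeff (Finsupp.single j 1)) h1
  simp [form', MvPolynomial.coeff_sum, MvPolynomial.coeff_C_mul, MvPolynomial.coeff_X',
    Finsupp.single_left_inj, hj] at c

end Groth.Agent.NumTriv.GenForm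

namespace Groth.Agent.NumTriv.GenHyp

open Groth.Agent.QCoh Groth.Agent.Props.GenLocus

variable (k : Type u) [Field k] (n : ℕ)

/-- `Spec k(t) ⟶ Spec k`. -/
abbrev g : Spec (CommRingCat.of (GenForm.K k n)) ⟶ Spec (CommRingCat.of k) :=
  Spec.map (CommRingCat.ofHom (algebraMap k (GenForm.K k n)))

variable {X : Scheme.{u}} (r : X ⟶ Spec (CommRingCat.of k))

/-- `X` over `k(t)`. -/
abbrev XK : Scheme.{u} := pullback r (g k n)

/-- The projection to `X`. -/
abbrev pX : XK k n r ⟶ X := pullback.fst _ _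

/-- The structure map. -/
abbrev qX : XK k n r ⟶ Spec (CommRingCat.of (GenForm.K k n)) := pullback.snd _ _

instance : Surjective (g k n) :=
  ⟨fun s => by
    haveI : Subsingleton ↥(Spec (CommRingCat.of k)) := inferInstanceAs (Subsingleton (PrimeSpectrum k))
    exact ⟨(default : PrimeSpectrum (GenForm.K k n)), Subsingleton.elim _ _⟩⟩

instance : Surjective (pX k n r) := MorphismProperty.pullback_fst _ _ inferInstance

instance : IsAffineHom (pX k n r) := MorphismProperty.pullback_fst _ _ inferInstance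

/-- Dimension does not change. -/
theorem dim_XK [QuasiCompact r] [LocallyOfFiniteType r] :
    topologicalKrullDim ↥(XK k n r) = topologicalKrullDim ↥X := by
  let y : ↥(Spec (CommRingCat.of (GenForm.K k n))) := (default : PrimeSpectrum (GenForm.K k n))
  have h := S9777.result r (g k n) (qX k n r) (pX k n r) (IsPullback.of_hasPullback _ _) y
  rwa [ProperFib.FibDim.dim_fiber_field, ProperFib.FibDim.dim_fiber_field] at h

variable (M : X.Modules) (σ : Fin n → Γ(M, ⊤))

/-- The generic section. -/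
def τ : Γ((Scheme.Modules.pullback (pX k n r)).obj M, ⊤) :=
  ∑ i, (show Γ(XK k n r, ⊤) from Coh.toGlobal (qX k n r) (GenForm.t k n i)) •
    (show Γ((Scheme.Modules.pullback (pX k n r)).obj M, ⊤) from LFFrame.unitSec (pX k n r) M ⊤ (σ i))

/-- The generic section as a map. -/
def sH : Coh.structureModule (XK k n r) ⟶ (Scheme.Modules.pullback (pX k n r)).obj M :=
  homOfSec (τ k n r M σ)

/-- The zero set of the generic section. -/
def zset : Set ↥(XK k n r) := (CohB1.genLocus _ (sH k n r M σ) : Set ↥(XK k n r))ᶜ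

theorem isClosed_zset : IsClosed (zset k n r M σ) :=
  (CohB1.genLocus _ (sH k n r M σ)).isOpen.isClosed_compl

variable [IsIntegral X]

/-- Over an affine open where some `σⱼ` generates: sections form a domain, and the generic section
is given by a nonzero function spanning a prime over the generic point, or the unit ideal. -/
theorem exists_chart_frame {U : X.Opens} (hU : IsAffineOpen U) [Nonempty ↥U] {j : Fin n}
    (hj : U ≤ CohB1.genLocus M (homOfSec (σ j))) :
    IsDomain Γ(XK k n r, pX k n r ⁻¹ᵁ U) ∧ ∃ (f : Γ(XK k n r, pX k n r ⁻¹ᵁ U))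
      (E : Γ((Scheme.Modules.pullback (pX k n r)).obj M, pX k n r ⁻¹ᵁ U)),
      IsGen ((Scheme.Modules.pullback (pX k n r)).obj M) (pX k n r ⁻¹ᵁ U) E ∧
      sec (sH k n r M σ) (pX k n r ⁻¹ᵁ U) = f • E ∧ f ≠ 0 ∧
      ((Ideal.span {f}).IsPrime ∧ (Ideal.span {f}).comap ((pX k n r).app U).hom = ⊥ ∨
        Ideal.span {f} = ⊤) := by
  letI algB : Algebra k Γ(X, U) :=
    ((Scheme.ΓSpecIso (CommRingCat.of k)).inv ≫ r.appLE ⊤ U le_top).hom.toAlgebra
  let W := pX k n r ⁻¹ᵁ U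
  have hpo := FEtPush.isPushout_appLE (IsPullback.of_hasPullback r (g k n)) (isAffineOpen_top _) hU
    (isAffineOpen_top _) (eT := le_top) (eX := le_top) (UQ := W)
    (le_antisymm (le_inf le_rfl le_top) inf_le_left) le_rfl le_top
  have h1 : IsPushout (CommRingCat.ofHom (algebraMap k Γ(X, U)))
      (CommRingCat.ofHom (algebraMap k (GenForm.K k n))) ((pX k n r).appLE U W le_rfl)
      ((Scheme.ΓSpecIso (CommRingCat.of (GenForm.K k n))).inv ≫ (qX k n r).appLE ⊤ W le_top) := by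
    refine hpo.of_iso (Scheme.ΓSpecIso (CommRingCat.of k)) (Iso.refl _)
      (Scheme.ΓSpecIso (CommRingCat.of (GenForm.K k n))) (Iso.refl _) ?_ ?_ ?_ ?_
    · exact (Category.comp_id _).trans (Iso.hom_inv_id_assoc _ _).symm
    · rw [← Scheme.ΓSpecIso_naturality]
      congr 1
    · exact (Category.comp_id _).trans (Category.id_comp _).symm
    · exact (Category.comp_id _).trans (Iso.hom_inv_id_assoc _ _).symm
  let h2 := CommRingCat.isPushout_tensorProduct k (GenForm.K k n) Γ(X, U)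
  let eC := h2.isoIsPushout _ _ h1.flip
  let e : GenForm.K k n ⊗[k] Γ(X, U) ≃+* Γ(XK k n r, W) := eC.commRingCatIsoToRingEquiv
  have he₁ : ∀ a : GenForm.K k n, e (a ⊗ₜ 1) = rres (le_top : W ≤ ⊤) (Coh.toGlobal (qX k n r) a) := fun a => by
    have h := DFunLike.congr_fun (congrArg CommRingCat.Hom.hom (h2.inl_isoIsPushout_hom _ _ h1.flip)) a
    exact h
  have he₂ : ∀ b : Γ(X, U), e (1 ⊗ₜ b) = (pX k n r).app U b := fun b => by
    have h := DFunLike.congr_fun (congrArg CommRingCat.Hom.hom (h2.inr_isoIsPushout_hom _ _ h1.flip)) b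
    rw [Scheme.Hom.app_eq_appLE]
    exact h
  haveI : Nonempty ↥(U : Scheme.{u}) := ‹Nonempty ↥U›
  haveI : IsDomain Γ(X, U) := IsIntegral.component_integral U
  have hgen : IsGen M U (res M le_top (σ j)) := by
    have h := (isGen_genLocus (homOfSec (σ j))).restrict hj
    rwa [sec_res, sec_homOfSec] at h
  choose b hb hbu using fun i => hgen.exists_eq le_rfl (res M (le_top : U ≤ ⊤) (σ i))
  simp only [res_self] at hb hbu
  have hbj : b j = 1 := (hbu j 1 (one_smul _ _).symm).symm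
  have hE : IsGen ((Scheme.Modules.pullback (pX k n r)).obj M) W
      (LFFrame.unitSec (pX k n r) M U (res M le_top (σ j))) :=
    (isGen_iff_isFrame _).mpr (LFFrame.IsFrame.pullback _ ((isGen_iff_isFrame _).mp hgen))
  have hsec : sec (sH k n r M σ) W =
      e (GenForm.form k b) • LFFrame.unitSec (pX k n r) M U (res M le_top (σ j)) := by
    rw [sH, sec_homOfSec, τ, GenForm.form, map_sum, map_sum, Finset.sum_smul]
    refine Finset.sum_congr rfl fun i _ => ?_
    rw [res_smul, show GenForm.t k n i ⊗ₜ[k] b i = GenForm.t k n i ⊗ₜ[k] 1 * (1 ⊗ₜ[k] b i) by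
      rw [Algebra.TensorProduct.tmul_mul_tmul, mul_one, one_mul], map_mul, he₁, he₂, mul_smul,
      ← LFFrame.unitSec_smul, ← hb i]
    exact congrArg _ (LFFrame.unitSec_res (pX k n r) M (le_top : U ≤ ⊤) (σ i)).symm
  refine ⟨e.symm.toMulEquiv.isDomain _, e (GenForm.form k b), _, hE, hsec,
    (map_ne_zero_iff e e.injective).2 (GenForm.form_ne_zero b j hbj), ?_⟩
  have hmap : Ideal.span {e (GenForm.form k b)} =
      (Ideal.span {GenForm.form k b}).map (e : GenForm.K k n ⊗[k] Γ(X, U) →+* Γ(XK k n r, W)) := by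
    rw [Ideal.map_span, Set.image_singleton]
    rfl
  rcases GenForm.prime_or_top k b j hbj with ⟨hp, hc⟩ | ht
  · left
    haveI := hp
    refine ⟨hmap ▸ Ideal.map_isPrime_of_equiv e, le_bot_iff.1 fun c hcm => hc.le ?_⟩
    rw [Ideal.mem_comap, hmap] at hcm
    obtain ⟨x, hx, hxc⟩ := (Ideal.mem_map_iff_of_surjective _ e.surjective).1 hcm
    rw [Ideal.mem_comap]
    convert hx
    exact (e.injective (hxc.trans (he₂ c).symm)).symm
  · exact Or.inr (by rw [hmap, ht, Ideal.map_top])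

/-- The chart in terms of the zero set. -/
theorem exists_chart {U : X.Opens} (hU : IsAffineOpen U) [Nonempty ↥U] {j : Fin n}
    (hj : U ≤ CohB1.genLocus M (homOfSec (σ j))) :
    IsDomain Γ(XK k n r, pX k n r ⁻¹ᵁ U) ∧ ∃ f : Γ(XK k n r, pX k n r ⁻¹ᵁ U), f ≠ 0 ∧
      CohB1.genLocus _ (sH k n r M σ) ⊓ pX k n r ⁻¹ᵁ U = (XK k n r).basicOpen f ∧
      ((Ideal.span {f}).IsPrime ∧ (Ideal.span {f}).comap ((pX k n r).app U).hom = ⊥ ∨
        Ideal.span {f} = ⊤) := by
  obtain ⟨hd, f, E, hE, hsec, hf, hP⟩ := exists_chart_frame k n r M σ hU hj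
  exact ⟨hd, f, hf, genLocus_inf hE _ hsec, hP⟩

variable (hσ : ∀ x : X, ∃ j, x ∈ CohB1.genLocus M (homOfSec (σ j)))

include hσ in
theorem exists_affine_mem (x : ↥(XK k n r)) : ∃ (U : X.Opens) (j : Fin n), IsAffineOpen U ∧
    pX k n r x ∈ U ∧ U ≤ CohB1.genLocus M (homOfSec (σ j)) := by
  obtain ⟨j, hj⟩ := hσ (pX k n r x)
  obtain ⟨U, hU, hxU, hUj⟩ := exists_isAffineOpen_mem_and_subset hj
  exact ⟨U, j, hU, hxU, hUj⟩

omit [IsIntegral X] in
/-- Membership in a basic open through the prime. -/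
theorem mem_basicOpen_iff {Y : Scheme.{u}} {W : Y.Opens} (hW : IsAffineOpen W) (f : Γ(Y, W))
    (y : Y) (hy : y ∈ W) : y ∈ Y.basicOpen f ↔ f ∉ (hW.primeIdealOf ⟨y, hy⟩).asIdeal := by
  have h : (hW.primeIdealOf ⟨y, hy⟩) ∈ hW.fromSpec ⁻¹ᵁ Y.basicOpen f ↔
      (hW.primeIdealOf ⟨y, hy⟩) ∈ PrimeSpectrum.basicOpen f := by rw [hW.fromSpec_preimage_basicOpen]; rfl
  change (hW.fromSpec (hW.primeIdealOf ⟨y, hy⟩) ∈ Y.basicOpen f ↔ _) at h
  rw [hW.fromSpec_primeIdealOf] at h
  exact h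

omit [IsIntegral X] in
/-- The generic point of the sections over an affine open with domain of sections. -/
theorem exists_generic {Y : Scheme.{u}} {W : Y.Opens} (hW : IsAffineOpen W) [IsDomain Γ(Y, W)] :
    ∃ (ξ : Y) (hξ : ξ ∈ W), (hW.primeIdealOf ⟨ξ, hξ⟩).asIdeal = ⊥ ∧ ∀ y ∈ W, ξ ⤳ y := by
  obtain ⟨ξ, hξ, he⟩ := VarDim.exists_eq_primeIdealOf hW ⟨⊥, Ideal.isPrime_bot⟩
  refine ⟨ξ, hξ, congrArg PrimeSpectrum.asIdeal he, fun y hy => ?_⟩
  exact (UnibrBir.primeIdealOf_le_iff hW ⟨ξ, hξ⟩ ⟨y, hy⟩).1 (he ▸ bot_le)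

include hσ in
/-- A point specialising to everything, outside the zero set. -/
theorem exists_generic_XK :
    ∃ η : ↥(XK k n r), (∀ x, η ⤳ x) ∧ η ∉ zset k n r M σ := by
  obtain ⟨x₀, -⟩ := (pX k n r).surjective (genericPoint X)
  obtain ⟨U₀, j₀, hU₀, hxU₀, hj₀⟩ := exists_affine_mem k n r M σ hσ x₀
  haveI : Nonempty ↥U₀ := ⟨⟨_, hxU₀⟩⟩
  obtain ⟨hd₀, f₀, hf₀, hg₀, -⟩ := exists_chart k n r M σ hU₀ hj₀
  obtain ⟨η, hη, hη0, hηs⟩ := exists_generic (hU₀.preimage (pX k n r))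
  refine ⟨η, fun x => ?_, fun hz => ?_⟩
  · obtain ⟨U, j, hU, hxU, hj⟩ := exists_affine_mem k n r M σ hσ x
    haveI : Nonempty ↥U := ⟨⟨_, hxU⟩⟩
    obtain ⟨hd, -⟩ := exists_chart k n r M σ hU hj
    obtain ⟨η', hη', -, hη's⟩ := exists_generic (hU.preimage (pX k n r))
    obtain ⟨z, hz⟩ := (pX k n r).surjective (genericPoint X)
    have hzU : pX k n r z ∈ U := hz ▸ ((genericPoint_spec X).mem_open_set_iff U.isOpen).2
      ⟨_, Set.mem_univ _, hxU⟩
    have hzU₀ : pX k n r z ∈ U₀ := hz ▸ ((genericPoint_spec X).mem_open_set_iff U₀.isOpen).2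
      ⟨_, Set.mem_univ _, hxU₀⟩
    have h1 : η ∈ pX k n r ⁻¹ᵁ U₀ := hη
    exact (hηs η' ((hη's z hzU).mem_open (pX k n r ⁻¹ᵁ U₀).isOpen hzU₀)).trans (hη's x hxU)
  · refine hz ?_
    have h : η ∈ (XK k n r).basicOpen f₀ :=
      (mem_basicOpen_iff (hU₀.preimage (pX k n r)) f₀ η hη).2 fun hm => hf₀ (by rwa [hη0, Ideal.mem_bot] at hm)
    rw [← hg₀] at h
    exact h.1

include hσ in
/-- `X_{k(t)}` is integral. -/
theorem isIntegral_XK : IsIntegral (XK k n r) := by
  obtain ⟨η, hη, -⟩ := exists_generic_XK k n r M σ hσ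
  haveI : IrreducibleSpace ↥(XK k n r) :=
    { toNonempty := ⟨η⟩
      isPreirreducible_univ := by
        have h : (Set.univ : Set ↥(XK k n r)) = closure {η} :=
          (Set.eq_univ_of_forall fun x => (hη x).mem_closure).symm
        rw [h]
        exact isIrreducible_singleton.closure.isPreirreducible }
  haveI : IsReduced (XK k n r) := by
    haveI : ∀ x : ↥(XK k n r), _root_.IsReduced ((XK k n r).presheaf.stalk x) := fun x => by
      obtain ⟨U, j, hU, hxU, hj⟩ := exists_affine_mem k n r M σ hσ x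
      haveI : Nonempty ↥U := ⟨⟨_, hxU⟩⟩
      obtain ⟨hd, -⟩ := exists_chart k n r M σ hU hj
      have hW := hU.preimage (pX k n r)
      letI := (XK k n r).presheaf.algebra_section_stalk (⟨x, hxU⟩ : ↥(pX k n r ⁻¹ᵁ U))
      have := hW.isLocalization_stalk ⟨x, hxU⟩
      exact isReduced_localizationPreserves (hW.primeIdealOf ⟨x, hxU⟩).asIdeal.primeCompl _ inferInstance
    exact isReduced_of_isReduced_stalk _
  exact isIntegral_of_irreducibleSpace_of_isReduced _

include hσ in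
/-- The zero set is empty or irreducible. -/
theorem zset_irreducible :
    zset k n r M σ = ∅ ∨ ∃ ζ, zset k n r M σ = closure {ζ} := by
  rcases Set.eq_empty_or_nonempty (zset k n r M σ) with h | ⟨z₀, hz₀⟩
  · exact Or.inl h
  right
  have key : ∀ z ∈ zset k n r M σ, ∃ (U : X.Opens) (ζ : ↥(XK k n r)), pX k n r z ∈ U ∧
      ζ ∈ zset k n r M σ ∧ pX k n r ζ = genericPoint X ∧
      ∀ y ∈ zset k n r M σ, pX k n r y ∈ U → ζ ⤳ y := by
    intro z hz
    obtain ⟨U, j, hU, hzU, hj⟩ := exists_affine_mem k n r M σ hσ z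
    haveI : Nonempty ↥U := ⟨⟨_, hzU⟩⟩
    obtain ⟨hd, f, -, hg, hP⟩ := exists_chart k n r M σ hU hj
    have hW := hU.preimage (pX k n r)
    have hmem : ∀ y (hy : y ∈ pX k n r ⁻¹ᵁ U),
        y ∈ zset k n r M σ ↔ f ∈ (hW.primeIdealOf ⟨y, hy⟩).asIdeal := fun y hy => by
      rw [← not_not (a := f ∈ _), ← mem_basicOpen_iff hW f y hy, ← hg]
      exact not_congr ⟨fun h => ⟨h, hy⟩, fun h => h.1⟩
    rcases hP with ⟨hp, hc⟩ | ht
    swap
    · exact absurd ((Ideal.span_singleton_le_iff_mem _).2 ((hmem z hzU).1 hz))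
        (fun h => (hW.primeIdealOf ⟨z, hzU⟩).2.ne_top (top_unique (ht ▸ h)))
    obtain ⟨ζ, hζ, he⟩ := VarDim.exists_eq_primeIdealOf hW ⟨_, hp⟩
    have hspec : ∀ y ∈ zset k n r M σ, y ∈ pX k n r ⁻¹ᵁ U → ζ ⤳ y := fun y hy hyU =>
      (UnibrBir.primeIdealOf_le_iff hW ⟨ζ, hζ⟩ ⟨y, hyU⟩).1
        (he ▸ (Ideal.span_singleton_le_iff_mem _).2 ((hmem y hyU).1 hy))
    refine ⟨U, ζ, hzU, (hmem ζ hζ).2 (he ▸ Ideal.mem_span_singleton_self f), ?_, hspec⟩
    have h := hU.comap_primeIdealOf_appLE U (pX k n r ⁻¹ᵁ U) hW le_rfl hζ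
    rw [he, ← Scheme.Hom.app_eq_appLE] at h
    have hbot : (hU.primeIdealOf ⟨pX k n r ζ, hζ⟩).asIdeal = ⊥ :=
      (congrArg PrimeSpectrum.asIdeal h).symm.trans hc
    refine (Specializes.antisymm ?_ (genericPoint_specializes (pX k n r ζ))).eq
    refine (UnibrBir.primeIdealOf_le_iff hU ⟨pX k n r ζ, hζ⟩ ⟨genericPoint X,
      (genericPoint_specializes (pX k n r ζ)).mem_open U.isOpen hζ⟩).1 ?_
    exact (PrimeSpectrum.asIdeal_le_asIdeal _ _).1 (hbot ▸ bot_le)
  obtain ⟨U₁, ζ₁, hzU₁, hζ₁, hg₁, hall₁⟩ := key z₀ hz₀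
  refine ⟨ζ₁, subset_antisymm (fun y hy => ?_)
    ((isClosed_zset k n r M σ).closure_subset_iff.2 (Set.singleton_subset_iff.2 hζ₁))⟩
  obtain ⟨U₂, ζ₂, hyU₂, hζ₂, hg₂, hall₂⟩ := key y hy
  have h₂₁ : ζ₂ ⤳ ζ₁ := hall₂ ζ₁ hζ₁ (hg₁ ▸ (genericPoint_specializes _).mem_open U₂.isOpen hyU₂)
  have h₁₂ : ζ₁ ⤳ ζ₂ := hall₁ ζ₂ hζ₂ (hg₂ ▸ (genericPoint_specializes _).mem_open U₁.isOpen hzU₁)
  exact (h₁₂.trans (hall₂ y hy hyU₂)).mem_closure

end Groth.Agent.NumTriv.GenHyp
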