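import Groth.Agent.NumTriv.OnSet
import Groth.Agent.NumTriv.HomKernel

/-!
# Euler characteristics of ideals twisted by modules trivial on a hyperplane section
-/

universe u

open CategoryTheory CategoryTheory.Limits AlgebraicGeometry

set_option linter.style.haveILetI false

noncomputable section

namespace Groth.Agent.NumTriv.IdealBound

open ProjTwist ProjTwist.Pn OnSet

attribute [local instance] HomKernel.hasHom

variable {k : Type u} [Field k] {n : ℕ} {X : Scheme.{u}} [X.Over (Spec (CommRingCat.of k))]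
  [IsProper (X ↘ Spec (CommRingCat.of k))] [IsIntegral X] (i : X ⟶ CohB1.ProjSpace n k)
  [IsClosedImmersion i] (hi : i ≫ CohB1.ProjSpace.toSpec n k = X ↘ Spec (CommRingCat.of k))
  (σ : oX i (-1) ⟶ Coh.structureModule X) (hσ : σ ≠ 0) {S : Set X}
  (hS : CohB1.support (cokernel σ) ⊆ S)

omit [X.Over (Spec (CommRingCat.of k))] [IsProper (X ↘ Spec (CommRingCat.of k))]
  [IsClosedImmersion i] in
include hσ hS in
/-- Multiplication by the section on an ideal. -/
theorem exists_mul {F : X.Modules} (a : F ⟶ Coh.structureModule X) [Mono a] :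
    ∃ φ : Pic13.twistOn k i F (-1) ⟶ F, Mono φ ∧ CohB1.support (cokernel φ) ⊆ S := by
  haveI hσm : Mono σ :=
    EulerChar.mono_of_ne_zero (isInvertible_oX i (-1)) (LFFrame.isInvertible_structureModule X) σ hσ
  let T := DCoh.tensorBi (X := X)
  haveI hm : Mono ((T.map a).app (oX i (-1))) :=
    (ProjTwist.shortExact_tensor (isInvertible_oX i (-1)) (HilbPolyX.shortExact_of_mono a)).mono_f
  haveI hO : Mono ((T.obj (Coh.structureModule X)).map σ) := by
    haveI : Mono (σ : (𝟭 X.Modules).obj _ ⟶ (𝟭 X.Modules).obj _) := hσm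
    have h := HomKernel.unitNatIso.hom.naturality σ
    haveI : Mono ((T.obj (Coh.structureModule X)).map σ ≫ HomKernel.unitNatIso.hom.app _) := by
      rw [h]
      exact mono_comp _ _
    exact mono_of_mono _ (HomKernel.unitNatIso.hom.app _)
  haveI h1 : Mono ((T.obj F).map σ) := by
    haveI : Mono ((T.obj F).map σ ≫ (T.map a).app (Coh.structureModule X)) := by
      rw [(T.map a).naturality σ]
      exact mono_comp _ _
    exact mono_of_mono _ ((T.map a).app _)
  refine ⟨(T.obj F).map σ ≫ (tensOne F).hom, @mono_comp _ _ _ _ _ _ h1 _ inferInstance, ?_⟩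
  haveI : (T.obj F).IsLeftAdjoint := (DCoh.sheafHomAdj F).isLeftAdjoint
  let e : cokernel ((T.obj F).map σ ≫ (tensOne F).hom) ≅ CohB1.tensorMod F (cokernel σ) :=
    cokernelCompIsIso ((T.obj F).map σ) (tensOne F).hom ≪≫ (PreservesCokernel.iso (T.obj F) σ).symm
  refine (CohDev.support_subset_of_mono e.hom).trans (Set.Subset.trans ?_ hS)
  exact (CohDev.support_subset_of_mono (tensComm F (cokernel σ)).hom).trans
    (HilbPolyX.support_tensorMod_subset _ F)

include hi hσ hS in
/-- The basic sequence with uniform control of the third term. -/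
theorem exists_seq [Infinite k] {F : X.Modules} (a : F ⟶ Coh.structureModule X) [Mono a]
    (hF : Coh.IsCoh F) :
    ∃ (C : X.Modules) (f : Pic13.twistOn k i F (-1) ⟶ F) (g : F ⟶ C) (w : f ≫ g = 0),
      (ShortComplex.mk f g w).ShortExact ∧ Coh.IsCoh C ∧ CohB1.support C ⊆ S := by
  haveI := EulerChar.isNoetherian k (X := X)
  obtain ⟨φ, hφ, hsupp⟩ := exists_mul i σ hσ hS a
  exact ⟨cokernel φ, φ, cokernel.π φ, cokernel.condition _, HilbPolyX.shortExact_of_mono φ,
    CohDev.isCoh_cokernel φ (isCoh_twistOn i hF (-1)).1 hF, hsupp⟩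

include hi hσ hS in
/-- The deviation does not depend on the twist. -/
theorem euler_twist_const [Infinite k] {F : X.Modules} (a : F ⟶ Coh.structureModule X) [Mono a]
    (hF : Coh.IsCoh F) {M : X.Modules} (hM : NumOn k S M) (c : ℤ) :
    Curv2.euler k X (CohB1.tensorMod (Pic13.twistOn k i F c) M) -
        Curv2.euler k X (Pic13.twistOn k i F c) =
      Curv2.euler k X (CohB1.tensorMod F M) - Curv2.euler k X F := by
  haveI := EulerChar.isNoetherian k (X := X)
  obtain ⟨C, f, g, w, hex, hC, hsupp⟩ := exists_seq i hi σ hσ hS a hF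
  let D : ℤ → ℤ := fun c => Curv2.euler k X (CohB1.tensorMod (Pic13.twistOn k i F c) M) -
    Curv2.euler k X (Pic13.twistOn k i F c)
  have hstep : ∀ c : ℤ, D c = D (c - 1) := fun c => by
    have hA := isCoh_twistOn i hF (-1)
    have h1 := euler_twistOn_add i hex hA hF hC c
    have h2 := euler_twistOn_add i (ProjTwist.shortExact_tensor hM.1 hex) (isCoh_tens k hM.1 hA)
      (isCoh_tens k hM.1 hF) (isCoh_tens k hM.1 hC) c
    obtain ⟨e⟩ := nonempty_twistTwist i F (-1) c (c - 1) (by ring)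
    have h3 := (uniform_on i hi (isCoh_twistOn i hC c)
      ((HilbPolyX.support_tensorMod_subset C (oX i c)).trans hsupp)).1 M hM
    dsimp only [Functor.flip_obj_obj, ShortComplex.map_X₁, ShortComplex.map_X₂, ShortComplex.map_X₃] at h1 h2
    rw [EulerChar.euler_iso k e] at h1
    have e1 : Curv2.euler k X (Pic13.twistOn k i (CohB1.tensorMod F M) c) =
        Curv2.euler k X (CohB1.tensorMod (Pic13.twistOn k i F c) M) :=
      EulerChar.euler_iso k (twistTens i F M c)
    have e2 : Curv2.euler k X (Pic13.twistOn k i (CohB1.tensorMod C M) c) =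
        Curv2.euler k X (CohB1.tensorMod (Pic13.twistOn k i C c) M) :=
      EulerChar.euler_iso k (twistTens i C M c)
    have e3 : Curv2.euler k X (Pic13.twistOn k i (CohB1.tensorMod (Pic13.twistOn k i F (-1)) M) c) =
        Curv2.euler k X (CohB1.tensorMod (Pic13.twistOn k i F (c - 1)) M) :=
      EulerChar.euler_iso k (twistTens i _ M c ≪≫ tensCongr e (Iso.refl M))
    change _ = Curv2.euler k X (Pic13.twistOn k i (CohB1.tensorMod (Pic13.twistOn k i F (-1)) M) c) +
      Curv2.euler k X (Pic13.twistOn k i (CohB1.tensorMod C M) c) at h2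
    simp only [D]
    change Curv2.euler k X (Pic13.twistOn k i (CohB1.tensorMod F M) c) = _ at h2
    omega
  have hall : ∀ c : ℤ, D c = D 0 := fun c => by
    induction c using Int.induction_on with
    | zero => rfl
    | succ c ih => rw [hstep, add_sub_cancel_right, ih]
    | pred c ih => rw [← hstep, ih]
  obtain ⟨e₀⟩ := nonempty_oX_zero i
  refine (hall c).trans ?_
  let e₁ : Pic13.twistOn k i F 0 ≅ F := tensCongr (Iso.refl F) e₀ ≪≫ tensOne F
  simp only [D]
  rw [EulerChar.euler_iso k (tensCongr e₁ (Iso.refl M)), EulerChar.euler_iso k e₁]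

include hi hσ hS in
/-- `H⁰(X, M(-1)) = 0`. -/
theorem h0Tw_eq_zero [Infinite k] {d : ℕ}
    (hd : topologicalKrullDim X = ((d + 2 : ℕ) : WithBot ℕ∞)) {M : X.Modules} (hM : NumOn k S M) :
    h0Tw (NumTriv.G i (Coh.structureModule X) M) (-1) = 0 := by
  haveI := EulerChar.isNoetherian k (X := X)
  haveI := isLocallyNoetherian_projSpace n k
  by_contra hne
  have hO := ProperFin.isCoh_structureModule X
  have hOI := LFFrame.isInvertible_structureModule X
  let E := Pic13.twistOn k i (CohB1.tensorMod (Coh.structureModule X) M) (-1)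
  have hE : PicF.IsInvertible E := AmpleLib.isInvertible_tensorMod
    (AmpleLib.isInvertible_tensorMod hOI hM.1) (isInvertible_oX i (-1))
  haveI hEq : Coh.IsQCoh E := ProjTwist.isQCoh_of_isInvertible hE
  haveI : Coh.IsQCoh (CohB1.tensorMod (Coh.structureModule X) M) := (isCoh_tens k hM.1 hO).1
  obtain ⟨s, hs⟩ : ∃ s : Γ(E, ⊤), s ≠ 0 := by
    by_contra hall
    push Not at hall
    haveI : Subsingleton Γ(E, ⊤) := subsingleton_of_forall_eq 0 hall
    haveI : Subsingleton (Coh.HH X E 0) := (ProperFin.h0Sec E).toEquiv.subsingleton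
    exact hne (@Module.finrank_zero_of_subsingleton _ _ _ _ _ _
      ((CMReg.subsingleton_twistOn_iff i _ (-1) 0).1 ‹_›))
  have hs' : Props.GenLocus.homOfSec s ≠ 0 := fun h => hs (by
    have h1 := Props.GenLocus.sec_homOfSec s ⊤
    rw [QCoh.res_self, h] at h1
    exact h1.symm.trans rfl)
  let φ := Props.GenLocus.homOfSec s
  haveI : Mono φ := EulerChar.mono_of_ne_zero hOI hE φ hs'
  have hB : Coh.IsCoh E := isCoh_twistOn i (isCoh_tens k hM.1 hO) (-1)
  have hQ : Coh.IsCoh (cokernel φ) := CohDev.isCoh_cokernel φ hO.1 hB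
  obtain ⟨P, hP⟩ := HilbPolyX.exists_hilbPoly k (isInvertible_oX i 1) hO
  have hPt : ∀ t : ℕ,
      (Curv2.euler k X (Pic13.twistOn k i (Coh.structureModule X) t) : ℚ) = P.eval (t : ℚ) := by
    intro t
    obtain ⟨e'⟩ := nonempty_oX_pow i t
    rw [← hP t]
    exact congrArg Int.cast
      (EulerChar.euler_iso k (tensCongr (Iso.refl (Coh.structureModule X)) e')).symm
  have hsupp : topologicalKrullDim ↥(CohB1.support (Coh.structureModule X)) = ((d + 2 : ℕ) : WithBot ℕ∞) := by
    refine le_antisymm (EulerChar.dim_support_le hd.le) ?_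
    have hu : CohB1.support (Coh.structureModule X) = Set.univ := by
      refine Set.eq_univ_of_forall fun x hx => ?_
      obtain ⟨e⟩ := EulerChar.stalk_ofRank (ProjTwist.isFinLocFreeOfRank_one hOI) x
      haveI : Subsingleton ((Coh.structureModule X).presheaf.stalk x) := hx
      haveI : Subsingleton (Fin 1 → X.presheaf.stalk x) := e.injective.subsingleton
      exact one_ne_zero (congrFun (Subsingleton.elim (1 : Fin 1 → X.presheaf.stalk x) 0) 0)
    rw [hu, IsHomeomorph.topologicalKrullDim_eq _ (Homeomorph.Set.univ X).isHomeomorph, hd]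
  have hpos : 0 < P.coeff (d + 1 + 1) :=
    HilbPolyX.coeff_pos k (isAmple_oX_one i) (d + 2) hO hP hsupp
  obtain ⟨t₀, ht₀⟩ := euler_twistOn_nonneg i hi hQ
  refine false_of_poly_le (HilbPolyX.natDegree_le k (isInvertible_oX i 1) hO hP
      (EulerChar.dim_support_le (le_of_eq hd) : _ ≤ ((d + 1 + 1 : ℕ) : WithBot ℕ∞))) hpos
    (c := ((Curv2.euler k X (CohB1.tensorMod (Coh.structureModule X) M) -
      Curv2.euler k X (Coh.structureModule X) : ℤ) : ℚ)) (fun h => absurd h (by omega)) (t₀ := t₀)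
    fun t ht => ?_
  rw [← hPt, ← hPt, ← Int.cast_add]
  have h3 := ht₀ (t + 1) (by omega)
  have h1 := euler_twistOn_add i (HilbPolyX.shortExact_of_mono φ) hO hB hQ ((t + 1 : ℕ) : ℤ)
  obtain ⟨e⟩ := nonempty_twistTwist i (CohB1.tensorMod (Coh.structureModule X) M) (-1) ((t + 1 : ℕ) : ℤ)
    (t : ℤ) (by push_cast; ring)
  dsimp only at h1
  have h4 : Curv2.euler k X (Pic13.twistOn k i E ((t + 1 : ℕ) : ℤ)) =
      Curv2.euler k X (CohB1.tensorMod (Pic13.twistOn k i (Coh.structureModule X) (t : ℤ)) M) :=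
    EulerChar.euler_iso k (e ≪≫ twistTens i _ M (t : ℤ))
  have h5 := euler_twist_const i hi σ hσ hS (𝟙 (Coh.structureModule X)) hO hM (t : ℤ)
  exact_mod_cast (by omega : Curv2.euler k X (Pic13.twistOn k i (Coh.structureModule X)
    ((t + 1 : ℕ) : ℤ)) ≤ _)

include hi hσ hS in
/-- The Euler characteristic of an ideal tensored by such modules is bounded above. -/
theorem exists_bound [Infinite k] {d : ℕ}
    (hd : topologicalKrullDim X = ((d + 2 : ℕ) : WithBot ℕ∞)) {F : X.Modules}
    (a : F ⟶ Coh.structureModule X) [Mono a] (hF : Coh.IsCoh F) :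
    ∃ B : ℤ, ∀ M : X.Modules, NumOn k S M →
      Curv2.euler k X (CohB1.tensorMod F M) - Curv2.euler k X F ≤ B := by
  haveI := EulerChar.isNoetherian k (X := X)
  haveI := isLocallyNoetherian_projSpace n k
  obtain ⟨C, f, g, wfg, hex, hC, hsupp⟩ := exists_seq i hi σ hσ hS a hF
  obtain ⟨-, m, hm⟩ := uniform_on i hi hC hsupp
  have hseq : ∀ M : X.Modules, NumOn k S M →
      ∃ (a : twF (NumTriv.G i F M) (-1) ⟶ NumTriv.G i F M) (b : NumTriv.G i F M ⟶ NumTriv.G i C M)
        (w : a ≫ b = 0), (ShortComplex.mk a b w).ShortExact := fun M hM => by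
    have hS' := shortExact_push i (ProjTwist.shortExact_tensor hM.1 hex)
    let ε : twF (NumTriv.G i F M) (-1) ≅ NumTriv.G i (Pic13.twistOn k i F (-1)) M :=
      CMReg.pushTwistIso i (CohB1.tensorMod F M) (-1) ≪≫ (Coh.push i).mapIso (twistTens i F M (-1))
    obtain ⟨w, h⟩ := exists_shift hS' ε
    exact ⟨_, _, w, h⟩
  let q : ℕ := (Curv2.euler k X (Pic13.twistOn k i C m)).toNat
  have hQ : ∀ M : X.Modules, NumOn k S M → ∀ j : ℤ, j ≤ m → h0Tw (NumTriv.G i C M) j ≤ q := by
    intro M hM j hj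
    refine (h0Tw_mono (isCoh_G i hM.1 hC) hj).trans ?_
    have h := EulerFam.h0Tw_eq_chi (isCoh_G i hM.1 hC) (hm M hM)
    rw [chi_G i hi hM.1 hC, (uniform_on i hi (isCoh_twistOn i hC m)
      ((HilbPolyX.support_tensorMod_subset C (oX i m)).trans hsupp)).1 M hM] at h
    simp only [q, ← h, Int.toNat_natCast, le_refl]
  have hgrow : ∀ M : X.Modules, NumOn k S M → ∀ j : ℤ, ∀ c : ℕ, j + c ≤ m →
      h0Tw (NumTriv.G i F M) (j + c) ≤ h0Tw (NumTriv.G i F M) j + c * q := by
    intro M hM j c
    induction c with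
    | zero => simp
    | succ c ih =>
      intro hc
      obtain ⟨a, b, w, hS'⟩ := hseq M hM
      have h1 := h0Tw_le_add hS' (isCoh_tw (isCoh_G i hM.1 hF) (-1)) (isCoh_G i hM.1 hF)
        (isCoh_G i hM.1 hC) (j + (c + 1 : ℕ))
      have h2 : h0Tw (twF (NumTriv.G i F M) (-1)) (j + (c + 1 : ℕ)) =
          h0Tw (NumTriv.G i F M) (j + c) :=
        finrank_iso (twTw (NumTriv.G i F M) (-1) (j + (c + 1 : ℕ)) (j + c) (by push_cast; ring)) 0
      have h3 := hQ M hM (j + (c + 1 : ℕ)) hc
      have h4 := ih (by omega)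
      rw [h2] at h1
      rw [Nat.succ_mul]
      dsimp only at h1
      omega
  let j₀ := min (-1) (m - 1)
  refine ⟨((m - 1 - j₀).toNat * q : ℕ) - Curv2.euler k X (Pic13.twistOn k i F (m - 1)),
    fun M hM => ?_⟩
  have hlow : h0Tw (NumTriv.G i F M) j₀ ≤ 0 := by
    rw [← h0Tw_eq_zero i hi σ hσ hS hd hM]
    refine (h0Tw_mono (isCoh_G i hM.1 hF) (min_le_left _ _)).trans ?_
    have hT := ProjTwist.shortExact_tensor hM.1 (HilbPolyX.shortExact_of_mono a)
    haveI := (shortExact_push i hT).mono_f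
    exact h0Tw_le_of_mono (shortExact_push i hT) (isCoh_G i hM.1 (ProperFin.isCoh_structureModule X)) _
  have hB := hgrow M hM j₀ (m - 1 - j₀).toNat (by omega)
  rw [show j₀ + ((m - 1 - j₀).toNat : ℤ) = m - 1 by omega] at hB
  obtain ⟨a', b', w, hS'⟩ := hseq M hM
  have hchi : (h0Tw (NumTriv.G i F M) (m - 1) : ℤ) - h1Tw (NumTriv.G i F M) (m - 1) =
      Curv2.euler k X (CohB1.tensorMod (Pic13.twistOn k i F (m - 1)) M) := by
    rw [← chi_G i hi hM.1 hF, chi_eq_of_vanishing fun q hq =>
      extension_subsingleton a' b' w hS' (isCoh_G i hM.1 hF) (isCoh_G i hM.1 hC).1 (hm M hM) q hq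
        (m - 1) (by omega)]
  have hc := euler_twist_const i hi σ hσ hS a hF hM (m - 1)
  omega

end Groth.Agent.NumTriv.IdealBound
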