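import Groth.Agent.NumTriv.GenHyp
import Groth.Agent.NumTriv.Section
import Groth.Agent.NumTriv.AnyField
import Groth.Agent.NefPos.SecRank
import Groth.Agent.BigVol.SemiAmple
import Groth.Agent.CohAff.ResOps

/-!
# The Hodge index theorem in any dimension

If `(D · A^{r-1}) = 0` and `(D² · A^{r-2}) ≥ 0` for an ample `A` on an integral proper scheme of
dimension `r ≥ 2` over an infinite field, then `D` is numerically trivial.
-/

set_option autoImplicit false

universe u

open CategoryTheory CategoryTheory.Limits AlgebraicGeometry TopologicalSpace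

set_option linter.style.haveILetI false

noncomputable section

namespace Groth.Agent.NumTriv.IndexThm

open ProjTwist OnSet NefPos IntProd70 Groth.Agent.Props.GenLocus

section
variable (k : Type u) [Field k] {X : Scheme.{u}} [X.Over (Spec (CommRingCat.of k))]
  [IsProper (X ↘ Spec (CommRingCat.of k))]

/-- Scaling some entries. -/
theorem iC_append_pow {A : X.Modules} (hA : PicF.IsInvertible A) (a : ℕ) {G : X.Modules} (hG : Coh.IsCoh G) :
    ∀ (m : ℕ) (pre : List X.Modules), (∀ B ∈ pre, PicF.IsInvertible B) →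
      topologicalKrullDim ↥(CohB1.support G) ≤ ((m + pre.length : ℕ) : WithBot ℕ∞) →
      iC k (List.replicate m (CohB1.tensorPow A a) ++ pre) G = (a : ℤ) ^ m * iC k (List.replicate m A ++ pre) G
  | 0, pre, _, _ => by simp
  | m + 1, pre, hpre, hd => by
    have hAa := AmpleLib.isInvertible_tensorPow hA a
    rw [List.replicate_succ, List.cons_append, iC_perm k (List.perm_middle.symm),
      iC_append_pow hA a hG m (CohB1.tensorPow A a :: pre)
        (fun B hB => by
          rcases List.mem_cons.1 hB with rfl | hB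
          · exact hAa
          · exact hpre B hB)
        (by simpa [add_assoc, add_comm, add_left_comm] using hd),
      iC_perm k List.perm_middle,
      iC_pow k (l := List.replicate m A ++ pre) (fun B hB => by
        rcases List.mem_append.1 hB with hB | hB
        · exact (List.eq_of_mem_replicate hB) ▸ hA
        · exact hpre B hB) hA hG (by simpa [add_assoc, add_comm, add_left_comm] using hd) a,
      List.replicate_succ, List.cons_append, pow_succ]
    ring

/-- All intersection numbers against a module with one top piece are multiples of those of the piece. -/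
theorem exists_mult {Q : X.Modules} (hQ : Coh.IsCoh Q) {e : ℕ}
    (hd : topologicalKrullDim ↥(CohB1.support Q) ≤ (e : WithBot ℕ∞)) (ζ : X)
    (hζ : ∀ η ∈ CohB1.support Q, topologicalKrullDim ↥(closure ({η} : Set X)) = (e : WithBot ℕ∞) → η = ζ) :
    ∃ m : ℕ, ∀ l : List X.Modules, (∀ A ∈ l, PicF.IsInvertible A) → l.length = e →
      iC k l Q = m * iC k l (Cyc.closureStructureSheaf ζ) := by
  haveI := EulerChar.isNoetherian k (X := X)
  have hfin := finite_top (CohDev.isClosed_support hQ) hd
  refine ⟨∑ ξ ∈ hfin.toFinset, (len Q ξ).toNat, fun l hl he => ?_⟩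
  subst he
  have hN : ∀ i : Fin l.length, PicF.IsInvertible (l.get i) := fun i => hl _ (List.get_mem l i)
  rw [iC_get k hl hQ, intC, intE_components k hN (CohDev.isClosed_support hQ) hd hfin.toFinset
    (fun ξ => hfin.mem_toFinset) hQ subset_rfl, Finset.mul_sum, Nat.cast_sum, Finset.sum_mul]
  refine Finset.sum_congr rfl fun ξ hξ => ?_
  obtain rfl := hζ ξ (hfin.mem_toFinset.1 hξ).1 (hfin.mem_toFinset.1 hξ).2
  rw [iC_get k hl (CohDev.isCoh_oz ξ), intC, mul_left_comm]

/-- A module of degree zero on an integral curve is trivial on it. -/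
theorem numOn_curve {D : X.Modules} (hD : PicF.IsInvertible D) (ζ : X)
    (hζ : topologicalKrullDim ↥(closure ({ζ} : Set X)) = ((1 : ℕ) : WithBot ℕ∞))
    (h : iC k [D] (Cyc.closureStructureSheaf ζ) = 0) : NumOn k (closure ({ζ} : Set X)) D := by
  haveI := EulerChar.isNoetherian k (X := X)
  refine ⟨hD, fun F hF hFs _ => sub_eq_zero.1 ?_⟩
  rw [← dev_kcl k hD hF]
  have hmem := CohDev.kcl_mem_closure_oz hF
  revert hmem
  generalize CohDev.kcl F = c
  intro hmem
  induction hmem using AddSubgroup.closure_induction with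
  | zero => exact map_zero _
  | add x y _ _ hx hy => rw [map_add, hx, hy, add_zero]
  | neg x _ hx => rw [map_neg, hx, neg_zero]
  | mem c hc =>
    obtain ⟨y, hy, rfl⟩ := hc
    rw [dev_kcl k hD (CohDev.isCoh_oz y)]
    by_cases hyζ : y = ζ
    · subst hyζ
      rw [iC_cons, iC_nil, iC_nil] at h
      rwa [EulerChar.euler_iso k (tensComm (Cyc.closureStructureSheaf y) D)]
    have h0 : topologicalKrullDim ↥(closure ({y} : Set X)) ≤ ((0 : ℕ) : WithBot ℕ∞) :=
      Snapper.le_of_lt_succ (CohDev.dim_lt_of_irreducible isClosed_closure isIrreducible_singleton.closure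
        (closure_minimal (Set.singleton_subset_iff.2 (hFs hy)) isClosed_closure)
        (fun hsub => hyζ ((specializes_iff_mem_closure.2 (hsub (subset_closure rfl))).antisymm
          (specializes_iff_mem_closure.2 (hFs hy))).eq) hζ.le)
    rw [euler_tens_dim_zero k hD (CohDev.isCoh_oz y)
      ((CohDev.dim_mono (CohDev.support_oz_subset y)).trans h0), sub_self]

include k in
/-- Finitely many sections generating a globally generated module. -/
theorem exists_gens {B : X.Modules} (hB : PicF.IsInvertible B) (hgg : Curv2.IsGloballyGenerated B) :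
    ∃ (n : ℕ) (σ : Fin n → Γ(B, ⊤)), ∀ x : X, ∃ j, x ∈ CohB1.genLocus B (homOfSec (σ j)) := by
  haveI : CompactSpace X := EulerChar.compactSpace k
  choose σ hσ' using fun x => DimOneAmple.exists_genLocus_mem hB hgg x
  have hσ : ∀ x, x ∈ CohB1.genLocus B (homOfSec (σ x)) := fun x => by
    rw [AmpleLib.genLocus_homOfSec]; exact hσ' x
  obtain ⟨t, ht⟩ := isCompact_univ.elim_finite_subcover
    (fun x => (CohB1.genLocus B (homOfSec (σ x)) : Set X)) (fun x => (CohB1.genLocus B (homOfSec (σ x))).isOpen)
    (fun x _ => Set.mem_iUnion.2 ⟨x, hσ x⟩)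
  refine ⟨t.card, fun j => σ (t.equivFin.symm j).1, fun x => ?_⟩
  obtain ⟨y, hy, hxy⟩ := Set.mem_iUnion₂.1 (ht (Set.mem_univ x))
  exact ⟨t.equivFin ⟨y, hy⟩, by simp only [Equiv.symm_apply_apply]; exact hxy⟩

/-- On an irreducible scheme intersection numbers are multiples of those of the reduction. -/
theorem exists_generic_mult [IrreducibleSpace X] {H : X.Modules} (hH : CohB1.IsAmple H) {e : ℕ}
    (hdim : topologicalKrullDim X = (e : WithBot ℕ∞)) :
    topologicalKrullDim ↥(closure ({genericPoint X} : Set X)) = (e : WithBot ℕ∞) ∧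
      ∃ m : ℕ, 0 < m ∧ ∀ l : List X.Modules, (∀ A ∈ l, PicF.IsInvertible A) → l.length = e →
        iC k l (Coh.structureModule X) = m * iC k l (Cyc.closureStructureSheaf (genericPoint X)) := by
  haveI := EulerChar.isNoetherian k (X := X)
  have hO := ProperFin.isCoh_structureModule X
  have hsu : CohB1.support (Coh.structureModule X) = Set.univ :=
    Set.eq_univ_of_forall fun x h => by
      obtain ⟨e⟩ := EulerChar.stalk_ofRank
        (ProjTwist.isFinLocFreeOfRank_one (LFFrame.isInvertible_structureModule X)) x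
      have : Subsingleton ((Coh.structureModule X).presheaf.stalk x) := h
      exact not_subsingleton (Fin 1 → X.presheaf.stalk x) e.injective.subsingleton
  have huniv : topologicalKrullDim ↥(Set.univ : Set X) = (e : WithBot ℕ∞) :=
    (IsHomeomorph.topologicalKrullDim_eq _ (Homeomorph.Set.univ X).isHomeomorph).trans hdim
  have hξc : closure ({genericPoint X} : Set X) = Set.univ := genericPoint_spec X
  have hξd : topologicalKrullDim ↥(closure ({genericPoint X} : Set X)) = (e : WithBot ℕ∞) := by
    rw [hξc]; exact huniv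
  refine ⟨hξd, ?_⟩
  have huniq : ∀ z ∈ CohB1.support (Coh.structureModule X),
      topologicalKrullDim ↥(closure ({z} : Set X)) = (e : WithBot ℕ∞) → z = genericPoint X := by
    intro z _ hzd
    by_contra hne
    refine absurd (CohDev.dim_lt_of_irreducible isClosed_closure isIrreducible_singleton.closure
      (hξc ▸ Set.subset_univ (closure ({z} : Set X))) (fun h => hne ?_) hξd.le) (by rw [hzd]; exact lt_irrefl _)
    exact ((specializes_iff_mem_closure.2 (h (subset_closure rfl))).antisymm (genericPoint_specializes z)).eq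
  obtain ⟨m, hm⟩ := exists_mult k hO (EulerChar.dim_support_le hdim.le) _ huniq
  refine ⟨m, Nat.pos_of_ne_zero fun h0 => ?_, hm⟩
  have h := pos_ample k hH H hdim (by rw [hsu]; exact huniv)
  have h' : 0 < iC k (List.replicate e H) (Coh.structureModule X) := by simpa [Dfun, word] using h
  rw [hm _ (fun C hC => (List.eq_of_mem_replicate hC) ▸ hH.1) List.length_replicate, h0, Nat.cast_zero,
    zero_mul] at h'
  exact lt_irrefl _ h'

end

/-- A section of an invertible module generating somewhere on an integral scheme is a mono. -/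
theorem mono_of_genLocus {X : Scheme.{u}} [IsIntegral X] {L : X.Modules} (hL : PicF.IsInvertible L)
    (s : Coh.structureModule X ⟶ L) {x₀ : X} (hx₀ : x₀ ∈ CohB1.genLocus L s) : Mono s := by
  open Groth.Agent.QCoh in
  refine CohAff.mono_of_app_injective s fun O => ?_
  intro a b hab
  have hab' : (show Γ(X, O) from a) • sec s O = (show Γ(X, O) from b) • sec s O := by
    rw [← app_eq s O, ← app_eq s O]; exact hab
  refine TopCat.Sheaf.eq_of_locally_eq' X.sheaf
    (fun V : {V : X.Opens // V ≤ O ∧ ∃ e, IsGen L V e} => V.1) O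
    (fun V => homOfLE V.2.1) (fun x hx => ?_) a b fun V => ?_
  · obtain ⟨W, e, hxW, he⟩ := exists_isGen hL x
    exact Opens.mem_iSup.mpr ⟨⟨W ⊓ O, inf_le_right, _, he.restrict inf_le_left⟩, hxW, hx⟩
  · obtain ⟨V, hVO, e, he⟩ := V
    rcases isEmpty_or_nonempty V with hV | hV
    · haveI := hV
      haveI : Subsingleton Γ(X, V) := by
        have : V = ⊥ := eq_bot_iff.mpr fun z hz => (hV.false ⟨z, hz⟩).elim
        subst this; exact CommRingCat.subsingleton_of_isTerminal X.sheaf.isTerminalOfEmpty
      exact Subsingleton.elim (α := Γ(X, V)) _ _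
    obtain ⟨f, hf, -⟩ := he.exists_eq le_rfl (sec s V)
    rw [QCoh.res_self] at hf
    have hf0 : f ≠ 0 := by
      rintro rfl
      have h2 := genLocus_inf he s hf
      rw [Scheme.basicOpen_zero] at h2
      have h3 : (((CohB1.genLocus L s ⊓ V : X.Opens) : Set X)).Nonempty :=
        nonempty_preirreducible_inter (CohB1.genLocus L s).2 V.2 ⟨x₀, hx₀⟩
          ⟨hV.some.1, hV.some.2⟩
      rw [h2] at h3
      exact h3.ne_empty rfl
    have h1 := congrArg (QCoh.res L hVO) hab'
    rw [QCoh.res_smul, QCoh.res_smul, sec_res, hf, smul_smul, smul_smul] at h1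
    have h2 : QCoh.rres hVO a * f = QCoh.rres hVO b * f :=
      he.injective le_rfl (by rw [QCoh.res_self]; exact h1)
    haveI := hV
    exact mul_right_cancel₀ (M₀ := Γ(X, V)) hf0 h2

/-- Field extension does not change intersection numbers. -/
theorem iC_baseChange {k K : Type u} [Field k] [Field K] [Algebra k K] {Y Z : Scheme.{u}}
    [Y.Over (Spec (CommRingCat.of k))] [IsProper (Y ↘ Spec (CommRingCat.of k))]
    [Z.Over (Spec (CommRingCat.of K))] [IsProper (Z ↘ Spec (CommRingCat.of K))] (p : Z ⟶ Y)
    (H : IsPullback p (Z ↘ Spec (CommRingCat.of K)) (Y ↘ Spec (CommRingCat.of k))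
      (Spec.map (CommRingCat.ofHom (algebraMap k K)))) :
    ∀ (l : List Y.Modules), (∀ A ∈ l, PicF.IsInvertible A) → ∀ G : Y.Modules, Coh.IsCoh G →
      iC K (l.map (Scheme.Modules.pullback p).obj) ((Scheme.Modules.pullback p).obj G) = iC k l G
  | [], _, G, hG => BigVol.FieldPoint.euler_baseChange (Y ↘ Spec (CommRingCat.of k)) p
      (Z ↘ Spec (CommRingCat.of K)) H G hG
  | A :: l, hl, G, hG => by
    have hl' : ∀ B ∈ l, PicF.IsInvertible B := fun B hB => hl B (List.mem_cons_of_mem A hB)
    have e : iC K (l.map (Scheme.Modules.pullback p).obj)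
        (CohB1.tensorMod ((Scheme.Modules.pullback p).obj A) ((Scheme.Modules.pullback p).obj G)) =
        iC K (l.map (Scheme.Modules.pullback p).obj) ((Scheme.Modules.pullback p).obj (CohB1.tensorMod A G)) :=
      (iC_iso K _ (KFlat.PullTensor.pullTensorIso p A G)).symm
    rw [List.map_cons, iC_cons, iC_cons, iC_baseChange p H l hl' G hG, e,
      iC_baseChange p H l hl' _ (Snapper.isCoh_tensorMod k (hl A List.mem_cons_self) hG)]

/-- The index statement in dimension `s + 2`. -/
def Index (s : ℕ) : Prop :=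
  ∀ (k : Type u) [Field k] [Infinite k] (X : Scheme.{u}) [X.Over (Spec (CommRingCat.of k))]
    [IsProper (X ↘ Spec (CommRingCat.of k))] [IsIntegral X] (A D : X.Modules),
    CohB1.IsAmple A → PicF.IsInvertible D →
    topologicalKrullDim X = ((s + 2 : ℕ) : WithBot ℕ∞) →
    iC k (D :: List.replicate (s + 1) A) (Coh.structureModule X) = 0 →
    0 ≤ iC k (D :: D :: List.replicate s A) (Coh.structureModule X) → Num1 k D

set_option maxHeartbeats 1000000 in
/-- The index theorem. -/
theorem index : ∀ s : ℕ, Index.{u} s := by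
  intro s
  induction s using Nat.strong_induction_on with
  | _ s IH =>
  intro k _ _ X _ _ _ A D hA hD hd h1 h2
  haveI := EulerChar.isNoetherian k (X := X)
  haveI : CompactSpace X := EulerChar.compactSpace k
  obtain ⟨c, hgg⟩ := BigVol.SemiAmple.exists_gg_of_isAmple k hA
  set B := CohB1.tensorPow A (c + 1) with hBdef
  have hB : CohB1.IsAmple B := (AmpleLib.isAmple_tensorPow_iff hA.1 (Nat.succ_pos c)).2 hA
  have hO := ProperFin.isCoh_structureModule X
  have hdO : topologicalKrullDim ↥(CohB1.support (Coh.structureModule X)) ≤ ((s + 2 : ℕ) : WithBot ℕ∞) :=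
    EulerChar.dim_support_le hd.le
  have hB1 : iC k (D :: List.replicate (s + 1) B) (Coh.structureModule X) = 0 := by
    rw [show D :: List.replicate (s + 1) B = [D] ++ List.replicate (s + 1) B from rfl,
      iC_perm k List.perm_append_comm, hBdef,
      iC_append_pow k hA.1 (c + 1) hO (s + 1) [D] (by simpa using hD) (by simpa [add_assoc] using hdO),
      iC_perm k List.perm_append_comm, show [D] ++ List.replicate (s + 1) A = D :: List.replicate (s + 1) A from rfl,
      h1, mul_zero]
  have hB2 : 0 ≤ iC k (D :: D :: List.replicate s B) (Coh.structureModule X) := by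
    rw [show D :: D :: List.replicate s B = [D, D] ++ List.replicate s B from rfl,
      iC_perm k List.perm_append_comm, hBdef,
      iC_append_pow k hA.1 (c + 1) hO s [D, D] (by simpa using hD) (by simpa using hdO),
      iC_perm k List.perm_append_comm]
    exact mul_nonneg (pow_nonneg (Int.natCast_nonneg _) _) h2
  clear h1 h2
  obtain ⟨n, σ, hσ⟩ := exists_gens k hB.1 hgg
  let K := GenForm.K k n
  let r := X ↘ Spec (CommRingCat.of k)
  let X' := GenHyp.XK k n r
  let p : X' ⟶ X := GenHyp.pX k n r
  letI : X'.Over (Spec (CommRingCat.of K)) := ⟨GenHyp.qX k n r⟩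
  haveI : IsProper (X' ↘ Spec (CommRingCat.of K)) :=
    inferInstanceAs (IsProper (pullback.snd r (GenHyp.g k n)))
  haveI : IsIntegral X' := GenHyp.isIntegral_XK k n r B σ hσ
  haveI : Infinite K := Infinite.of_injective (algebraMap k K) (algebraMap k K).injective
  haveI : CompactSpace X' := EulerChar.compactSpace K
  haveI := EulerChar.isNoetherian K (X := X')
  have hd' : topologicalKrullDim X' = ((s + 2 : ℕ) : WithBot ℕ∞) := (GenHyp.dim_XK k n r).trans hd
  have hsq : IsPullback p (X' ↘ Spec (CommRingCat.of K)) (X ↘ Spec (CommRingCat.of k))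
      (Spec.map (CommRingCat.ofHom (algebraMap k K))) := IsPullback.of_hasPullback _ _
  let P := Scheme.Modules.pullback p
  let B' := P.obj B
  let D' := P.obj D
  have hB' : CohB1.IsAmple B' :=
    AmpleLib.isAmple_pullback_of_qaMor p (AmpleFam.Pullback.qaMor_of_isAffineHom p) hB
  have hD' : PicF.IsInvertible D' := PicCl.isInvertible_pullback p hD
  have hO' := ProperFin.isCoh_structureModule X'
  have bc : ∀ l : List X.Modules, (∀ C ∈ l, PicF.IsInvertible C) →
      iC K (l.map P.obj) (Coh.structureModule X') = iC k l (Coh.structureModule X) := fun l hl =>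
    (iC_iso K _ (QCoh.pullbackUnitIso p)).symm.trans (iC_baseChange p hsq l hl _ hO)
  have h1 : iC K (D' :: List.replicate (s + 1) B') (Coh.structureModule X') = 0 := by
    rw [← hB1, ← bc _ (List.forall_mem_cons.2 ⟨hD, fun C hC => (List.eq_of_mem_replicate hC) ▸ hB.1⟩),
      List.map_cons, List.map_replicate]
  have h2 : 0 ≤ iC K (D' :: D' :: List.replicate s B') (Coh.structureModule X') := by
    refine hB2.trans (le_of_eq ?_)
    rw [← bc _ (List.forall_mem_cons.2 ⟨hD, List.forall_mem_cons.2
      ⟨hD, fun C hC => (List.eq_of_mem_replicate hC) ▸ hB.1⟩⟩),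
      List.map_cons, List.map_cons, List.map_replicate]
  -- the hyperplane section
  let s' := GenHyp.sH k n r B σ
  obtain ⟨η, -, hη⟩ := GenHyp.exists_generic_XK k n r B σ hσ
  have hηs : η ∈ CohB1.genLocus _ s' := not_not.1 hη
  haveI : Mono s' := mono_of_genLocus hB'.1 s' hηs
  let ψ : Coh.structureModule X' ⟶ CohB1.tensorMod B' (Coh.structureModule X') :=
    s' ≫ (tensComm B' (Coh.structureModule X') ≪≫ oneTens B').inv
  haveI : Mono ψ := mono_comp _ _
  have hT := Snapper.isCoh_tensorMod K hB'.1 hO'
  have hQ : Coh.IsCoh (cokernel ψ) := CohDev.isCoh_cokernel ψ hO'.1 hT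
  let Z := GenHyp.zset k n r B σ
  have hsupp : CohB1.support (cokernel ψ) ⊆ Z := by
    intro y hy
    have hy' : y ∈ CohB1.support (cokernel s') :=
      CohDev.support_subset_of_epi (cokernelCompIsIso s' _).inv hy
    exact fun hgen => CohDev.not_mem_support_cokernel s' (HilbPolyX.stalk_sec_bijective s' hgen).2 hy'
  have hZd : ∀ T : Set X', IsClosed T → T ⊆ Z →
      topologicalKrullDim ↥T ≤ ((s + 1 : ℕ) : WithBot ℕ∞) := fun T hT hTZ =>
    Snapper.le_of_lt_succ (CohDev.dim_lt_of_irreducible hT (IrreducibleSpace.isIrreducible_univ X')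
      (Set.subset_univ _) (fun h => hη (hTZ (h (Set.mem_univ η))))
      ((IsHomeomorph.topologicalKrullDim_eq _ (Homeomorph.Set.univ X').isHomeomorph).trans hd').le)
  have hQd := hZd _ (CohDev.isClosed_support hQ) hsupp
  have hcut : ∀ l : List X'.Modules, (∀ C ∈ l, PicF.IsInvertible C) →
      iC K (B' :: l) (Coh.structureModule X') = iC K l (cokernel ψ) := fun l hl =>
    iC_cons_mono K (l := l) hl hB'.1 hO' ψ hQ
  have hrep : ∀ j, ∀ C ∈ List.replicate j B', PicF.IsInvertible C := fun j C hC =>
    (List.eq_of_mem_replicate hC) ▸ hB'.1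
  have hpos : 0 < iC K (List.replicate (s + 2) B') (Coh.structureModule X') := by
    have h := pos_ample K hB' D' hd' (dim_support_structure hd')
    simpa [Dfun, word] using h
  rw [List.replicate_succ, hcut _ (hrep _)] at hpos
  obtain ⟨y, hy, hyd, -⟩ := SecRank.exists_piece K (hrep (s + 1)) hQ (by simpa using hQd) hpos.ne'
  rw [List.length_replicate] at hyd
  obtain ⟨ζ, hZ⟩ : ∃ ζ, Z = closure {ζ} := by
    rcases GenHyp.zset_irreducible k n r B σ hσ with h | h
    · exact absurd (hsupp hy) (by rw [show Z = ∅ from h]; exact Set.notMem_empty y)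
    · exact h
  have hsub : ∀ z ∈ CohB1.support (cokernel ψ), closure ({z} : Set X') ⊆ closure {ζ} := fun z hz =>
    closure_minimal (Set.singleton_subset_iff.2 (hZ ▸ hsupp hz)) isClosed_closure
  have hζd : topologicalKrullDim ↥(closure ({ζ} : Set X')) = ((s + 1 : ℕ) : WithBot ℕ∞) :=
    le_antisymm (hZd _ isClosed_closure (by rw [hZ])) (hyd ▸ CohDev.dim_mono (hsub y hy))
  have huniq : ∀ z ∈ CohB1.support (cokernel ψ),
      topologicalKrullDim ↥(closure ({z} : Set X')) = ((s + 1 : ℕ) : WithBot ℕ∞) → z = ζ := by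
    intro z hz hzd
    by_contra hne
    refine absurd (CohDev.dim_lt_of_irreducible isClosed_closure isIrreducible_singleton.closure
      (hsub z hz) (fun h => hne ?_) hζd.le) (by rw [hzd]; exact lt_irrefl _)
    exact ((specializes_iff_mem_closure.2 (h (subset_closure rfl))).antisymm
      (specializes_iff_mem_closure.2 (hsub z hz (subset_closure rfl)))).eq
  obtain ⟨m, hm⟩ := exists_mult K hQ hQd ζ huniq
  have hm0 : (m : ℤ) ≠ 0 := fun h0 => hpos.ne' (by rw [hm _ (hrep _) (by simp), h0, zero_mul])
  have hDrep : ∀ C ∈ D' :: List.replicate s B', PicF.IsInvertible C :=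
    List.forall_mem_cons.2 ⟨hD', hrep _⟩
  have hz1 : iC K (D' :: List.replicate s B') (Cyc.closureStructureSheaf ζ) = 0 := by
    rw [List.replicate_succ, iC_perm K (List.Perm.swap _ _ _), hcut _ hDrep, hm _ hDrep (by simp)] at h1
    exact (mul_eq_zero.1 h1).resolve_left hm0
  have hNum : NumOn K Z D' := by
    rw [hZ]
    rcases s with _ | t
    · exact numOn_curve K hD' ζ hζd hz1
    have hl2 : ∀ C ∈ D' :: D' :: List.replicate t B', PicF.IsInvertible C :=
      List.forall_mem_cons.2 ⟨hD', List.forall_mem_cons.2 ⟨hD', hrep _⟩⟩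
    have hz2 : 0 ≤ iC K (D' :: D' :: List.replicate t B') (Cyc.closureStructureSheaf ζ) := by
      have hp : (D' :: D' :: List.replicate (t + 1) B').Perm (B' :: D' :: D' :: List.replicate t B') := by
        rw [List.replicate_succ]
        exact ((List.Perm.swap _ _ _).cons D').trans (List.Perm.swap _ _ _)
      rw [iC_perm K hp, hcut _ hl2, hm _ hl2 (by simp)] at h2
      exact nonneg_of_mul_nonneg_right h2 (lt_of_le_of_ne (Int.natCast_nonneg m) (Ne.symm hm0))
    let I := IntMult.ptIdeal ζ
    letI : I.subscheme.Over (Spec (CommRingCat.of K)) := ⟨I.subschemeι ≫ (X' ↘ Spec (CommRingCat.of K))⟩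
    haveI : IsProper (I.subscheme ↘ Spec (CommRingCat.of K)) :=
      inferInstanceAs (IsProper (I.subschemeι ≫ (X' ↘ Spec (CommRingCat.of K))))
    obtain ⟨hId, hIi, he1⟩ := piece_eq K ζ hζd (List.forall_mem_cons.2 ⟨hD', hrep (t + 1)⟩) (by simp)
    obtain ⟨-, -, he2⟩ := piece_eq K ζ hζd hl2 (by simp)
    haveI := hIi
    rw [he1, List.map_cons, List.map_replicate] at hz1
    rw [he2, List.map_cons, List.map_cons, List.map_replicate] at hz2
    have hN := IH t (Nat.lt_succ_self t) K I.subscheme _ _
      (AmpleLib.isAmple_pullback_of_qaMor I.subschemeι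
        (AmpleFam.Pullback.qaMor_of_isAffineHom I.subschemeι) hB')
      (PicCl.isInvertible_pullback _ hD') hId hz1 hz2
    have h := Hodge.numOn_range I.subschemeι rfl hD' hN
    rwa [show Set.range I.subschemeι.base = closure ({ζ} : Set X') from
      I.range_subschemeι.trans (CohDev.coe_support_ptIdeal ζ)] at h
  have hZcl : IsClosed Z := GenHyp.isClosed_zset k n r B σ
  have hs'Z : CohB1.support (cokernel s') ⊆ Z := fun y hy hgen =>
    CohDev.not_mem_support_cokernel s' (HilbPolyX.stalk_sec_bijective s' hgen).2 hy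
  obtain ⟨a, N, i, -, hic, hi, ⟨eB⟩⟩ := Section.exists_embedding_pow (k := K) hB'
  haveI := hic
  obtain ⟨φ, hφ⟩ := Section.exists_section_pow hB'.1 s' hs'Z a
  obtain ⟨τ', hτ'⟩ := Section.exists_form i (φ ≫ eB.hom)
    ((CohDev.support_subset_of_mono (cokernelCompIsIso φ eB.hom).hom).trans hφ)
  have hK : Num1 K D' := by
    rcases Nat.eq_zero_or_pos s with h0 | hpos'
    · subst h0
      obtain ⟨hle, heq⟩ := Quad.surface i hi τ' (fun h => hη (Hodge.univ_subset_of_eq_zero h hτ' η))
        hτ' hd' hNum
      refine heq (le_antisymm hle ?_)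
      rw [Quad.quad_kcl _ hO']
      have h := h2
      simp only [List.replicate_zero, iC_cons, iC_nil] at h
      have e₁ : CohB1.tensorMod (Coh.structureModule X') (CohB1.tensorMod D' D') ≅
          CohB1.tensorMod D' (CohB1.tensorMod D' (Coh.structureModule X')) :=
        oneTens _ ≪≫ tensCongr (Iso.refl D') (tensComm D' (Coh.structureModule X') ≪≫ oneTens D').symm
      rw [EulerChar.euler_iso K e₁, EulerChar.euler_iso K (tensComm (Coh.structureModule X') D')]
      linarith
    · exact Hodge.num1_of_three_le (s + 2) i hi hd' (by omega) τ' hτ' hNum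
  refine ⟨hD, fun F hF _ => ?_⟩
  have hFK : Coh.IsCoh (P.obj F) := by
    haveI : IsLocallyNoetherian X' := inferInstance
    exact ZClosLib.CohDescent.isCoh_pullback p F hF
  have h := (EulerChar.euler_iso K (KFlat.PullTensor.pullTensorIso p F D)).trans
    (AnyField.euler_tens_eq' (k := K) hFK hK)
  have b₁ := BigVol.FieldPoint.euler_baseChange (K := K) (X ↘ Spec (CommRingCat.of k)) p
    (X' ↘ Spec (CommRingCat.of K)) hsq _ (isCoh_tens k hD hF)
  have b₂ := BigVol.FieldPoint.euler_baseChange (K := K) (X ↘ Spec (CommRingCat.of k)) p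
    (X' ↘ Spec (CommRingCat.of K)) hsq F hF
  exact b₁.symm.trans (h.trans b₂)

/-- The index theorem on an irreducible scheme. -/
theorem num1_of_irreducible (k : Type u) [Field k] [Infinite k] {X : Scheme.{u}}
    [X.Over (Spec (CommRingCat.of k))] [IsProper (X ↘ Spec (CommRingCat.of k))] [IrreducibleSpace X]
    {H L : X.Modules} (hH : CohB1.IsAmple H) (hL : PicF.IsInvertible L) {s : ℕ}
    (hdim : topologicalKrullDim X = ((s + 2 : ℕ) : WithBot ℕ∞))
    (h1 : iC k (L :: List.replicate (s + 1) H) (Coh.structureModule X) = 0)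
    (h2 : 0 ≤ iC k (L :: L :: List.replicate s H) (Coh.structureModule X)) : Num1 k L := by
  obtain ⟨hξd, m, hm0, hm⟩ := exists_generic_mult k hH hdim
  have hrep : ∀ j, ∀ C ∈ List.replicate j H, PicF.IsInvertible C := fun j C hC =>
    (List.eq_of_mem_replicate hC) ▸ hH.1
  have hl1 : ∀ C ∈ L :: List.replicate (s + 1) H, PicF.IsInvertible C := List.forall_mem_cons.2 ⟨hL, hrep _⟩
  have hl2 : ∀ C ∈ L :: L :: List.replicate s H, PicF.IsInvertible C :=
    List.forall_mem_cons.2 ⟨hL, List.forall_mem_cons.2 ⟨hL, hrep _⟩⟩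
  have hξc : closure ({genericPoint X} : Set X) = Set.univ := genericPoint_spec X
  let ξ := genericPoint X
  rw [hm _ hl1 (by simp)] at h1
  rw [hm _ hl2 (by simp)] at h2
  replace h1 := (mul_eq_zero.1 h1).resolve_left (by exact_mod_cast hm0.ne')
  replace h2 := nonneg_of_mul_nonneg_right h2 (by exact_mod_cast hm0)
  let I := IntMult.ptIdeal ξ
  letI : I.subscheme.Over (Spec (CommRingCat.of k)) := ⟨I.subschemeι ≫ (X ↘ Spec (CommRingCat.of k))⟩
  haveI : IsProper (I.subscheme ↘ Spec (CommRingCat.of k)) :=
    inferInstanceAs (IsProper (I.subschemeι ≫ (X ↘ Spec (CommRingCat.of k))))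
  obtain ⟨hId, hIi, he1⟩ := piece_eq k ξ hξd hl1 (by simp)
  obtain ⟨-, -, he2⟩ := piece_eq k ξ hξd hl2 (by simp)
  haveI := hIi
  rw [he1, List.map_cons, List.map_replicate] at h1
  rw [he2, List.map_cons, List.map_cons, List.map_replicate] at h2
  have hN := index s k I.subscheme _ _
    (AmpleLib.isAmple_pullback_of_qaMor I.subschemeι
      (AmpleFam.Pullback.qaMor_of_isAffineHom I.subschemeι) hH)
    (PicCl.isInvertible_pullback _ hL) hId h1 h2
  have h := Hodge.numOn_range I.subschemeι rfl hL hN
  rw [show Set.range I.subschemeι.base = Set.univ from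
    (I.range_subschemeι.trans (CohDev.coe_support_ptIdeal ξ)).trans hξc] at h
  exact ⟨hL, fun F hF hd => h.2 F hF (Set.subset_univ _) hd⟩

end Groth.Agent.NumTriv.IndexThm
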