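import Groth.Agent.NumTriv.FinCl
import Groth.Agent.NumTriv.ExactCut
import Groth.Agent.CMReg.Closed

/-!
# A lower bound on `χ` bounds the self-intersection from below
-/

set_option autoImplicit false

universe u

open CategoryTheory CategoryTheory.Limits AlgebraicGeometry

set_option linter.style.haveILetI false

noncomputable section

namespace Groth.Agent.NumTriv.LowBound

open ProjTwist ProjTwist.Pn OnSet NefPos IntProd70 IndexThm AmpleBdd

section
variable {k : Type u} [Field k] {n : ℕ} {X : Scheme.{u}} [X.Over (Spec (CommRingCat.of k))]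
  [IsProper (X ↘ Spec (CommRingCat.of k))] [IsIntegral X] (i : X ⟶ CohB1.ProjSpace n k) [IsClosedImmersion i]
  (hi : i ≫ CohB1.ProjSpace.toSpec n k = X ↘ Spec (CommRingCat.of k))
  (σ : oX i (-1) ⟶ Coh.structureModule X) (hσ : σ ≠ 0) {S : Set X}
  (hS : CohB1.support (cokernel σ) ⊆ S)

include hi hσ hS in
/-- Uniform regularity once `χ` is bounded below. -/
theorem exists_regular [Infinite k] {F : X.Modules} (a₀ : F ⟶ Coh.structureModule X) [Mono a₀] (hF : Coh.IsCoh F) {d : ℕ}
    (hd : topologicalKrullDim X = ((d + 2 : ℕ) : WithBot ℕ∞)) (c : ℤ) :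
    ∃ (m : ℤ) (p : ℕ), ∀ M : X.Modules, NumOn k S M →
      c ≤ Curv2.euler k X (CohB1.tensorMod F M) -
        Curv2.euler k X F →
      Curv2.IsMRegular k n (NumTriv.G i F M) m ∧
        h0Tw (NumTriv.G i F M) m ≤ p := by
  haveI := EulerChar.isNoetherian k (X := X)
  haveI := isLocallyNoetherian_projSpace n k
  have hO := ProperFin.isCoh_structureModule X
  obtain ⟨C, f, g, wfg, hex, hC, hsupp⟩ := IdealBound.exists_seq i hi σ hσ hS a₀ hF
  obtain ⟨-, m, hm⟩ := uniform_on i hi hC hsupp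
  have hseq : ∀ M : X.Modules, NumOn k S M →
      ∃ (a : twF (NumTriv.G i F M) (-1) ⟶ NumTriv.G i F M) (b : NumTriv.G i F M ⟶ NumTriv.G i C M)
        (w : a ≫ b = 0), (ShortComplex.mk a b w).ShortExact := fun M hM => by
    have hS' := shortExact_push i (ProjTwist.shortExact_tensor hM.1 hex)
    let ε : twF (NumTriv.G i F M) (-1) ≅ NumTriv.G i (Pic13.twistOn k i F (-1)) M :=
      CMReg.pushTwistIso i (CohB1.tensorMod F M) (-1) ≪≫ (Coh.push i).mapIso (twistTens i F M (-1))
    obtain ⟨w, h⟩ := exists_shift hS' ε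
    exact ⟨_, _, w, h⟩
  let q : ℕ → ℕ := fun s => (Curv2.euler k X (Pic13.twistOn k i C (m + s))).toNat
  have hQ : ∀ M : X.Modules, NumOn k S M → ∀ s : ℕ, ∀ j : ℤ, j ≤ m + s →
      h0Tw (NumTriv.G i C M) j ≤ q s := by
    intro M hM s j hj
    refine (h0Tw_mono (isCoh_G i hM.1 hC) hj).trans ?_
    have h := EulerFam.h0Tw_eq_chi (isCoh_G i hM.1 hC)
      (isMRegular_of_le (isCoh_G i hM.1 hC).1 (hm M hM) (by omega : m ≤ m + (s : ℤ)))
    rw [chi_G i hi hM.1 hC, (uniform_on i hi (isCoh_twistOn i hC (m + s))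
      ((HilbPolyX.support_tensorMod_subset C (oX i (m + s))).trans hsupp)).1 M hM] at h
    simp only [q, ← h, Int.toNat_natCast, le_refl]
  -- a bound of `h⁰` in each degree
  have hh0 : ∀ j : ℤ, ∃ B : ℕ, ∀ M : X.Modules, NumOn k S M →
      h0Tw (NumTriv.G i F M) j ≤ B := fun j => by
    let j₀ := min (-1) j
    let s := (j - m).toNat
    refine ⟨(j - j₀).toNat * q s, fun M hM => ?_⟩
    have hlow : h0Tw (NumTriv.G i F M) j₀ ≤ 0 := by
      rw [← IdealBound.h0Tw_eq_zero i hi σ hσ hS hd hM]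
      refine (h0Tw_mono (isCoh_G i hM.1 hF) (min_le_left _ _)).trans ?_
      exact ProjTwist.Pn.h0Tw_le_of_mono
        (shortExact_push i (ProjTwist.shortExact_tensor hM.1 (HilbPolyX.shortExact_of_mono a₀)))
        (isCoh_G i hM.1 hO) _
    have key : ∀ c : ℕ, j₀ + c ≤ j → h0Tw (NumTriv.G i F M) (j₀ + c) ≤ c * q s := by
      intro c
      induction c with
      | zero => intro _; simpa using hlow
      | succ c ih =>
        intro hc
        obtain ⟨a, b, w, hS'⟩ := hseq M hM
        have h1 := h0Tw_le_add hS' (isCoh_tw (isCoh_G i hM.1 hF) (-1)) (isCoh_G i hM.1 hF)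
          (isCoh_G i hM.1 hC) (j₀ + (c + 1 : ℕ))
        have h2 : h0Tw (twF (NumTriv.G i F M) (-1)) (j₀ + (c + 1 : ℕ)) =
            h0Tw (NumTriv.G i F M) (j₀ + c) :=
          finrank_iso (twTw (NumTriv.G i F M) (-1) (j₀ + (c + 1 : ℕ)) (j₀ + c) (by push_cast; ring)) 0
        have h3 := hQ M hM s (j₀ + (c + 1 : ℕ)) (by omega)
        have h4 := ih (by omega)
        rw [h2] at h1
        rw [Nat.succ_mul]
        dsimp only at h1
        omega
    have h := key (j - j₀).toNat (by omega)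
    rwa [show j₀ + ((j - j₀).toNat : ℤ) = j by omega] at h
  obtain ⟨B₁, hB₁⟩ := hh0 (m - 1)
  let K : ℕ := ((B₁ : ℤ) - c - Curv2.euler k X (Pic13.twistOn k i F (m - 1))).toNat
  obtain ⟨p, hp⟩ := hh0 (m + K)
  refine ⟨m + K, p, fun M hM hc => ⟨?_, hp M hM⟩⟩
  intro r hr _
  obtain ⟨a, b, w, hS'⟩ := hseq M hM
  rcases hr.eq_or_lt with rfl | hr2
  · refine extension_subsingleton_one a b w hS' (isCoh_G i hM.1 hF) (isCoh_G i hM.1 hC).1 (hm M hM) _ ?_
    have hchi : (h0Tw (NumTriv.G i F M) (m - 1) : ℤ) - h1Tw (NumTriv.G i F M) (m - 1) =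
        Curv2.euler k X (CohB1.tensorMod (Pic13.twistOn k i F (m - 1)) M) := by
      rw [← chi_G i hi hM.1 hF, chi_eq_of_vanishing fun q hq =>
        extension_subsingleton a b w hS' (isCoh_G i hM.1 hF) (isCoh_G i hM.1 hC).1 (hm M hM) q hq
          (m - 1) (by omega)]
    have hcst := IdealBound.euler_twist_const i hi σ hσ hS a₀ hF hM (m - 1)
    have h2 := hB₁ M hM
    have h3 := Int.self_le_toNat ((B₁ : ℤ) - c - Curv2.euler k X (Pic13.twistOn k i F (m - 1)))
    push_cast
    omega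
  · exact extension_subsingleton a b w hS' (isCoh_G i hM.1 hF) (isCoh_G i hM.1 hC).1 (hm M hM) r hr2 _
      (by omega)

include hi hσ hS in
/-- On a surface, a lower bound on `χ(L₀ ⊗ M)` bounds `(M · M)` from below. -/
theorem exists_sq_bound [Infinite k] (hd : topologicalKrullDim X = ((2 : ℕ) : WithBot ℕ∞))
    {L₀ : X.Modules} (hL₀ : PicF.IsInvertible L₀) (c : ℤ) :
    ∃ c' : ℤ, ∀ M : X.Modules, NumOn k S M → iC k [M, oX i 1] (Coh.structureModule X) = 0 →
      c ≤ Curv2.euler k X (CohB1.tensorMod L₀ M) → -c' ≤ iC k [M, M] (Coh.structureModule X) := by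
  haveI := EulerChar.isNoetherian k (X := X)
  haveI : CompactSpace X := EulerChar.compactSpace k
  haveI := isLocallyNoetherian_projSpace n k
  have hO := ProperFin.isCoh_structureModule X
  have hO1 := LFFrame.isInvertible_structureModule X
  have hA := isAmple_oX_one i
  -- an ideal `F = L₀(-t)`
  obtain ⟨L₀', hL₀', ⟨e₀⟩⟩ := PicLaw.exists_inverse hL₀
  obtain ⟨t, hgg⟩ : ∃ t : ℕ, Curv2.IsGloballyGenerated (CohB1.tensorMod (CohB1.tensorPow (oX i 1) t) L₀') := by
    obtain ⟨N₀, h⟩ := AmpleIff.exists_gg_of_bounded i hi hA (P := fun L => Nonempty (L₀' ≅ L))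
      (fun L ⟨e⟩ => PicCl.isInvertible_of_iso e hL₀')
      (Bounded.isBounded_single (k := k) (BigVol.isCoh_of_isInvertible hL₀'))
    exact ⟨N₀, h N₀ le_rfl L₀' ⟨Iso.refl _⟩⟩
  obtain ⟨ep⟩ := nonempty_oX_pow i t
  obtain ⟨eadd⟩ := nonempty_oX_add i (t : ℤ) (-(t : ℤ)) 0 (by ring)
  obtain ⟨ez⟩ := nonempty_oX_zero i
  let T := CohB1.tensorPow (oX i 1) t
  let U := oX i (-(t : ℤ))
  let V := CohB1.tensorMod T L₀'
  let F := CohB1.tensorMod L₀ U
  have hV : PicF.IsInvertible V :=
    AmpleLib.isInvertible_tensorMod (AmpleLib.isInvertible_tensorPow (isInvertible_oX i 1) t) hL₀'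
  have hF1 : PicF.IsInvertible F := AmpleLib.isInvertible_tensorMod hL₀ (isInvertible_oX i _)
  let eTU : CohB1.tensorMod U T ≅ Coh.structureModule X :=
    tensComm U T ≪≫ tensCongr ep (Iso.refl U) ≪≫ eadd ≪≫ ez
  let eVF : CohB1.tensorMod F V ≅ Coh.structureModule X :=
    tensAssoc L₀ U V ≪≫ tensCongr (Iso.refl L₀) ((tensAssoc U T L₀').symm ≪≫
      tensCongr eTU (Iso.refl L₀') ≪≫ oneTens L₀') ≪≫ e₀
  obtain ⟨s, hs⟩ := DimOneAmple.exists_genLocus_mem hV hgg (genericPoint X)
  let φ := Props.GenLocus.homOfSec s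
  have hφ : genericPoint X ∈ CohB1.genLocus _ φ := by rw [AmpleLib.genLocus_homOfSec]; exact hs
  haveI := IndexThm.mono_of_genLocus hV φ hφ
  haveI hφm : Mono (((DCoh.tensorBi (X := X)).flip.obj F).map φ) :=
    (ProjTwist.shortExact_tensor hF1 (HilbPolyX.shortExact_of_mono φ)).mono_f
  let a₀ : F ⟶ Coh.structureModule X :=
    (oneTens F).inv ≫ ((DCoh.tensorBi (X := X)).flip.obj F).map φ ≫ (tensComm V F ≪≫ eVF).hom
  haveI : Mono a₀ := by
    haveI : Mono ((((DCoh.tensorBi (X := X)).flip.obj F).map φ) ≫ (tensComm V F ≪≫ eVF).hom) :=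
      @mono_comp _ _ _ _ _ _ hφm _ inferInstance
    exact @mono_comp _ _ _ _ _ (oneTens F).inv inferInstance _ this
  have hFc := BigVol.isCoh_of_isInvertible hF1
  obtain ⟨m, p, hreg⟩ := exists_regular i hi σ hσ hS a₀ hFc (d := 0) hd
    (c - Curv2.euler k X (Pic13.twistOn k i F t))
  let m₀ : ℕ := m.toNat
  -- a positive translate of `F⁻¹`
  obtain ⟨m₁, hm₁⟩ : ∃ m₁ : ℕ, CohB1.IsAmple (CohB1.tensorMod (CohB1.tensorPow (oX i 1) m₁) V) := by
    obtain ⟨N₀, h⟩ := AmpleIff.exists_ample_of_bounded i hi hA (P := fun L => Nonempty (V ≅ L))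
      (fun L ⟨e⟩ => PicCl.isInvertible_of_iso e hV)
      (Bounded.isBounded_single (k := k) (BigVol.isCoh_of_isInvertible hV))
    exact ⟨N₀, h N₀ le_rfl V ⟨Iso.refl _⟩⟩
  obtain ⟨a, ha⟩ : ∃ a : ℤ, a = iC k [oX i 1, oX i 1] (Coh.structureModule X) := ⟨_, rfl⟩
  let N := m₁ + m₀
  refine ⟨(N : ℤ) * N * a, fun M hM hMA hc => ?_⟩
  obtain ⟨eM⟩ : Nonempty (CohB1.tensorMod (Pic13.twistOn k i F t) M ≅ CohB1.tensorMod L₀ M) :=
    ⟨tensCongr (tensAssoc L₀ U (oX i (t : ℤ)) ≪≫ tensCongr (Iso.refl L₀)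
      (tensComm U (oX i (t : ℤ)) ≪≫ eadd ≪≫ ez) ≪≫ tensOne L₀) (Iso.refl M)⟩
  have hconst := IdealBound.euler_twist_const i hi σ hσ hS a₀ hFc hM (t : ℤ)
  rw [EulerChar.euler_iso k eM] at hconst
  have hr := (hreg M hM (by omega)).1
  let FM := CohB1.tensorMod F M
  have hFM : PicF.IsInvertible FM := AmpleLib.isInvertible_tensorMod hF1 hM.1
  have hFMc := BigVol.isCoh_of_isInvertible hFM
  haveI := hFMc.1
  have hG : Coh.IsCoh ((Coh.push i).obj FM) := ProperFin.isCoh_push_of_isFinite i FM hFMc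
  have hr2 := isMRegular_of_le hG.1 hr (Int.self_le_toNat m)
  have hgg2 : Curv2.IsGloballyGenerated (CohB1.tensorMod FM (oX i (m₀ : ℤ))) :=
    CMReg.isGloballyGenerated_iso (Iso.refl _) (CMReg.isGloballyGenerated_twistOn i _ (m₀ : ℤ)
      (isGloballyGenerated_of_isMRegular hG hr2))
  have hamp : CohB1.IsAmple (CohB1.tensorMod M (CohB1.tensorPow (oX i 1) N)) := by
    obtain ⟨ep1⟩ := FinCl.nonempty_pow_add (oX i 1) m₁ m₀
    obtain ⟨ep0⟩ := nonempty_oX_pow i m₀
    let P₁ := CohB1.tensorPow (oX i 1) m₁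
    let W := oX i (m₀ : ℤ)
    refine Props.AmpleFrames.isAmple_of_iso ?_ (isAmple_tens_gg hm₁
      (AmpleLib.isInvertible_tensorMod hFM (isInvertible_oX i (m₀ : ℤ))) hgg2)
    refine tensAssoc P₁ V (CohB1.tensorMod FM W) ≪≫ tensCongr (Iso.refl P₁)
      ((tensAssoc V FM W).symm ≪≫ tensCongr ((tensAssoc V F M).symm ≪≫
        tensCongr (tensComm V F ≪≫ eVF) (Iso.refl M) ≪≫ oneTens M) (Iso.refl W)) ≪≫ ?_
    exact (tensAssoc P₁ M W).symm ≪≫ tensCongr (tensComm P₁ M) (Iso.refl W) ≪≫ tensAssoc M P₁ W ≪≫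
      tensCongr (Iso.refl M) (tensCongr (Iso.refl P₁) ep0.symm ≪≫ ep1.symm)
  let A := oX i 1
  have hAi := isInvertible_oX i 1
  let Y := CohB1.tensorPow A N
  have hY : PicF.IsInvertible Y := AmpleLib.isInvertible_tensorPow hAi N
  have hpos : 0 < iC k [CohB1.tensorMod M Y, CohB1.tensorMod M Y] (Coh.structureModule X) := by
    have h := pos_ample k hamp M hd (dim_support_structure hd)
    simpa [Dfun, word, List.replicate_succ] using h
  have hdO : topologicalKrullDim ↥(CohB1.support (Coh.structureModule X)) ≤ ((2 : ℕ) : WithBot ℕ∞) :=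
    EulerChar.dim_support_le hd.le
  have sw : ∀ P Q : X.Modules, iC k [P, Q] (Coh.structureModule X) = iC k [Q, P] (Coh.structureModule X) :=
    fun P Q => iC_perm k (List.Perm.swap _ _ _) _
  have lin : ∀ Q : X.Modules, PicF.IsInvertible Q →
      iC k [CohB1.tensorMod M Y, Q] (Coh.structureModule X) =
        iC k [M, Q] (Coh.structureModule X) + N * iC k [A, Q] (Coh.structureModule X) := fun Q hQ => by
    have hl : ∀ C ∈ [Q], PicF.IsInvertible C := by simpa using hQ
    rw [iC_mul k (l := [Q]) hl hM.1 hY hO (by simpa using hdO),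
      iC_pow k (l := [Q]) hl hAi hO (by simpa using hdO) N]
  rw [lin _ (AmpleLib.isInvertible_tensorMod hM.1 hY), sw M, sw A, lin M hM.1, lin A hAi, sw A M, hMA, ← ha] at hpos
  linarith [hpos]

end

/-- The statement in dimension `s + 2`. -/
def Low (s : ℕ) : Prop :=
  ∀ (k : Type u) [Field k] [Infinite k] (X : Scheme.{u}) [X.Over (Spec (CommRingCat.of k))]
    [IsProper (X ↘ Spec (CommRingCat.of k))] [IsIntegral X] (A L₀ : X.Modules) (c : ℤ),
    CohB1.IsAmple A → Curv2.IsGloballyGenerated A → PicF.IsInvertible L₀ →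
    topologicalKrullDim X = ((s + 2 : ℕ) : WithBot ℕ∞) →
    ∃ c' : ℤ, ∀ M : X.Modules, PicF.IsInvertible M →
      iC k (M :: List.replicate (s + 1) A) (Coh.structureModule X) = 0 →
      c ≤ iC k (List.replicate s A) (CohB1.tensorMod L₀ M) →
      -c' ≤ iC k (M :: M :: List.replicate s A) (Coh.structureModule X)

set_option maxHeartbeats 1000000 in
/-- A lower bound on the third coefficient bounds the self-intersection from below. -/
theorem low : ∀ s : ℕ, Low.{u} s := by
  intro s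
  induction s using Nat.strong_induction_on with
  | _ s IH =>
  intro k _ _ X _ _ _ B L₀ c hB hgg hL₀ hd
  haveI := EulerChar.isNoetherian k (X := X)
  haveI : CompactSpace X := EulerChar.compactSpace k
  have hO := ProperFin.isCoh_structureModule X
  obtain ⟨n, σ, hσ⟩ := exists_gens k hB.1 hgg
  let K := GenForm.K k n
  let r := X ↘ Spec (CommRingCat.of k)
  let X' := GenHyp.XK k n r
  let p : X' ⟶ X := GenHyp.pX k n r
  letI : X'.Over (Spec (CommRingCat.of K)) := ⟨GenHyp.qX k n r⟩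
  haveI : IsProper (X' ↘ Spec (CommRingCat.of K)) :=
    inferInstanceAs (IsProper (pullback.snd r (GenHyp.g k n)))
  haveI : IsIntegral X' := GenHyp.isIntegral_XK k n r B σ hσ
  haveI : Infinite K := Infinite.of_injective (algebraMap k K) (algebraMap k K).injective
  haveI : CompactSpace X' := EulerChar.compactSpace K
  haveI := EulerChar.isNoetherian K (X := X')
  have hd' : topologicalKrullDim X' = ((s + 2 : ℕ) : WithBot ℕ∞) := (GenHyp.dim_XK k n r).trans hd
  have hsq : IsPullback p (X' ↘ Spec (CommRingCat.of K)) (X ↘ Spec (CommRingCat.of k))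
      (Spec.map (CommRingCat.ofHom (algebraMap k K))) := IsPullback.of_hasPullback _ _
  let P := Scheme.Modules.pullback p
  let B' := P.obj B
  have hB' : CohB1.IsAmple B' :=
    AmpleLib.isAmple_pullback_of_qaMor p (AmpleFam.Pullback.qaMor_of_isAffineHom p) hB
  have hO' := ProperFin.isCoh_structureModule X'
  have bc : ∀ l : List X.Modules, (∀ C ∈ l, PicF.IsInvertible C) →
      iC K (l.map P.obj) (Coh.structureModule X') = iC k l (Coh.structureModule X) := fun l hl =>
    (iC_iso K _ (QCoh.pullbackUnitIso p)).symm.trans (iC_baseChange p hsq l hl _ hO)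
  let s' := GenHyp.sH k n r B σ
  obtain ⟨η, -, hη⟩ := GenHyp.exists_generic_XK k n r B σ hσ
  have hηs : η ∈ CohB1.genLocus _ s' := not_not.1 hη
  haveI : Mono s' := mono_of_genLocus hB'.1 s' hηs
  let ψ : Coh.structureModule X' ⟶ CohB1.tensorMod B' (Coh.structureModule X') :=
    s' ≫ (tensComm B' (Coh.structureModule X') ≪≫ oneTens B').inv
  haveI : Mono ψ := mono_comp _ _
  have hT := Snapper.isCoh_tensorMod K hB'.1 hO'
  have hQ : Coh.IsCoh (cokernel ψ) := CohDev.isCoh_cokernel ψ hO'.1 hT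
  let Z := GenHyp.zset k n r B σ
  have hs'Z : CohB1.support (cokernel s') ⊆ Z := fun y hy hgen =>
    CohDev.not_mem_support_cokernel s' (HilbPolyX.stalk_sec_bijective s' hgen).2 hy
  have hsupp : CohB1.support (cokernel ψ) ⊆ Z := fun y hy =>
    hs'Z (CohDev.support_subset_of_epi (cokernelCompIsIso s' _).inv hy)
  have hZd : ∀ T : Set X', IsClosed T → T ⊆ Z →
      topologicalKrullDim ↥T ≤ ((s + 1 : ℕ) : WithBot ℕ∞) := fun T hT hTZ =>
    Snapper.le_of_lt_succ (CohDev.dim_lt_of_irreducible hT (IrreducibleSpace.isIrreducible_univ X')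
      (Set.subset_univ _) (fun h => hη (hTZ (h (Set.mem_univ η))))
      ((IsHomeomorph.topologicalKrullDim_eq _ (Homeomorph.Set.univ X').isHomeomorph).trans hd').le)
  have hQd := hZd _ (CohDev.isClosed_support hQ) hsupp
  have hcut : ∀ l : List X'.Modules, (∀ C ∈ l, PicF.IsInvertible C) →
      iC K (B' :: l) (Coh.structureModule X') = iC K l (cokernel ψ) := fun l hl =>
    iC_cons_mono K (l := l) hl hB'.1 hO' ψ hQ
  have hrep : ∀ j, ∀ C ∈ List.replicate j B', PicF.IsInvertible C := fun j C hC =>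
    (List.eq_of_mem_replicate hC) ▸ hB'.1
  have hpos : 0 < iC K (List.replicate (s + 2) B') (Coh.structureModule X') := by
    have h := pos_ample K hB' B' hd' (dim_support_structure hd')
    simpa [Dfun, word] using h
  rw [List.replicate_succ, hcut _ (hrep _)] at hpos
  obtain ⟨y, hy, hyd, -⟩ := SecRank.exists_piece K (hrep (s + 1)) hQ (by simpa using hQd) hpos.ne'
  rw [List.length_replicate] at hyd
  obtain ⟨ζ, hZ⟩ : ∃ ζ, Z = closure {ζ} := by
    rcases GenHyp.zset_irreducible k n r B σ hσ with h | h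
    · exact absurd (hsupp hy) (by rw [show Z = ∅ from h]; exact Set.notMem_empty y)
    · exact h
  have hsub : ∀ z ∈ CohB1.support (cokernel ψ), closure ({z} : Set X') ⊆ closure {ζ} := fun z hz =>
    closure_minimal (Set.singleton_subset_iff.2 (hZ ▸ hsupp hz)) isClosed_closure
  have hζd : topologicalKrullDim ↥(closure ({ζ} : Set X')) = ((s + 1 : ℕ) : WithBot ℕ∞) :=
    le_antisymm (hZd _ isClosed_closure (by rw [hZ])) (hyd ▸ CohDev.dim_mono (hsub y hy))
  obtain ⟨hJ, ⟨eJ⟩⟩ := ExactCut.exists_inverse k n r B σ hσ hB.1 ζ hZ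
  let I := IntMult.ptIdeal ζ
  letI : I.subscheme.Over (Spec (CommRingCat.of K)) := ⟨I.subschemeι ≫ (X' ↘ Spec (CommRingCat.of K))⟩
  haveI : IsProper (I.subscheme ↘ Spec (CommRingCat.of K)) :=
    inferInstanceAs (IsProper (I.subschemeι ≫ (X' ↘ Spec (CommRingCat.of K))))
  obtain ⟨hId, hIi, -⟩ := piece_eq K ζ hζd (hrep (s + 1)) (by simp)
  haveI := hIi
  haveI := EulerChar.isNoetherian K (X := I.subscheme)
  let J := Scheme.Modules.pullback I.subschemeι
  -- exact cutting, and its consequence in top degree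
  have cutG : ∀ (l : List X'.Modules), (∀ C ∈ l, PicF.IsInvertible C) → ∀ G : X'.Modules, PicF.IsInvertible G →
      iC K (B' :: l) G = iC K (l.map J.obj) (J.obj (CohB1.tensorMod B' G)) :=
    fun l hl G hG => ExactCut.iC_cons_ideal I rfl hB'.1 eJ hJ l hl G hG
  have cutO : ∀ (l : List X'.Modules), (∀ C ∈ l, PicF.IsInvertible C) → l.length = s + 1 →
      iC K (B' :: l) (Coh.structureModule X') = iC K (l.map J.obj) (Coh.structureModule I.subscheme) := by
    intro l hl hlen
    have hlJ : ∀ C ∈ l.map J.obj, PicF.IsInvertible C := fun C hC => by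
      obtain ⟨D, hD, rfl⟩ := List.mem_map.1 hC
      exact PicCl.isInvertible_pullback _ (hl D hD)
    have hJO : CohB1.tensorMod (J.obj B') (Coh.structureModule I.subscheme) ≅
        J.obj (CohB1.tensorMod B' (Coh.structureModule X')) :=
      tensCongr (Iso.refl _) (QCoh.pullbackUnitIso I.subschemeι).symm ≪≫
        (KFlat.PullTensor.pullTensorIso I.subschemeι B' (Coh.structureModule X')).symm
    rw [cutG l hl _ (LFFrame.isInvertible_structureModule X'), ← iC_iso K _ hJO]
    have hz : iC K (J.obj B' :: l.map J.obj) (Coh.structureModule I.subscheme) = 0 := by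
      have hi' : ∀ C ∈ J.obj B' :: l.map J.obj, PicF.IsInvertible C :=
        List.forall_mem_cons.2 ⟨PicCl.isInvertible_pullback _ hB'.1, hlJ⟩
      by_contra hne
      obtain ⟨z, -, hzd, -⟩ := SecRank.exists_piece K hi' (ProperFin.isCoh_structureModule _)
        (by
          rw [List.length_cons, List.length_map, hlen]
          exact (EulerChar.dim_support_le hId.le).trans (by exact_mod_cast Nat.le_succ _)) hne
      rw [List.length_cons, List.length_map, hlen] at hzd
      have := hzd.symm.le.trans ((Topology.IsInducing.topologicalKrullDim_le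
        Topology.IsInducing.subtypeVal).trans hId.le)
      have : s + 1 + 1 ≤ s + 1 := by exact_mod_cast this
      omega
    rw [iC_cons] at hz
    exact sub_eq_zero.1 hz
  have bcM : ∀ M : X.Modules, PicF.IsInvertible M →
      iC K (P.obj M :: List.replicate (s + 1) B') (Coh.structureModule X') =
        iC k (M :: List.replicate (s + 1) B) (Coh.structureModule X) := fun M hM => by
    have h := bc _ (List.forall_mem_cons.2 ⟨hM, fun C hC => (List.eq_of_mem_replicate hC) ▸ hB.1⟩ :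
      ∀ C ∈ M :: List.replicate (s + 1) B, PicF.IsInvertible C)
    rwa [List.map_cons, List.map_replicate] at h
  have bcMM : ∀ M : X.Modules, PicF.IsInvertible M →
      iC K (P.obj M :: P.obj M :: List.replicate s B') (Coh.structureModule X') =
        iC k (M :: M :: List.replicate s B) (Coh.structureModule X) := fun M hM => by
    have h := bc _ (List.forall_mem_cons.2 ⟨hM, List.forall_mem_cons.2 ⟨hM,
        fun C hC => (List.eq_of_mem_replicate hC) ▸ hB.1⟩⟩ :
      ∀ C ∈ M :: M :: List.replicate s B, PicF.IsInvertible C)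
    rwa [List.map_cons, List.map_cons, List.map_replicate] at h
  have bcL : ∀ M : X.Modules, PicF.IsInvertible M →
      iC K (List.replicate s B') (CohB1.tensorMod (P.obj L₀) (P.obj M)) =
        iC k (List.replicate s B) (CohB1.tensorMod L₀ M) := fun M hM => by
    have h := iC_baseChange p hsq (List.replicate s B) (fun C hC => (List.eq_of_mem_replicate hC) ▸ hB.1)
      (CohB1.tensorMod L₀ M) (BigVol.isCoh_of_isInvertible (AmpleLib.isInvertible_tensorMod hL₀ hM))
    rw [List.map_replicate] at h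
    rw [← h]
    exact (iC_iso K _ (KFlat.PullTensor.pullTensorIso p L₀ M)).symm
  rcases s with _ | t
  · -- the surface
    obtain ⟨a, N, i, ha, hic, hi, ⟨eB⟩⟩ := Section.exists_embedding_pow (k := K) hB'
    haveI := hic
    obtain ⟨φ, hφ⟩ := Section.exists_section_pow hB'.1 s' hs'Z a
    obtain ⟨τ', hτ'⟩ := Section.exists_form i (φ ≫ eB.hom)
      ((CohDev.support_subset_of_mono (cokernelCompIsIso φ eB.hom).hom).trans hφ)
    have hτ0 : τ' ≠ 0 := fun h => hη (Hodge.univ_subset_of_eq_zero h hτ' η)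
    obtain ⟨c', hc'⟩ := exists_sq_bound i hi τ' hτ0 hτ' hd' (PicCl.isInvertible_pullback p hL₀) c
    refine ⟨c', fun M hM h1 h2 => ?_⟩
    have hM' := PicCl.isInvertible_pullback p hM
    have hl : ∀ C ∈ [P.obj M], PicF.IsInvertible C := by simpa using hM'
    have h1' := (bcM M hM).trans h1
    have hdB : iC K [B', P.obj M] (Coh.structureModule X') = 0 := (iC_perm K (List.Perm.swap _ _ _) _).trans h1'
    have hdA : iC K [P.obj M, oX i 1] (Coh.structureModule X') = 0 := by
      rw [iC_perm K (List.Perm.swap _ _ _), ← iC_congr K eB,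
        iC_pow K (l := [P.obj M]) hl hB'.1 hO' (EulerChar.dim_support_le hd'.le) a, hdB, mul_zero]
    have hnum : NumOn K Z (P.obj M) := by
      rw [hZ]
      refine numOn_curve K hM' ζ hζd ?_
      have h := cutO [P.obj M] hl rfl
      rw [hdB] at h
      obtain ⟨-, -, he⟩ := piece_eq K ζ hζd hl rfl
      rw [he]
      exact h.symm
    rw [← bcMM M hM]
    exact hc' _ hnum hdA (h2.trans (bcL M hM).ge)
  -- higher dimension
  have hJB : CohB1.IsAmple (J.obj B') := AmpleLib.isAmple_pullback_of_qaMor I.subschemeι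
    (AmpleFam.Pullback.qaMor_of_isAffineHom I.subschemeι) hB'
  obtain ⟨c', hc'⟩ := IH t (Nat.lt_succ_self t) K I.subscheme (J.obj B')
    (CohB1.tensorMod (J.obj B') (J.obj (P.obj L₀))) c hJB
    (CMReg.isGloballyGenerated_pullback _ (CMReg.isGloballyGenerated_pullback p hgg))
    (AmpleLib.isInvertible_tensorMod hJB.1 (PicCl.isInvertible_pullback _ (PicCl.isInvertible_pullback p hL₀))) hId
  refine ⟨c', fun M hM h1 h2 => ?_⟩
  have hM' := PicCl.isInvertible_pullback p hM
  have hL' := PicCl.isInvertible_pullback p hL₀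
  have key := hc' (J.obj (P.obj M)) (PicCl.isInvertible_pullback _ hM') ?_ ?_
  · rw [← bcMM M hM]
    refine key.trans (le_of_eq ?_)
    have hp : (P.obj M :: P.obj M :: List.replicate (t + 1) B').Perm
        (B' :: P.obj M :: P.obj M :: List.replicate t B') := by
      rw [List.replicate_succ]
      exact ((List.Perm.swap _ _ _).cons _).trans (List.Perm.swap _ _ _)
    rw [iC_perm K hp, cutO _ (List.forall_mem_cons.2 ⟨hM', List.forall_mem_cons.2 ⟨hM', hrep _⟩⟩) (by simp),
      List.map_cons, List.map_cons, List.map_replicate]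
  · have h := bcM M hM
    rw [h1, List.replicate_succ, iC_perm K (List.Perm.swap _ _ _),
      cutO _ (List.forall_mem_cons.2 ⟨hM', hrep _⟩) (by simp), List.map_cons, List.map_replicate] at h
    exact h
  · refine h2.trans (le_of_eq ?_)
    rw [← bcL M hM, List.replicate_succ, cutG _ (hrep _) _ (AmpleLib.isInvertible_tensorMod hL' hM'),
      List.map_replicate]
    let U₁ := P.obj L₀
    let U₂ := P.obj M
    let V₀ := J.obj B'
    let V₁ := J.obj U₁
    let V₂ := J.obj U₂
    let i₁ : J.obj (CohB1.tensorMod B' (CohB1.tensorMod U₁ U₂)) ≅ CohB1.tensorMod V₀ (J.obj (CohB1.tensorMod U₁ U₂)) :=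
      KFlat.PullTensor.pullTensorIso I.subschemeι B' (CohB1.tensorMod U₁ U₂)
    let i₂ : J.obj (CohB1.tensorMod U₁ U₂) ≅ CohB1.tensorMod V₁ V₂ :=
      KFlat.PullTensor.pullTensorIso I.subschemeι U₁ U₂
    let i₃ : CohB1.tensorMod V₀ (J.obj (CohB1.tensorMod U₁ U₂)) ≅ CohB1.tensorMod V₀ (CohB1.tensorMod V₁ V₂) :=
      tensCongr (Iso.refl V₀) i₂
    let i₄ : CohB1.tensorMod (CohB1.tensorMod V₀ V₁) V₂ ≅ CohB1.tensorMod V₀ (CohB1.tensorMod V₁ V₂) :=
      tensAssoc V₀ V₁ V₂
    exact iC_iso K _ (i₁ ≪≫ i₃ ≪≫ i₄.symm)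

end Groth.Agent.NumTriv.LowBound
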