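import Groth.Agent.NumTriv.Proper
import Groth.Agent.Snapper.BaseChange
import Groth.Agent.ScSupp.Basic
import Groth.Agent.Props.KilledSub

/-!
# Invertible modules which are numerically trivial on a closed subset
-/

universe u

open CategoryTheory CategoryTheory.Limits AlgebraicGeometry

set_option linter.style.haveILetI false

noncomputable section

namespace Groth.Agent.NumTriv.OnSet

open ProjTwist

variable {k : Type u} [Field k] {X : Scheme.{u}} [X.Over (Spec (CommRingCat.of k))]
  [IsProper (X ↘ Spec (CommRingCat.of k))]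

/-- A coherent module is the direct image of a coherent module on a closed subscheme supported on
its support. -/
theorem exists_push [IsLocallyNoetherian X] {F : X.Modules} (hF : Coh.IsCoh F) :
    ∃ (Y : Scheme.{u}) (j : Y ⟶ X) (_ : IsClosedImmersion j) (G : Y.Modules),
      Set.range j.base = CohB1.support F ∧ Coh.IsCoh G ∧ Nonempty ((Coh.push j).obj G ≅ F) := by
  haveI := hF.1
  haveI := hF.2
  let I := ScSupp.annIdeal F
  let j := I.subschemeι
  haveI : IsIso (Props.KilledSub.ι j F) := by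
    refine Scheme.Modules.Hom.isIso_iff_isIso_app.2 fun V => ?_
    refine (ConcreteCategory.isIso_iff_bijective _).2
      ⟨Props.SubSheaf.incl_injective _ V, fun m => ?_⟩
    refine (Props.SubSheaf.mem_range_incl _ _).2 fun x hx => (Props.KilledSub.mem_killed j F).2
      fun U a hxU ha => ?_
    rw [show j.ker = I from I.ker_subschemeι] at ha
    obtain ⟨W, hW, hxW, hWle⟩ :=
      exists_isAffineOpen_mem_and_subset (U := V ⊓ U.1) (x := x) ⟨hx, hxU⟩
    let W' : X.affineOpens := ⟨W, hW⟩
    have ha' : QCoh.rres (hWle.trans inf_le_right) a ∈ I.ideal W' :=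
      I.ideal_le_comap_ideal (U := W') (V := U) (hWle.trans inf_le_right) ha
    have h0 : QCoh.rres (hWle.trans inf_le_right) a • QCoh.res F (hWle.trans inf_le_left) m = 0 :=
      Module.mem_annihilator.1 ha' _
    have h1 := ((PullStalk.Sky.germM_smul F W x hxW _ _).symm.trans
      (congrArg (PullStalk.Sky.germM F W x hxW) h0)).trans (map_zero (F.presheaf.germ W x hxW).hom)
    rw [X.presheaf.germ_res_apply] at h1
    refine Eq.trans ?_ h1
    exact congrArg (_ • ·)
      (F.presheaf.germ_res_apply (homOfLE (hWle.trans inf_le_left)) x hxW m).symm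
  let e : (Coh.push j).obj (Props.KilledSub.G j F) ≅ F :=
    (Props.KilledSub.isoA j).symm ≪≫ asIso (Props.KilledSub.ι j F)
  refine ⟨_, j, inferInstance, Props.KilledSub.G j F, ?_,
    ZClosLib.CohDescent.isCoh_pullback j _ (CohDev.isCoh_of_iso (asIso (Props.KilledSub.ι j F)).symm hF),
    ⟨e⟩⟩
  exact (I.range_subschemeι).trans (ScSupp.support_annIdeal F)

/-- `χ(F ⊗ M) = χ(F)` for coherent `F` of dimension `≤ 1` supported in `S`. -/
def NumOn (k : Type u) [Field k] {X : Scheme.{u}} [X.Over (Spec (CommRingCat.of k))] (S : Set X)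
    (M : X.Modules) : Prop :=
  PicF.IsInvertible M ∧ ∀ F : X.Modules, Coh.IsCoh F → CohB1.support F ⊆ S →
    topologicalKrullDim ↥(CohB1.support F) ≤ ((1 : ℕ) : WithBot ℕ∞) →
      Curv2.euler k X (CohB1.tensorMod F M) = Curv2.euler k X F

theorem numOn_of_num1 {M : X.Modules} (hM : Num1 k M) (S : Set X) : NumOn k S M :=
  ⟨hM.1, fun F hF _ hd => hM.2 F hF hd⟩

theorem numOn_mono {S S' : Set X} (h : S' ⊆ S) {M : X.Modules} (hM : NumOn k S M) :
    NumOn k S' M :=
  ⟨hM.1, fun F hF hs hd => hM.2 F hF (hs.trans h) hd⟩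

theorem numOn_one (S : Set X) : NumOn k S (Coh.structureModule X) := numOn_of_num1 (num1_one k) S

theorem numOn_tens {S : Set X} {M N : X.Modules} (hM : NumOn k S M) (hN : NumOn k S N) :
    NumOn k S (CohB1.tensorMod M N) :=
  ⟨AmpleLib.isInvertible_tensorMod hM.1 hN.1, fun F hF hs hd => by
    rw [← EulerChar.euler_iso k (tensAssoc F M N),
      hN.2 _ (isCoh_tens k hM.1 hF) ((HilbPolyX.support_tensorMod_subset F M).trans hs)
        ((dim_support_tens_le F M).trans hd), hM.2 F hF hs hd]⟩

theorem numOn_pow {S : Set X} {M : X.Modules} (hM : NumOn k S M) :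
    ∀ j : ℕ, NumOn k S (CohB1.tensorPow M j)
  | 0 => numOn_one S
  | j + 1 => numOn_tens (numOn_pow hM j) hM

theorem numOn_inverse {S : Set X} {M M' : X.Modules} (hM : NumOn k S M) (hM' : PicF.IsInvertible M')
    (e : CohB1.tensorMod M' M ≅ Coh.structureModule X) : NumOn k S M' :=
  ⟨hM', fun F hF hs hd => by
    rw [← hM.2 _ (isCoh_tens k hM' hF) ((HilbPolyX.support_tensorMod_subset F M').trans hs)
        ((dim_support_tens_le F M').trans hd),
      EulerChar.euler_iso k (tensAssoc F M' M ≪≫ tensCongr (Iso.refl F) e ≪≫ tensOne F)]⟩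

/-- The restriction to a closed subscheme inside `S` is `Num1`. -/
theorem num1_of_numOn {S : Set X} {M : X.Modules} (hM : NumOn k S M) {Y : Scheme.{u}}
    [Y.Over (Spec (CommRingCat.of k))] [IsProper (Y ↘ Spec (CommRingCat.of k))] (j : Y ⟶ X)
    [IsClosedImmersion j] (hj : j ≫ (X ↘ Spec (CommRingCat.of k)) = Y ↘ Spec (CommRingCat.of k))
    (hr : Set.range j.base ⊆ S) : Num1 k ((Scheme.Modules.pullback j).obj M) := by
  haveI := EulerChar.isNoetherian k (X := X)
  refine ⟨PicCl.isInvertible_pullback j hM.1, fun F hF hd => ?_⟩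
  refine euler_closed_eq (k := k) j hj hM.1 hF (hM.2 _ ?_ ?_ ((dim_support_push_le' j F).trans hd))
  · exact ProperFin.isCoh_push_of_isFinite j F hF
  · exact (ProperFin.support_push_subset j F).trans (((Set.image_subset_range _ _)).trans hr)

/-- `NumOn` is stable under pullback to closed subschemes. -/
theorem numOn_pullback {S : Set X} {M : X.Modules} (hM : NumOn k S M) {Y : Scheme.{u}}
    [Y.Over (Spec (CommRingCat.of k))] [IsProper (Y ↘ Spec (CommRingCat.of k))] (j : Y ⟶ X)
    [IsClosedImmersion j] (hj : j ≫ (X ↘ Spec (CommRingCat.of k)) = Y ↘ Spec (CommRingCat.of k)) :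
    NumOn k (j.base ⁻¹' S) ((Scheme.Modules.pullback j).obj M) := by
  haveI := EulerChar.isNoetherian k (X := X)
  refine ⟨PicCl.isInvertible_pullback j hM.1, fun F hF hs hd => ?_⟩
  refine euler_closed_eq (k := k) j hj hM.1 hF (hM.2 _ ?_ ?_ ((dim_support_push_le' j F).trans hd))
  · exact ProperFin.isCoh_push_of_isFinite j F hF
  · exact (ProperFin.support_push_subset j F).trans (Set.image_subset_iff.2 hs)

/-- Degree zero on the integral curves contained in `S` gives `NumOn`. -/
theorem numOn_of_curves {S : Set X} {M : X.Modules} (hM : PicF.IsInvertible M)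
    (h : ∀ (C : Scheme.{u}) (ι : C ⟶ X) [IsClosedImmersion ι], IsIntegral C →
      topologicalKrullDim C = 1 → Set.range ι.base ⊆ S →
      Pic13.curveDeg k (ι ≫ (X ↘ Spec (CommRingCat.of k))) ((Scheme.Modules.pullback ι).obj M) = 0) :
    NumOn k S M := by
  haveI := EulerChar.isNoetherian k (X := X)
  refine ⟨hM, fun F hF hs hd => ?_⟩
  obtain ⟨Y, j, hjc, G, hr, hG, ⟨e⟩⟩ := exists_push hF
  haveI := hjc
  letI : Y.Over (Spec (CommRingCat.of k)) := ⟨j ≫ (X ↘ Spec (CommRingCat.of k))⟩
  haveI : IsProper (Y ↘ Spec (CommRingCat.of k)) :=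
    inferInstanceAs (IsProper (j ≫ (X ↘ Spec (CommRingCat.of k))))
  have hn : Pic13.IsNumEquivZero k Y ((Scheme.Modules.pullback j).obj M) := fun C ι _ hC hC1 => by
    have h0 := h C (ι ≫ j) hC hC1 (by
      rintro _ ⟨z, rfl⟩
      exact hs (hr ▸ ⟨ι z, rfl⟩))
    have eM : (Scheme.Modules.pullback (ι ≫ j)).obj M ≅
        (Scheme.Modules.pullback ι).obj ((Scheme.Modules.pullback j).obj M) :=
      ((Scheme.Modules.pullbackComp ι j).app M).symm
    have e2 : Pic13.curveDeg k ((ι ≫ j) ≫ (X ↘ Spec (CommRingCat.of k)))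
        ((Scheme.Modules.pullback (ι ≫ j)).obj M) =
        Pic13.curveDeg k (ι ≫ (Y ↘ Spec (CommRingCat.of k)))
          ((Scheme.Modules.pullback ι).obj ((Scheme.Modules.pullback j).obj M)) := by
      simp only [Pic13.curveDeg, Category.assoc]
      congr 1
      refine Finset.sum_congr rfl fun i _ => ?_
      congr 1
      exact_mod_cast @Snapper.finrank_HH_iso C k _ ⟨ι ≫ j ≫ (X ↘ Spec (CommRingCat.of k))⟩ _ _ eM i
    exact e2 ▸ h0
  have hN := num1_of_isNumEquivZero k (PicCl.isInvertible_pullback j hM) hn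
  have hdG : topologicalKrullDim ↥(CohB1.support G) ≤ ((1 : ℕ) : WithBot ℕ∞) :=
    (dim_support_le_push j G).trans ((CohDev.dim_mono (CohDev.support_subset_of_mono e.hom)).trans hd)
  have h2 := hN.2 G hG hdG
  rw [euler_closed_tens (k := k) j rfl hM hG, ← EulerChar.euler_push j rfl G hG.1] at h2
  rw [EulerChar.euler_iso k (tensCongr e (Iso.refl M)), EulerChar.euler_iso k e] at h2
  exact h2

/-- Modules supported in `S`: invariance of `χ` and uniform regularity. -/
theorem uniform_on [Infinite k] {n : ℕ} (i : X ⟶ CohB1.ProjSpace n k) [IsClosedImmersion i]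
    (hi : i ≫ CohB1.ProjSpace.toSpec n k = X ↘ Spec (CommRingCat.of k)) {S : Set X} {F : X.Modules}
    (hF : Coh.IsCoh F) (hS : CohB1.support F ⊆ S) :
    (∀ M : X.Modules, NumOn k S M →
      Curv2.euler k X (CohB1.tensorMod F M) = Curv2.euler k X F) ∧
    ∃ m : ℤ, ∀ M : X.Modules, NumOn k S M → Curv2.IsMRegular k n (G i F M) m := by
  haveI := EulerChar.isNoetherian k (X := X)
  obtain ⟨Y, j, hjc, G₀, hr, hG, ⟨e⟩⟩ := exists_push hF
  haveI := hjc
  letI : Y.Over (Spec (CommRingCat.of k)) := ⟨j ≫ (X ↘ Spec (CommRingCat.of k))⟩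
  haveI : IsProper (Y ↘ Spec (CommRingCat.of k)) :=
    inferInstanceAs (IsProper (j ≫ (X ↘ Spec (CommRingCat.of k))))
  have hji : (j ≫ i) ≫ CohB1.ProjSpace.toSpec n k = Y ↘ Spec (CommRingCat.of k) := by
    rw [Category.assoc, hi]
    rfl
  have hr' : Set.range j.base ⊆ S := hr ▸ hS
  refine ⟨fun M hM => ?_, ?_⟩
  · have h := euler_tens_eq (j ≫ i) hji hG (num1_of_numOn hM j rfl hr')
    rw [euler_closed_tens (k := k) j rfl hM.1 hG, ← EulerChar.euler_push j rfl G₀ hG.1,
      EulerChar.euler_iso k (tensCongr e (Iso.refl M)), EulerChar.euler_iso k e] at h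
    exact h
  · obtain ⟨m, hm⟩ := exists_uniform_regular (j ≫ i) hji hG
    refine ⟨m, fun M hM q hq hqn => ?_⟩
    haveI := (isCoh_tens k (PicCl.isInvertible_pullback j hM.1) hG).1
    have h := CMReg.isMRegular_push (j ≫ i) (hm _ (num1_of_numOn hM j rfl hr')) q hq hqn
    let θ : (Coh.push (j ≫ i)).obj (CohB1.tensorMod G₀ ((Scheme.Modules.pullback j).obj M)) ≅
        NumTriv.G i F M :=
      ((Scheme.Modules.pushforwardComp j i).app _).symm ≪≫
        (Scheme.Modules.pushforward i).mapIso
          ((Scheme.Modules.pushforward j).mapIso (tensComm _ _) ≪≫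
            ((ChgRings.projIso j G₀).app M).symm ≪≫ tensComm _ _ ≪≫ tensCongr e (Iso.refl M))
    exact @ProjTwist.Pn.subsingleton_of_iso _ _ _ _ _
      ((ProjTwist.Pn.twFun n k (m - q)).mapIso θ) q h

end Groth.Agent.NumTriv.OnSet
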