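import Groth.Agent.NumTriv.Twist
import Groth.Agent.HilbPolyX.Ample
import Groth.Agent.HilbPolyX.Order
import Groth.Agent.HilbPolyX.Sheaf
import Groth.Agent.EulerChar.Curve

/-!
# A bound for `h⁰((F ⊗ M)(j))` uniform in `M`, for very negative `j`
-/

universe u

open CategoryTheory CategoryTheory.Limits AlgebraicGeometry

set_option linter.style.haveILetI false

noncomputable section

namespace Groth.Agent.NumTriv

open ProjTwist ProjTwist.Pn

variable {k : Type u} [Field k] {n : ℕ} {X : Scheme.{u}} (i : X ⟶ CohB1.ProjSpace n k)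
  [IsClosedImmersion i]

theorem dim_support_push_le {Y : Scheme.{u}} (f : Y ⟶ X) [IsClosedImmersion f] (N : Y.Modules) :
    topologicalKrullDim ↥(CohB1.support ((Coh.push f).obj N)) ≤
      topologicalKrullDim ↥(CohB1.support N) := by
  refine (CohDev.dim_mono (ProperFin.support_push_subset f N)).trans ?_
  exact le_of_eq (IsHomeomorph.topologicalKrullDim_eq _
    (f.isClosedEmbedding.isEmbedding.homeomorphImage (CohB1.support N)).isHomeomorph).symm

theorem dim_support_le_push {Y : Scheme.{u}} (f : Y ⟶ X) [IsClosedImmersion f] (N : Y.Modules) :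
    topologicalKrullDim ↥(CohB1.support N) ≤
      topologicalKrullDim ↥(CohB1.support ((Coh.push f).obj N)) :=
  Topology.IsInducing.topologicalKrullDim_le
    (f := fun z : ↥(CohB1.support N) =>
      (⟨f z.1, ProperFin.mem_support_push f z.2⟩ : ↥(CohB1.support ((Coh.push f).obj N))))
    ((f.isClosedEmbedding.isInducing.comp Topology.IsInducing.subtypeVal).codRestrict
      fun z => ProperFin.mem_support_push f z.2)

variable [X.Over (Spec (CommRingCat.of k))] [IsProper (X ↘ Spec (CommRingCat.of k))]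
  (hi : i ≫ CohB1.ProjSpace.toSpec n k = X ↘ Spec (CommRingCat.of k))

include hi

/-- a piece of dimension zero -/
theorem h0Tw_dim_zero {F M : X.Modules} (hM : Num1 k M) (hF : Coh.IsCoh F)
    (hd : topologicalKrullDim ↥(CohB1.support F) ≤ ((0 : ℕ) : WithBot ℕ∞)) :
    (h0Tw (G i F M) 0 : ℤ) = Curv2.euler k X (Pic13.twistOn k i F 0) := by
  haveI : IsProper (CohB1.ProjSpace n k ↘ Spec (CommRingCat.of k)) :=
    ProjProper.Basic.isProper_toSpec n k
  haveI := EulerChar.isNoetherian k (X := CohB1.ProjSpace n k)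
  have hsupp : topologicalKrullDim ↥(CohB1.support (twF (G i F M) 0)) ≤ ((0 : ℕ) : WithBot ℕ∞) :=
    (topologicalKrullDim_support_twF_le _ _).trans
      ((dim_support_push_le i _).trans ((dim_support_tens_le F M).trans hd))
  have hv : ∀ q : ℕ, 0 < q → Subsingleton (Coh.HH (CohB1.ProjSpace n k) (twF (G i F M) 0) q) :=
    fun q hq => subsingleton_of_supportDim_le (isCoh_tw (isCoh_G i hM.1 hF) 0) 0 hsupp q hq
  have h1 : h1Tw (G i F M) 0 = 0 := @Module.finrank_zero_of_subsingleton _ _ _ _ _ _ (hv 1 one_pos)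
  have h2 := chi_eq_of_vanishing fun q hq => hv q (by omega)
  rw [h1, chi_G i hi hM.1 hF, hM.2 _ (isCoh_twistOn i hF 0)
    ((dim_support_twistOn_le i F 0).trans (hd.trans (by exact_mod_cast Nat.zero_le 1)))] at h2
  omega

omit [IsProper (X ↘ Spec (CommRingCat.of k))] in
/-- `χ` of a high twist is nonnegative. -/
theorem euler_twistOn_nonneg {C : X.Modules} (hC : Coh.IsCoh C) :
    ∃ t₀ : ℕ, ∀ t : ℕ, t₀ ≤ t → 0 ≤ Curv2.euler k X (Pic13.twistOn k i C t) := by
  haveI := isLocallyNoetherian_projSpace n k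
  haveI := hC.1
  obtain ⟨d₀, hd₀⟩ := serre_vanishing _ (ProperFin.isCoh_push_of_isFinite i _ hC)
  refine ⟨d₀.toNat, fun t ht => ?_⟩
  have hd : d₀ ≤ (t : ℤ) := (Int.self_le_toNat d₀).trans (by exact_mod_cast ht)
  rw [← chi_push i hi C t, chi_eq_of_vanishing fun q hq => hd₀ _ hd q (by omega),
    show h1Tw ((Coh.push i).obj C) (t : ℤ) = 0 from
      @Module.finrank_zero_of_subsingleton _ _ _ _ _ _ (hd₀ _ hd 1 one_pos)]
  omega

omit hi in
/-- a nonzero section of `M(-1)` on an integral closed subscheme gives a monomorphism from its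
structure sheaf -/
theorem exists_mono_of_h0Tw {x : X} {M : X.Modules} (hM : PicF.IsInvertible M)
    (hO : Coh.IsCoh (Cyc.closureStructureSheaf x))
    (hne : h0Tw (G i (Cyc.closureStructureSheaf x) M) (-1) ≠ 0) :
    ∃ φ : Cyc.closureStructureSheaf x ⟶
      Pic13.twistOn k i (CohB1.tensorMod (Cyc.closureStructureSheaf x) M) (-1), Mono φ := by
  haveI := EulerChar.isNoetherian k (X := X)
  let ι := (IntMult.ptIdeal x).subschemeι
  haveI : IsIntegral (IntMult.ptIdeal x).subscheme :=
    S16188.isIntegral_subscheme _ isIrreducible_singleton.closure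
  let E := CohB1.tensorMod M (oX i (-1))
  have hE : PicF.IsInvertible E := AmpleLib.isInvertible_tensorMod hM (isInvertible_oX i (-1))
  let N := (Scheme.Modules.pullback ι).obj E
  have hN : PicF.IsInvertible N := PicCl.isInvertible_pullback ι hE
  haveI hNq : Coh.IsQCoh N := ProjTwist.isQCoh_of_isInvertible hN
  haveI : Coh.IsQCoh (CohB1.tensorMod (Cyc.closureStructureSheaf x) M) :=
    (isCoh_tens k hM hO).1
  let eX : Pic13.twistOn k i (CohB1.tensorMod (Cyc.closureStructureSheaf x) M) (-1) ≅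
      (Coh.push ι).obj N :=
    tensAssoc (Cyc.closureStructureSheaf x) M (oX i (-1)) ≪≫
      tensComm (Cyc.closureStructureSheaf x) E ≪≫ EulerChar.tensQuotIso ι E
  have hΓ : ∃ σ : Γ(N, ⊤), σ ≠ 0 := by
    by_contra hall
    push Not at hall
    haveI : Subsingleton Γ(N, ⊤) := subsingleton_of_forall_eq 0 hall
    haveI : Subsingleton (Coh.HH _ N 0) := (ProperFin.h0Sec N).toEquiv.subsingleton
    haveI : Subsingleton (Coh.HH X ((Coh.push ι).obj N) 0) :=
      (CMReg.subsingleton_push_iff ι N 0).2 ‹_›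
    haveI : Subsingleton (Coh.HH X
        (Pic13.twistOn k i (CohB1.tensorMod (Cyc.closureStructureSheaf x) M) (-1)) 0) :=
      (CohLin.hIso eX 0).toEquiv.subsingleton
    exact hne (@Module.finrank_zero_of_subsingleton _ _ _ _ _ _
      ((CMReg.subsingleton_twistOn_iff i _ (-1) 0).1 ‹_›))
  obtain ⟨σ, hσ⟩ := hΓ
  have hs : Props.GenLocus.homOfSec σ ≠ 0 := fun h => hσ (by
    have h1 := Props.GenLocus.sec_homOfSec σ ⊤
    rw [QCoh.res_self, h] at h1
    exact h1.symm.trans rfl)
  haveI := EulerChar.mono_of_ne_zero (LFFrame.isInvertible_structureModule _) hN _ hs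
  haveI := (Scheme.Modules.pullbackPushforwardAdjunction ι).isRightAdjoint
  have hm : Mono ((Scheme.Modules.pushforward ι).map (Props.GenLocus.homOfSec σ)) :=
    Functor.map_mono _ _
  exact ⟨(Scheme.Modules.pushforward ι).map (Props.GenLocus.homOfSec σ) ≫ eX.inv,
    @mono_comp _ _ _ _ _ _ hm _ inferInstance⟩

omit hi [IsClosedImmersion i] in
/-- `χ` along a monomorphism `O → (O ⊗ M)(-1)` -/
theorem euler_cokernel_eq {O M : X.Modules} (hM : PicF.IsInvertible M) (hO : Coh.IsCoh O)
    {e : ℕ} (hdim : topologicalKrullDim ↥(CohB1.support O) ≤ (e : WithBot ℕ∞))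
    (hlow : ∀ F : X.Modules, Coh.IsCoh F →
      topologicalKrullDim ↥(CohB1.support F) < (e : WithBot ℕ∞) →
      Curv2.euler k X (CohB1.tensorMod F M) = Curv2.euler k X F)
    (φ : O ⟶ Pic13.twistOn k i (CohB1.tensorMod O M) (-1)) [Mono φ] (a b : ℤ) (h : -1 + b = a) :
    Curv2.euler k X (Pic13.twistOn k i (cokernel φ) b) =
      Curv2.euler k X (Pic13.twistOn k i O a) +
        (Curv2.euler k X (CohB1.tensorMod O M) - Curv2.euler k X O) -
        Curv2.euler k X (Pic13.twistOn k i O b) := by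
  have hB : Coh.IsCoh (Pic13.twistOn k i (CohB1.tensorMod O M) (-1)) :=
    isCoh_twistOn i (isCoh_tens k hM hO) (-1)
  have hQ : Coh.IsCoh (cokernel φ) := CohDev.isCoh_cokernel φ hO.1 hB
  have h1 : Curv2.euler k X (Pic13.twistOn k i (Pic13.twistOn k i (CohB1.tensorMod O M) (-1)) b) =
      Curv2.euler k X (Pic13.twistOn k i O b) +
        Curv2.euler k X (Pic13.twistOn k i (cokernel φ) b) :=
    euler_twistOn_add i (HilbPolyX.shortExact_of_mono φ) hO hB hQ b
  obtain ⟨e'⟩ := nonempty_twistTwist i (CohB1.tensorMod O M) (-1) b a h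
  have h2 : Curv2.euler k X (CohB1.tensorMod (Pic13.twistOn k i O a) M) -
      Curv2.euler k X (Pic13.twistOn k i O a) =
      Curv2.euler k X (CohB1.tensorMod O M) - Curv2.euler k X O :=
    dev_tens_left k hM (isInvertible_oX i a) hO hdim hlow
  rw [EulerChar.euler_iso k (e' ≪≫ twistTens i O M a)] at h1
  linarith

omit hi [IsClosedImmersion i] [X.Over (Spec (CommRingCat.of k))] [IsProper (X ↘ Spec (CommRingCat.of k))] in
/-- A polynomial of degree `d + 1` with positive leading coefficient grows faster than a constant. -/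
theorem false_of_poly_le {P : Polynomial ℚ} {d : ℕ} (hPd : P.natDegree ≤ d + 1)
    (hpos : 0 < P.coeff (d + 1)) {c : ℚ} (hc : d = 0 → c = 0) {t₀ : ℕ}
    (h : ∀ t : ℕ, t₀ ≤ t → P.eval ((t + 1 : ℕ) : ℚ) ≤ P.eval (t : ℚ) + c) : False := by
  let Q : Polynomial ℚ := P.comp (Polynomial.X + Polynomial.C (-1)) - P + Polynomial.C c
  have hle : StabCat.PolyLE 0 Q := ⟨t₀ + 1, fun t ht => by
    obtain ⟨t', rfl⟩ : ∃ t', t = t' + 1 := ⟨t - 1, by omega⟩
    have h5 := h t' (by omega)
    simp only [Q, Polynomial.eval_zero, Polynomial.eval_add, Polynomial.eval_sub,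
      Polynomial.eval_comp, Polynomial.eval_X, Polynomial.eval_C]
    push_cast at h5 ⊢
    rw [add_neg_cancel_right]
    linarith⟩
  rw [HilbPolyX.polyLE_iff, sub_zero] at hle
  have hQd : Q.coeff d < 0 := by
    have hc' : (Polynomial.C c).coeff d = 0 := by
      rcases Nat.eq_zero_or_pos d with h | h
      · rw [hc h]; simp
      · exact Polynomial.coeff_C_of_ne_zero (by omega)
    simp only [Q, Polynomial.coeff_add, Polynomial.coeff_sub,
      HilbPolyX.coeff_comp_add P (-1) d hPd, hc', add_zero]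
    nlinarith
  have hQn : Q.natDegree = d := by
    refine Polynomial.natDegree_eq_of_le_of_coeff_ne_zero
      (Polynomial.natDegree_le_iff_coeff_eq_zero.2 fun j hj => ?_) hQd.ne
    have hc' : (Polynomial.C c).coeff j = 0 := Polynomial.coeff_C_of_ne_zero (by omega)
    have hj1 : P.coeff (j + 1) = 0 :=
      Polynomial.coeff_eq_zero_of_natDegree_lt (by omega)
    simp only [Q, Polynomial.coeff_add, Polynomial.coeff_sub, hc', add_zero,
      HilbPolyX.coeff_comp_add P (-1) j (by omega), hj1]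
    ring
  rw [Polynomial.leadingCoeff, hQn] at hle
  linarith

/-- `H⁰(Z, M(-1)) = 0` on an integral `Z` of positive dimension. -/
theorem h0Tw_neg_one_eq_zero {x : X} {d e : ℕ}
    (hd : topologicalKrullDim ↥(closure ({x} : Set X)) = ((d + 1 : ℕ) : WithBot ℕ∞))
    (he : d + 1 ≤ e)
    (hC : ∀ F : X.Modules, Coh.IsCoh F →
      topologicalKrullDim ↥(CohB1.support F) < (e : WithBot ℕ∞) →
      ∀ M : X.Modules, Num1 k M → Curv2.euler k X (CohB1.tensorMod F M) = Curv2.euler k X F)
    {M : X.Modules} (hM : Num1 k M) :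
    h0Tw (G i (Cyc.closureStructureSheaf x) M) (-1) = 0 := by
  haveI := EulerChar.isNoetherian k (X := X)
  by_contra hne
  have hO : Coh.IsCoh (Cyc.closureStructureSheaf x) := CohDev.isCoh_oz x
  have hdim : topologicalKrullDim ↥(CohB1.support (Cyc.closureStructureSheaf x)) ≤
      ((d + 1 : ℕ) : WithBot ℕ∞) := (CohDev.dim_mono (CohDev.support_oz_subset x)).trans hd.le
  obtain ⟨φ, hφ⟩ := exists_mono_of_h0Tw i hM.1 hO hne
  have hQ : Coh.IsCoh (cokernel φ) :=
    CohDev.isCoh_cokernel φ hO.1 (isCoh_twistOn i (isCoh_tens k hM.1 hO) (-1))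
  obtain ⟨P, hP⟩ := HilbPolyX.exists_hilbPoly k (isInvertible_oX i 1) hO
  have hPt : ∀ t : ℕ,
      (Curv2.euler k X (Pic13.twistOn k i (Cyc.closureStructureSheaf x) t) : ℚ) = P.eval (t : ℚ) := by
    intro t
    obtain ⟨e'⟩ := nonempty_oX_pow i t
    rw [← hP t]
    exact congrArg Int.cast
      (EulerChar.euler_iso k (tensCongr (Iso.refl (Cyc.closureStructureSheaf x)) e')).symm
  obtain ⟨t₀, ht₀⟩ := euler_twistOn_nonneg i hi hQ
  have hpos : 0 < P.coeff (d + 1) := by
    refine HilbPolyX.coeff_pos k (isAmple_oX_one i) (d + 1) hO hP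
      (le_antisymm hdim (hd.ge.trans (CohDev.dim_mono ?_)))
    refine closure_minimal (Set.singleton_subset_iff.2 fun hs => ?_) (CohDev.isClosed_support hO)
    have h := CohDev.length_stalk_oz x
    rw [@Module.length_eq_zero _ _ _ _ _ hs] at h
    exact zero_ne_one h
  refine false_of_poly_le (HilbPolyX.natDegree_le k (isInvertible_oX i 1) hO hP hdim) hpos
    (c := ((Curv2.euler k X (CohB1.tensorMod (Cyc.closureStructureSheaf x) M) -
      Curv2.euler k X (Cyc.closureStructureSheaf x) : ℤ) : ℚ)) (fun h => ?_) (t₀ := t₀) fun t ht => ?_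
  · subst h
    rw [Int.cast_eq_zero]
    exact sub_eq_zero.2 (hM.2 _ hO (by simpa using hdim))
  · rw [← hPt, ← hPt, ← Int.cast_add]
    have h1 := euler_cokernel_eq i hM.1 hO hdim
      (fun F hF h => hC F hF (h.trans_le (by exact_mod_cast he)) M hM) φ (t : ℤ)
      ((t + 1 : ℕ) : ℤ) (by push_cast; ring)
    have h3 := ht₀ (t + 1) (by omega)
    rw [h1] at h3
    exact_mod_cast (by linarith : Curv2.euler k X (Pic13.twistOn k i (Cyc.closureStructureSheaf x)
      ((t + 1 : ℕ) : ℤ)) ≤ _)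

/-- Uniform bound of `h⁰` in very negative degree. -/
theorem exists_h0Tw_bound [Infinite k] {e : ℕ}
    (hC : ∀ F : X.Modules, Coh.IsCoh F →
      topologicalKrullDim ↥(CohB1.support F) < (e : WithBot ℕ∞) →
      ∀ M : X.Modules, Num1 k M → Curv2.euler k X (CohB1.tensorMod F M) = Curv2.euler k X F)
    {F : X.Modules} (hF : Coh.IsCoh F)
    (hd : topologicalKrullDim ↥(CohB1.support F) ≤ (e : WithBot ℕ∞)) :
    ∃ (j : ℤ) (B : ℕ), ∀ M : X.Modules, Num1 k M → h0Tw (G i F M) j ≤ B := by
  haveI := EulerChar.isNoetherian k (X := X)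
  haveI := isLocallyNoetherian_projSpace n k
  refine CohDev.devissage_on (CohB1.support F)
    (fun A => ∃ (j : ℤ) (B : ℕ), ∀ M : X.Modules, Num1 k M → h0Tw (G i A M) j ≤ B)
    ?_ ?_ ?_ hF subset_rfl
  · intro A hA
    refine ⟨0, 0, fun M _ => ?_⟩
    have hz : IsZero (G i A M) :=
      (Coh.push i).map_isZero ((((DCoh.tensorBi (X := X)).flip.obj M)).map_isZero hA)
    exact (@Module.finrank_zero_of_subsingleton _ _ _ _ _ _
      (subsingleton_of_isZero ((twFun n k 0).map_isZero hz) 0)).le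
  · intro S hS h₁ h₂ h₃ _ p₁ p₃
    obtain ⟨j₁, B₁, hB₁⟩ := p₁
    obtain ⟨j₃, B₃, hB₃⟩ := p₃
    refine ⟨min j₁ j₃, B₁ + B₃, fun M hM => ?_⟩
    refine (h0Tw_le_add (shortExact_push i (ProjTwist.shortExact_tensor hM.1 hS))
      (isCoh_G i hM.1 h₁) (isCoh_G i hM.1 h₂) (isCoh_G i hM.1 h₃) _).trans (add_le_add ?_ ?_)
    · exact (h0Tw_mono (isCoh_G i hM.1 h₁) (min_le_left _ _)).trans (hB₁ M hM)
    · exact (h0Tw_mono (isCoh_G i hM.1 h₃) (min_le_right _ _)).trans (hB₃ M hM)
  · intro x hx J hJ _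
    obtain ⟨g, hg, hJc, -⟩ := hJ
    have hsub : closure ({x} : Set X) ⊆ CohB1.support F :=
      closure_minimal (Set.singleton_subset_iff.2 hx) (CohDev.isClosed_support hF)
    have hdx := (CohDev.dim_mono hsub).trans hd
    suffices H : ∃ (j : ℤ) (B : ℕ), ∀ M : X.Modules, Num1 k M →
        h0Tw (G i (Cyc.closureStructureSheaf x) M) j ≤ B by
      obtain ⟨j, B, hB⟩ := H
      refine ⟨j, B, fun M hM => le_trans ?_ (hB M hM)⟩
      have hO := CohDev.isCoh_oz x
      haveI := (ProjTwist.shortExact_tensor hM.1 (HilbPolyX.shortExact_of_mono g)).mono_f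
      exact ProjTwist.Pn.h0Tw_le_of_mono (shortExact_push i
        (ProjTwist.shortExact_tensor hM.1 (HilbPolyX.shortExact_of_mono g))) (isCoh_G i hM.1 hO) j
    obtain ⟨d, hdd⟩ : ∃ d : ℕ, topologicalKrullDim ↥(closure ({x} : Set X)) = (d : WithBot ℕ∞) := by
      haveI : Nonempty ↥(closure ({x} : Set X)) := ⟨⟨x, subset_closure rfl⟩⟩
      have h2 := TopDimLib.topDim_nonneg_of_nonempty (X := ↥(closure ({x} : Set X)))
      generalize topologicalKrullDim ↥(closure ({x} : Set X)) = v at hdx h2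
      cases v with
      | bot => exact absurd h2 (by simp)
      | coe a =>
        have ha : a ≤ (e : ℕ∞) := WithBot.coe_le_coe.1 hdx
        lift a to ℕ using (lt_of_le_of_lt ha (ENat.natCast_lt_top e)).ne
        exact ⟨a, rfl⟩
    rcases d with _ | d
    · refine ⟨0, (Curv2.euler k X (Pic13.twistOn k i (Cyc.closureStructureSheaf x) 0)).toNat,
        fun M hM => ?_⟩
      have h := h0Tw_dim_zero i hi hM (CohDev.isCoh_oz x)
        ((CohDev.dim_mono (CohDev.support_oz_subset x)).trans hdd.le)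
      rw [← h, Int.toNat_natCast]
    · refine ⟨-1, 0, fun M hM => (h0Tw_neg_one_eq_zero i hi hdd ?_ hC hM).le⟩
      rw [hdd] at hdx
      exact_mod_cast hdx

end Groth.Agent.NumTriv
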