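import Groth.Agent.NumTriv.Class
import Groth.Agent.EulerChar.PointCount
import Groth.Agent.EulerChar.Cartier
import Groth.Agent.EulerChar.Deg
import Groth.Agent.DefAmple27.Point
import Groth.Agent.IdealSh.Stalk
import Groth.Agent.CurveDVR.Stalk
import Groth.Agent.Props.NormalCM
import Groth.Agent.BigVol.Basic
import Groth.Agent.AmpCrit.SerreVan
import Groth.Prelude.Def_W4c2seshadriposJets

/-!
# Lengths of powers of points on a surface

`O / m^n` has length at most `C(n + 1, 2)` at a point with two-generated maximal ideal, so the ideal of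
multiplicity `n` at a finite set `Z` imposes at most `#Z · C(n + 1, 2)` conditions.
-/

set_option autoImplicit false
set_option linter.style.haveILetI false

universe u

open CategoryTheory CategoryTheory.Limits AlgebraicGeometry TopologicalSpace
open Groth.Agent.PullStalk.Sky Groth.Agent.PullStalk.Exact

noncomputable section

namespace Groth.Agent.NumTriv.PointLen

section Algebra

variable {R : Type u} [CommRing R]

theorem length_quot_le {J J' : Ideal R} (c : R) (h : ∀ r ∈ J, c * r ∈ J') :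
    Module.length R (R ⧸ J') ≤ Module.length R (R ⧸ J) + Module.length R (R ⧸ (J' ⊔ Ideal.span {c})) := by
  let f : R ⧸ J →ₗ[R] R ⧸ J' := Submodule.mapQ J J' (LinearMap.mulLeft R c) h
  let g : R ⧸ J' →ₗ[R] R ⧸ (J' ⊔ Ideal.span {c}) := Submodule.factor le_sup_left
  have hg : Function.Surjective g := Submodule.factor_surjective _
  have hker : LinearMap.ker g = LinearMap.range f := by
    refine le_antisymm (fun x hx => ?_) ?_
    · obtain ⟨r, rfl⟩ := Submodule.Quotient.mk_surjective _ x
      have hr : r ∈ J' ⊔ Ideal.span {c} := by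
        rw [LinearMap.mem_ker] at hx
        exact (Submodule.Quotient.mk_eq_zero _).1 hx
      obtain ⟨y, hy, z, hz, rfl⟩ := Submodule.mem_sup.1 hr
      obtain ⟨t, rfl⟩ := Ideal.mem_span_singleton'.1 hz
      refine ⟨Submodule.Quotient.mk t, ?_⟩
      show Submodule.Quotient.mk (c * t) = _
      rw [Submodule.Quotient.eq]
      have : c * t - (y + t * c) = -y := by ring
      rw [this]
      exact neg_mem hy
    · rintro _ ⟨x, rfl⟩
      obtain ⟨r, rfl⟩ := Submodule.Quotient.mk_surjective _ x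
      rw [LinearMap.mem_ker]
      exact (Submodule.Quotient.mk_eq_zero _).2
        (Submodule.mem_sup_right (Ideal.mem_span_singleton'.2 ⟨r, mul_comm _ _⟩))
  rw [Module.length_eq_add_of_exact (LinearMap.ker g).subtype g Subtype.val_injective hg
    (LinearMap.exact_subtype_ker_map g)]
  gcongr
  refine (Module.length_le_of_surjective (f.codRestrict (LinearMap.ker g) fun x => hker.ge ⟨x, rfl⟩) ?_)
  rintro ⟨y, hy⟩
  obtain ⟨x, rfl⟩ := hker.le hy
  exact ⟨x, rfl⟩

theorem length_line_le [IsLocalRing R] (a b : R) (hm : IsLocalRing.maximalIdeal R = Ideal.span {a, b}) :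
    ∀ n : ℕ, Module.length R (R ⧸ (Ideal.span {a} ⊔ Ideal.span {b ^ n})) ≤ (n : ℕ∞)
  | 0 => by
    rw [pow_zero, Ideal.span_singleton_one, sup_top_eq, Nat.cast_zero, nonpos_iff_eq_zero, Module.length_eq_zero]
  | n + 1 => by
    have h : ∀ r ∈ Ideal.span {a} ⊔ Ideal.span {b ^ n}, b * r ∈ Ideal.span {a} ⊔ Ideal.span {b ^ (n + 1)} := by
      intro r hr
      obtain ⟨y, hy, z, hz, rfl⟩ := Submodule.mem_sup.1 hr
      rw [mul_add]
      refine Submodule.add_mem_sup (Ideal.mul_mem_left _ _ hy) ?_
      obtain ⟨t, rfl⟩ := Ideal.mem_span_singleton'.1 hz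
      exact Ideal.mem_span_singleton'.2 ⟨t, by ring⟩
    refine (length_quot_le b h).trans ?_
    rw [Nat.cast_succ]
    refine add_le_add (length_line_le a b hm n) (le_of_eq ?_)
    have e : Ideal.span {a} ⊔ Ideal.span {b ^ (n + 1)} ⊔ Ideal.span {b} = IsLocalRing.maximalIdeal R := by
      rw [hm, Ideal.span_insert, sup_assoc, sup_eq_right.2 (show Ideal.span {b ^ (n + 1)} ≤ Ideal.span {b} from
        Ideal.span_singleton_le_span_singleton.2 (dvd_pow_self b n.succ_ne_zero))]
    rw [e]
    exact Module.length_eq_one_iff.2 (isSimpleModule_iff_isCoatom.2 (IsLocalRing.maximalIdeal.isMaximal R).out)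

theorem length_pow_le [IsLocalRing R] (a b : R) (hm : IsLocalRing.maximalIdeal R = Ideal.span {a, b}) :
    ∀ n : ℕ, Module.length R (R ⧸ IsLocalRing.maximalIdeal R ^ n) ≤ ((n + 1).choose 2 : ℕ∞)
  | 0 => by
    rw [pow_zero, Ideal.one_eq_top, Module.length_eq_zero_iff.2]
    · simp
    · exact Submodule.Quotient.subsingleton_iff.2 rfl
  | n + 1 => by
    have ha : a ∈ IsLocalRing.maximalIdeal R := hm ▸ Ideal.subset_span (Set.mem_insert a _)
    have hb : b ∈ IsLocalRing.maximalIdeal R := hm ▸ Ideal.subset_span (Set.mem_insert_of_mem a rfl)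
    refine (length_quot_le a (J := IsLocalRing.maximalIdeal R ^ n) fun r hr => ?_).trans ?_
    · rw [pow_succ']
      exact Ideal.mul_mem_mul ha hr
    have hle : Ideal.span {a} ⊔ Ideal.span {b ^ (n + 1)} ≤
        IsLocalRing.maximalIdeal R ^ (n + 1) ⊔ Ideal.span {a} :=
      sup_le le_sup_right (le_sup_of_le_left ((Ideal.span_singleton_le_iff_mem _).2 (Ideal.pow_mem_pow hb _)))
    have h2 := (Module.length_le_of_surjective _ (Submodule.factor_surjective hle)).trans
      (length_line_le a b hm (n + 1))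
    refine (add_le_add (length_pow_le a b hm n) h2).trans (le_of_eq ?_)
    rw [← Nat.cast_add, Nat.choose_succ_succ (n + 1) 1, Nat.choose_one_right, add_comm]

theorem exists_pair [IsLocalRing R] [IsRegularLocalRing R] (h : ringKrullDim R ≤ 2) :
    ∃ a b : R, IsLocalRing.maximalIdeal R = Ideal.span {a, b} := by
  have h2 : (IsLocalRing.maximalIdeal R).spanFinrank ≤ 2 := by
    rw [← IsRegularLocalRing.spanFinrank_maximalIdeal (R := R)] at h
    exact_mod_cast h
  have hfg := IsNoetherian.noetherian (IsLocalRing.maximalIdeal R)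
  have hcard := hfg.generators_ncard
  have hspan := (IsLocalRing.maximalIdeal R).span_generators
  have hfin := hfg.finite_generators
  obtain h0 | h1 | h2 : (IsLocalRing.maximalIdeal R).generators.ncard = 0 ∨
      (IsLocalRing.maximalIdeal R).generators.ncard = 1 ∨ (IsLocalRing.maximalIdeal R).generators.ncard = 2 := by
    omega
  · refine ⟨0, 0, ?_⟩
    rw [Set.ncard_eq_zero hfin] at h0
    rw [← hspan, h0]
    simp
  · obtain ⟨a, ha⟩ := Set.ncard_eq_one.1 h1
    refine ⟨a, 0, ?_⟩
    rw [← hspan, ha]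
    simp [Ideal.span, Submodule.span_insert_zero, Set.pair_comm a (0 : R)]
  · obtain ⟨a, b, -, hab⟩ := Set.ncard_eq_two.1 h2
    exact ⟨a, b, by rw [← hspan, hab]⟩

end Algebra

section Stalk

variable {X : Scheme.{u}}

/-- The stalk of `O/I` is a quotient of `O_z / I_z`. -/
theorem length_stalk_quotMod_le (I : X.IdealSheafData) (z : X) :
    Module.length (X.presheaf.stalk z) ((ClSub.quotMod I).presheaf.stalk z) ≤
      Module.length (X.presheaf.stalk z) (X.presheaf.stalk z ⧸ IntMult.stalkIdeal I z) := by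
  haveI := EulerChar.epi_toSubscheme I
  let g₁ : (ClSub.quotMod I).presheaf.stalk z := stalkLin (ClSub.toSubscheme I) z
    (germM (Coh.structureModule X) ⊤ z trivial (1 : Γ(X, ⊤)))
  let φ : X.presheaf.stalk z →ₗ[X.presheaf.stalk z] (ClSub.quotMod I).presheaf.stalk z :=
    LinearMap.toSpanSingleton _ _ g₁
  have hkey : ∀ (W : X.Opens) (hzW : z ∈ W) (a : Γ(X, W)),
      φ (X.presheaf.germ W z hzW a) =
        stalkLin (ClSub.toSubscheme I) z (germM (Coh.structureModule X) W z hzW a) := by
    intro W hzW a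
    rw [LinearMap.toSpanSingleton_apply, ← map_smul]
    congr 1
    have h1 : germM (Coh.structureModule X) ⊤ z trivial (1 : Γ(X, ⊤)) =
        germM (Coh.structureModule X) W z hzW (1 : Γ(X, W)) := by
      refine ((Coh.structureModule X).presheaf.germ_res_apply (homOfLE (le_top : W ≤ ⊤)) z hzW _).symm.trans ?_
      exact congrArg (germM (Coh.structureModule X) W z hzW) (X.presheaf.map (homOfLE le_top).op).hom.map_one
    rw [h1, ← germM_smul]
    exact congrArg (germM (Coh.structureModule X) W z hzW) (mul_one a)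
  have hsurj : Function.Surjective φ := fun t => by
    obtain ⟨s, rfl⟩ := stalk_surjective (ClSub.toSubscheme I) z t
    obtain ⟨W, hzW, a, rfl⟩ := exists_germM_eq (Coh.structureModule X) z s
    exact ⟨_, hkey W hzW a⟩
  have hle : IntMult.stalkIdeal I z ≤ LinearMap.ker φ := by
    refine iSup₂_le fun U hzU => Ideal.map_le_iff_le_comap.2 fun a ha => ?_
    rw [Ideal.mem_comap, LinearMap.mem_ker]
    refine (hkey U.1 hzU a).trans ?_
    rw [stalkLin_germ]
    have h0 : (ClSub.toSubscheme I).app U.1 a = 0 := by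
      rw [← Scheme.IdealSheafData.ker_subschemeι_app I U] at ha
      exact ha
    rw [h0]
    exact map_zero _
  exact Module.length_le_of_surjective (Submodule.liftQ _ φ hle) fun t =>
    ⟨Submodule.Quotient.mk (hsurj t).choose, (hsurj t).choose_spec⟩

theorem stalkIdeal_mono {I J : X.IdealSheafData} (h : I ≤ J) (z : X) :
    IntMult.stalkIdeal I z ≤ IntMult.stalkIdeal J z :=
  iSup₂_mono fun U _ => Ideal.map_mono (h U)

theorem prod_le {ι : Type*} (s : Finset ι) (I : ι → X.IdealSheafData) {i : ι} (hi : i ∈ s) :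
    ∏ j ∈ s, I j ≤ I i := by
  classical
  rw [← Finset.mul_prod_erase s I hi]
  intro U
  rw [Scheme.IdealSheafData.ideal_mul, Pi.mul_apply]
  exact (Ideal.mul_le_inf (I := (I i).ideal U) (J := (∏ j ∈ s.erase i, I j).ideal U)).trans inf_le_left

theorem pointIdeal_eq_ptIdeal (z : X) (hz : IsClosed ({z} : Set X)) :
    W4c2seshadripos.pointIdeal z hz = IntMult.ptIdeal z :=
  congrArg Scheme.IdealSheafData.vanishingIdeal (Closeds.ext hz.closure_eq.symm)

theorem stalkIdeal_pointIdeal (z : X) (hz : IsClosed ({z} : Set X)) :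
    IntMult.stalkIdeal (W4c2seshadripos.pointIdeal z hz) z = IsLocalRing.maximalIdeal (X.presheaf.stalk z) := by
  obtain ⟨V, hV, hzV, -⟩ := exists_isAffineOpen_mem_and_subset (X := X) (Opens.mem_top z)
  rw [IdealSh.stalkIdeal_eq _ ⟨V, hV⟩ hzV, pointIdeal_eq_ptIdeal, CohDev.ideal_ptIdeal z hzV]
  letI := TopCat.Presheaf.algebra_section_stalk X.presheaf (⟨z, hzV⟩ : V)
  haveI := hV.isLocalization_stalk ⟨z, hzV⟩
  exact IsLocalization.AtPrime.map_eq_maximalIdeal (hV.primeIdealOf ⟨z, hzV⟩).asIdeal (X.presheaf.stalk z)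

/-- The ideal of multiplicity `n` at `Z` contains `m_z^n` at `z ∈ Z`. -/
theorem pow_le_stalkIdeal (Z : Finset X) (hZ : ∀ z ∈ Z, IsClosed ({z} : Set X)) (n : ℕ) {z : X} (hz : z ∈ Z) :
    IsLocalRing.maximalIdeal (X.presheaf.stalk z) ^ n ≤
      IntMult.stalkIdeal (⨅ w : ↥Z, (W4c2seshadripos.pointIdeal (w : X) (hZ w w.2)) ^ n) z := by
  classical
  refine le_trans (le_of_eq ?_) (stalkIdeal_mono (le_iInf fun w =>
    prod_le Finset.univ (fun w : ↥Z => (W4c2seshadripos.pointIdeal (w : X) (hZ w w.2)) ^ n) (Finset.mem_univ w)) z)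
  have hprod : ∀ s : Finset ↥Z, IntMult.stalkIdeal
      (∏ w ∈ s, (W4c2seshadripos.pointIdeal (w : X) (hZ w w.2)) ^ n) z =
      ∏ w ∈ s, IntMult.stalkIdeal ((W4c2seshadripos.pointIdeal (w : X) (hZ w w.2)) ^ n) z := by
    intro s
    induction s using Finset.induction with
    | empty =>
      rw [Finset.prod_empty, Finset.prod_empty, Scheme.IdealSheafData.one_eq_top, IdealSh.stalkIdeal_top,
        Ideal.one_eq_top]
    | insert a s ha ih => rw [Finset.prod_insert ha, Finset.prod_insert ha, IdealSh.stalkIdeal_mul, ih]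
  rw [hprod, Finset.prod_eq_single ⟨z, hz⟩]
  · rw [IdealSh.stalkIdeal_pow, stalkIdeal_pointIdeal]
  · intro w _ hw
    rw [IdealSh.stalkIdeal_pow, (IdealSh.stalkIdeal_eq_top_iff _ z).2, Ideal.top_pow, Ideal.one_eq_top]
    rw [← SetLike.mem_coe, W4c2seshadripos.pointIdeal, Scheme.IdealSheafData.coe_support_vanishingIdeal]
    exact fun h => hw (Subtype.ext (Set.mem_singleton_iff.1 h).symm)
  · exact fun h => absurd (Finset.mem_univ _) h

theorem support_inf_subset (Z : Finset X) (hZ : ∀ z ∈ Z, IsClosed ({z} : Set X)) (n : ℕ) :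
    ((⨅ w : ↥Z, (W4c2seshadripos.pointIdeal (w : X) (hZ w w.2)) ^ n).support : Set X) ⊆ ↑Z := by
  classical
  intro x hx
  by_contra hxZ
  have h1 : ∀ s : Finset ↥Z, IntMult.stalkIdeal
      (∏ w ∈ s, (W4c2seshadripos.pointIdeal (w : X) (hZ w w.2)) ^ n) x = ⊤ := by
    intro s
    induction s using Finset.induction with
    | empty => rw [Finset.prod_empty, Scheme.IdealSheafData.one_eq_top, IdealSh.stalkIdeal_top]
    | insert a s ha ih =>
      rw [Finset.prod_insert ha, IdealSh.stalkIdeal_mul, ih, IdealSh.stalkIdeal_pow,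
        (IdealSh.stalkIdeal_eq_top_iff _ x).2, Ideal.top_pow, Ideal.top_mul]
      rw [← SetLike.mem_coe, W4c2seshadripos.pointIdeal, Scheme.IdealSheafData.coe_support_vanishingIdeal]
      exact fun h => hxZ (Set.mem_singleton_iff.1 h ▸ a.2)
  have h := (h1 Finset.univ).ge.trans (stalkIdeal_mono (le_iInf fun w =>
    prod_le Finset.univ (fun w : ↥Z => (W4c2seshadripos.pointIdeal (w : X) (hZ w w.2)) ^ n) (Finset.mem_univ w)) x)
  exact (IdealSh.stalkIdeal_eq_top_iff _ x).1 (top_le_iff.1 h) hx

end Stalk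

section Global

variable (k : Type u) [Field k] [IsAlgClosed k] {X : Scheme.{u}} [X.Over (Spec (CommRingCat.of k))]
  [IsProper (X ↘ Spec (CommRingCat.of k))]

theorem ptDeg_eq_one (z : X) (hz : IsClosed ({z} : Set X)) : EulerChar.ptDeg k z = 1 := by
  haveI := EulerChar.isNoetherian k (X := X)
  have h := DefAmple27.finrank_quotMod_closedPoint (k := k) hz
  have e : IntMult.ptIdeal z = Scheme.IdealSheafData.vanishingIdeal ⟨{z}, hz⟩ :=
    (pointIdeal_eq_ptIdeal z hz).symm
  rw [← e] at h
  show Curv2.euler k X (Cyc.closureStructureSheaf z) = 1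
  rw [EulerChar.euler_eq_finrank_of_support k (CohDev.isCoh_oz z)]
  · exact_mod_cast h
  · exact ((CohDev.dim_mono ((CohDev.support_oz_subset z).trans hz.closure_eq.subset)).trans
      ((topologicalKrullDim_zero_of_discreteTopology _).trans le_rfl))

variable [Smooth (X ↘ Spec (CommRingCat.of k))]

/-- Multiplicity `n` at `Z` is at most `#Z · C(n+1, 2)` conditions. -/
theorem h0_le (hdim : topologicalKrullDim X ≤ 2) {T : X.Modules} (hT : PicF.IsInvertible T)
    (Z : Finset X) (hZ : ∀ z ∈ Z, IsClosed ({z} : Set X)) (n : ℕ) :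
    Module.finrank k (Coh.HH X T 0) ≤ Module.finrank k (Coh.HH X (CohB1.tensorMod
      (ClSub.idealMod (⨅ w : ↥Z, (W4c2seshadripos.pointIdeal (w : X) (hZ w w.2)) ^ n)) T) 0) +
        Z.card * (n + 1).choose 2 := by
  haveI := EulerChar.isNoetherian k (X := X)
  set I := ⨅ w : ↥Z, (W4c2seshadripos.pointIdeal (w : X) (hZ w w.2)) ^ n
  have hQ : Coh.IsCoh (ClSub.quotMod I) := EulerChar.isCoh_quotMod k I
  have hQs : CohB1.support (ClSub.quotMod I) ⊆ ↑Z :=
    (EulerChar.support_quotMod_subset I).trans (support_inf_subset Z hZ n)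
  have hd0 : topologicalKrullDim ↥(CohB1.support (ClSub.quotMod I)) ≤ 0 :=
    EulerChar.topDim_of_subset k Z hZ hQs
  have h3 : (Module.finrank k (Coh.HH X (CohB1.tensorMod (ClSub.quotMod I) T) 0) : ℤ) ≤
      (Z.card * (n + 1).choose 2 : ℕ) := by
    have hc : Coh.IsCoh (CohB1.tensorMod (ClSub.quotMod I) T) := NumTriv.isCoh_tens k hT hQ
    rw [← EulerChar.euler_eq_finrank_of_support k hc
      ((NumTriv.dim_support_tens_le _ _).trans hd0)]
    rw [EulerChar.euler_iso k (ProjTwist.tensComm (ClSub.quotMod I) T)]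
    rw [show Curv2.euler k X (CohB1.tensorMod T (ClSub.quotMod I)) = Curv2.euler k X (ClSub.quotMod I) from
      (EulerChar.euler_tens_of_support k (ProjTwist.isFinLocFreeOfRank_one hT) hQ hd0).trans (one_mul _)]
    rw [EulerChar.euler_eq_sum_lenZ k Z hZ hQ hQs, Nat.cast_mul, ← nsmul_eq_mul, ← Finset.sum_const]
    refine Finset.sum_le_sum fun z hz => ?_
    rw [ptDeg_eq_one k z (hZ z hz), one_mul]
    haveI := CurveDVR.isRegularLocalRing_stalk (X ↘ Spec (CommRingCat.of k)) z
    obtain ⟨a, b, hab⟩ := exists_pair (R := X.presheaf.stalk z)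
      ((Props.NormalCM.ringKrullDim_stalk_le X z).trans hdim)
    have hlen := ((length_stalk_quotMod_le I z).trans (Module.length_le_of_surjective _
      (Submodule.factor_surjective (pow_le_stalkIdeal Z hZ n hz)))).trans (length_pow_le a b hab n)
    show ((Module.length _ _).toNat : ℤ) ≤ _
    exact_mod_cast ENat.toNat_le_of_le_coe hlen
  have hO := ProperFin.isCoh_structureModule X
  have := EulerChar.finite_HH k _ (NumTriv.isCoh_tens k hT hO) 0
  have := EulerChar.finite_HH k _ (NumTriv.isCoh_tens k hT hQ) 0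
  have h := @BigVol.finrank_X₂_zero_le X k _ _ ((DCoh.tensorBi (X := X)).flip.obj T) _
    (ShortComplex.mk (ClSub.idealModι I) (ClSub.toSubscheme I) (kernel.condition _))
    (ProjTwist.shortExact_tensor hT (EulerChar.shortExact_ideal I)) ‹_› ‹_›
  refine le_trans (le_of_eq (ProjTwist.Pn.finrank_hh_iso (ProjTwist.oneTens T).symm 0)) (h.trans ?_)
  exact Nat.add_le_add_left (by exact_mod_cast h3) _

end Global

end Groth.Agent.NumTriv.PointLen
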