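import Groth.Agent.Desc44.IntersectConormal
import Groth.Agent.NumTriv.Ample
import Groth.Agent.EulerChar.Torsion
import Groth.Agent.FormalFun.GrCoh
import Groth.Agent.AmpCrit.AffineHom
import Groth.Agent.EulerChar.Cartier
import Groth.Agent.CycLib.DevDegVan
import Groth.Agent.CMReg.PolyBoundField
import Groth.Prelude.Def_W4c2seshadriposJets

/-!
# Cohomology of powers of the ideal of a closed point
-/

universe u

open CategoryTheory CategoryTheory.Limits AlgebraicGeometry

set_option linter.style.haveILetI false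

noncomputable section

namespace Groth.Agent.NumTriv.PointPow

open ProjTwist

variable {k : Type u} [Field k] {X : Scheme.{u}} [X.Over (Spec (CommRingCat.of k))]
  [IsProper (X ↘ Spec (CommRingCat.of k))] (x : X) (hx : IsClosed ({x} : Set X))

omit [X.Over (Spec (CommRingCat.of k))] [IsProper (X ↘ Spec (CommRingCat.of k))] in
/-- The inclusion of the larger power into the smaller one. -/
theorem comp_toSubscheme_eq_zero {I J : X.IdealSheafData} (h : J ≤ I) :
    ClSub.idealModι J ≫ ClSub.toSubscheme I = 0 := by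
  have := Desc44.IntersectConormal.idealModι_toSubscheme J.subschemeι I.subschemeι
    (Scheme.IdealSheafData.inclusion h) (Scheme.IdealSheafData.inclusion_subschemeι h)
  rwa [Scheme.IdealSheafData.ker_subschemeι, Scheme.IdealSheafData.ker_subschemeι] at this

omit [X.Over (Spec (CommRingCat.of k))] [IsProper (X ↘ Spec (CommRingCat.of k))] in
theorem support_le (a : ℕ) :
    (((W4c2seshadripos.pointIdeal x hx) ^ (a + 1)).support : Set X) ⊆ {x} := by
  rw [Scheme.IdealSheafData.support_pow_succ, W4c2seshadripos.pointIdeal,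
    Scheme.IdealSheafData.coe_support_vanishingIdeal]
  rfl

omit [X.Over (Spec (CommRingCat.of k))] [IsProper (X ↘ Spec (CommRingCat.of k))] in
theorem dim_point : topologicalKrullDim ↥({x} : Set X) ≤ ((0 : ℕ) : WithBot ℕ∞) := by
  exact (topologicalKrullDim_zero_of_discreteTopology _).trans (by simp)

omit [X.Over (Spec (CommRingCat.of k))] [IsProper (X ↘ Spec (CommRingCat.of k))] in
theorem support_le' (a : ℕ) :
    (((W4c2seshadripos.pointIdeal x hx) ^ a).support : Set X) ⊆ {x} := by
  rcases a with _ | a
  · intro y hy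
    simp [Scheme.IdealSheafData.one_eq_top] at hy
  · exact support_le x hx a

omit [X.Over (Spec (CommRingCat.of k))] [IsProper (X ↘ Spec (CommRingCat.of k))] in
theorem pow_succ_le (I : X.IdealSheafData) (a : ℕ) : I ^ (a + 1) ≤ I ^ a := by
  intro U
  simp only [Scheme.IdealSheafData.ideal_pow]
  exact Ideal.pow_le_pow_right (Nat.le_succ a)

include k in
/-- An ideal cosupported at the point, twisted, has no more higher cohomology than the twisting sheaf. -/
theorem subsingleton_of_twist {T : X.Modules} (hT : PicF.IsInvertible T) (I : X.IdealSheafData)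
    (hIx : (I.support : Set X) ⊆ {x}) {i : ℕ} (hi : 1 < i) (h : Subsingleton (Coh.HH X T i)) :
    Subsingleton (Coh.HH X (CohB1.tensorMod (ClSub.idealMod I) T) i) := by
  haveI := EulerChar.isNoetherian k (X := X)
  haveI : Mono (ClSub.idealModι I) := inferInstanceAs (Mono (kernel.ι _))
  have hI : Coh.IsQCoh (ClSub.idealMod I) := AmpleLib.isQCoh_idealMod I
  have hO := ProperFin.isCoh_structureModule X
  let S := ShortComplex.mk (ClSub.idealModι I) (cokernel.π (ClSub.idealModι I)) (cokernel.condition _)
  have hS : S.ShortExact := { exact := ShortComplex.exact_of_g_is_cokernel _ (cokernelIsCokernel _) }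
  have hQ : Coh.IsCoh S.X₃ := CohDev.isCoh_cokernel _ hI hO
  have hQs : CohB1.support S.X₃ ⊆ {x} :=
    (_root_.Groth.Agent.FormalFun.support_subset_of_mono (Abelian.factorThruCoimage (ClSub.toSubscheme I))).trans
      ((EulerChar.support_quotMod_subset I).trans hIx)
  let S' := S.map ((DCoh.tensorBi (X := X)).flip.obj T)
  have hS' : S'.ShortExact := ProjTwist.shortExact_tensor hT hS
  obtain ⟨j, rfl⟩ : ∃ j, i = j + 1 + 1 := ⟨i - 2, by omega⟩
  have hd : topologicalKrullDim ↥(CohB1.support (CohB1.tensorMod S.X₃ T)) ≤ 0 :=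
    ((dim_support_tens_le _ _).trans (CohDev.dim_mono hQs)).trans (dim_point x)
  have h₃ : Subsingleton (Coh.HH X S'.X₃ (j + 1)) :=
    EulerChar.subsingleton_HH_of_support k (isCoh_tens k hT hQ) hd j
  have h₂ : Subsingleton (Coh.HH X S'.X₂ (j + 1 + 1)) :=
    haveI := h
    AmpCrit.subsingleton_HH_of_iso (oneTens T).symm (j + 1 + 1)
  exact CohLin.subsingleton_X₁ hS'

include k in
/-- Passing to a smaller ideal cosupported at the point keeps `H¹` nonzero. -/
theorem nontrivial_of_le {T : X.Modules} (hT : PicF.IsInvertible T) {I J : X.IdealSheafData}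
    (hle : J ≤ I) (hJx : (J.support : Set X) ⊆ {x})
    (h : Nontrivial (Coh.HH X (CohB1.tensorMod (ClSub.idealMod I) T) 1)) :
    Nontrivial (Coh.HH X (CohB1.tensorMod (ClSub.idealMod J) T) 1) := by
  by_contra hn
  rw [not_nontrivial_iff_subsingleton] at hn
  haveI := EulerChar.isNoetherian k (X := X)
  let ι : ClSub.idealMod J ⟶ ClSub.idealMod I :=
    kernel.lift _ (ClSub.idealModι J) (comp_toSubscheme_eq_zero hle)
  haveI : Mono (ClSub.idealModι J) := inferInstanceAs (Mono (kernel.ι _))
  have hfac : ι ≫ ClSub.idealModι I = ClSub.idealModι J := kernel.lift_ι _ _ _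
  haveI : Mono ι := mono_of_mono_fac hfac
  haveI : Mono (ClSub.idealModι I) := inferInstanceAs (Mono (kernel.ι _))
  have hI : Coh.IsQCoh (ClSub.idealMod J) := AmpleLib.isQCoh_idealMod J
  have hI' : Coh.IsCoh (ClSub.idealMod I) :=
    CohDev.isCoh_of_mono (ClSub.idealModι I) (AmpleLib.isQCoh_idealMod I) (ProperFin.isCoh_structureModule X)
  let S := ShortComplex.mk ι (cokernel.π ι) (cokernel.condition _)
  have hS : S.ShortExact := { exact := ShortComplex.exact_of_g_is_cokernel _ (cokernelIsCokernel _) }
  have hQ : Coh.IsCoh S.X₃ := CohDev.isCoh_cokernel _ hI hI'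
  let d : cokernel ι ⟶ cokernel (ClSub.idealModι J) :=
    cokernel.desc ι (ClSub.idealModι I ≫ cokernel.π _) (by rw [← Category.assoc, hfac, cokernel.condition])
  haveI : Mono d := Preadditive.mono_of_cancel_zero _ fun {P} z hz => by
    obtain ⟨A', π, hπ, w, hw⟩ := surjective_up_to_refinements_of_epi (cokernel.π ι) z
    have h0 : (w ≫ ClSub.idealModι I) ≫ cokernel.π (ClSub.idealModι J) = 0 := by
      have h1 : w ≫ cokernel.π ι ≫ d = 0 := by
        rw [← Category.assoc, ← hw, Category.assoc, hz, comp_zero]
      rw [cokernel.π_desc] at h1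
      rw [Category.assoc]
      exact h1
    have h2 := Abelian.monoLift_comp (ClSub.idealModι J) (w ≫ ClSub.idealModι I) h0
    let v := Abelian.monoLift (ClSub.idealModι J) (w ≫ ClSub.idealModι I) h0
    have h3 : (v ≫ ι) ≫ ClSub.idealModι I = w ≫ ClSub.idealModι I := by
      rw [Category.assoc, hfac]
      exact h2
    rw [cancel_mono] at h3
    rw [← cancel_epi π, comp_zero, hw, ← h3, Category.assoc, cokernel.condition, comp_zero]
  have hQs : CohB1.support S.X₃ ⊆ {x} :=
    (_root_.Groth.Agent.FormalFun.support_subset_of_mono d).trans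
    ((_root_.Groth.Agent.FormalFun.support_subset_of_mono (Abelian.factorThruCoimage (ClSub.toSubscheme J))).trans
      ((EulerChar.support_quotMod_subset J).trans hJx))
  let S' := S.map ((DCoh.tensorBi (X := X)).flip.obj T)
  have hS' : S'.ShortExact := ProjTwist.shortExact_tensor hT hS
  have hd : topologicalKrullDim ↥(CohB1.support (CohB1.tensorMod S.X₃ T)) ≤ 0 :=
    ((dim_support_tens_le _ _).trans (CohDev.dim_mono hQs)).trans (dim_point x)
  have h₃ : Subsingleton (Coh.HH X S'.X₃ 1) :=
    EulerChar.subsingleton_HH_of_support k (isCoh_tens k hT hQ) hd 0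
  haveI : Subsingleton (Coh.HH X S'.X₁ 1) := hn
  haveI : Nontrivial (Coh.HH X S'.X₂ 1) := h
  exact not_subsingleton (Coh.HH X S'.X₂ 1) (CohLin.subsingleton_X₂ hS')

end Groth.Agent.NumTriv.PointPow
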