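import Groth.Agent.NumTriv.FiniteField
import Groth.Agent.CBC.Stage
import Groth.Agent.ConsPairLib.DimCons
import Groth.Agent.S4357

/-!
# Numerically trivial modules over an algebraic extension of a finite prime field are torsion
-/

universe u

open CategoryTheory CategoryTheory.Limits AlgebraicGeometry

set_option linter.style.haveILetI false

noncomputable section

namespace Groth.Agent.NumTriv.PrimeField

open ProjTwist

variable {k : Type u} [Field k]

/-- Finitely generated subrings are finite. -/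
theorem finite_fg (p : ℕ) [Fact p.Prime] [CharP k p]
    (halg : ∀ x : k, ∃ n : ℕ, 0 < n ∧ x ^ (p ^ n) = x) (A : Subalgebra ℤ k) (hA : A.FG) :
    Finite A := by
  haveI : Algebra.FiniteType ℤ A := (Subalgebra.fg_iff_finiteType A).1 hA
  haveI : Algebra.IsIntegral ℤ A := ⟨fun x => by
    obtain ⟨n, hn, hx⟩ := halg (x : k)
    refine ⟨Polynomial.X ^ (p ^ n) - Polynomial.X, ?_, ?_⟩
    · exact Polynomial.monic_X_pow_sub (by
        rw [Polynomial.degree_X]
        exact_mod_cast Nat.one_lt_pow hn.ne' (Fact.out (p := p.Prime)).one_lt)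
    · apply Subtype.ext
      simp [hx]⟩
  haveI : Module.Finite ℤ A := Algebra.IsIntegral.finite
  refine Module.finite_of_fg_torsion A fun {x} => ⟨⟨(p : ℤ), mem_nonZeroDivisors_of_ne_zero
    (by exact_mod_cast (Fact.out (p := p.Prime)).ne_zero)⟩, Subtype.ext ?_⟩
  change (((p : ℤ) • x : A) : k) = 0
  simp [CharP.cast_eq_zero]

/-- Numerical triviality descends along a field extension. -/
theorem num1_descend {k₀ : Type u} [Field k₀] [Algebra k₀ k] {X X₀ : Scheme.{u}}
    [X.Over (Spec (CommRingCat.of k))] [IsProper (X ↘ Spec (CommRingCat.of k))]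
    [X₀.Over (Spec (CommRingCat.of k₀))] [IsProper (X₀ ↘ Spec (CommRingCat.of k₀))] (q : X ⟶ X₀)
    (hsq : IsPullback q (X ↘ Spec (CommRingCat.of k)) (X₀ ↘ Spec (CommRingCat.of k₀))
      (Spec.map (CommRingCat.ofHom (algebraMap k₀ k))))
    {L₀ : X₀.Modules} (hL₀ : PicF.IsInvertible L₀)
    (h : Num1 k ((Scheme.Modules.pullback q).obj L₀)) : Num1 k₀ L₀ := by
  haveI := EulerChar.isNoetherian k₀ (X := X₀)
  haveI := EulerChar.isNoetherian k (X := X)
  refine ⟨hL₀, fun F hF hd => ?_⟩
  have hS := CohDev.isClosed_support hF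
  let Y := Scheme.IdealSheafData.vanishingIdeal (X := X₀) ⟨CohB1.support F, hS⟩
  let j := Y.subschemeι
  have hr : Set.range j = CohB1.support F := by
    rw [Scheme.IdealSheafData.range_subschemeι]
    rfl
  haveI : LocallyOfFiniteType (j ≫ (X₀ ↘ Spec (CommRingCat.of k₀))) := inferInstance
  haveI : CompactSpace Y.subscheme := QuasiCompact.compactSpace_of_compactSpace j
  haveI : QuasiCompact (j ≫ (X₀ ↘ Spec (CommRingCat.of k₀))) := inferInstance
  haveI : ∀ (K : Type u) [Field K], Subsingleton ↥(Spec (CommRingCat.of K)) := fun K _ =>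
    inferInstanceAs (Subsingleton (PrimeSpectrum K))
  have hdim := ConsPairLib.topDim_baseChange (j ≫ (X₀ ↘ Spec (CommRingCat.of k₀)))
    ((IsPullback.of_hasPullback q j).flip.paste_vert hsq)
  have hsupp : CohB1.support ((Scheme.Modules.pullback q).obj F) = Set.range (pullback.fst q j) := by
    rw [Scheme.Pullback.range_fst, hr]
    haveI : Coh.IsQCoh F := hF.1
    exact S4357.result q F hF.2
  have hd' : topologicalKrullDim ↥(CohB1.support ((Scheme.Modules.pullback q).obj F)) ≤
      ((1 : ℕ) : WithBot ℕ∞) := by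
    rw [hsupp, ← IsHomeomorph.topologicalKrullDim_eq _
      (pullback.fst q j).isClosedEmbedding.isEmbedding.toHomeomorph.isHomeomorph, hdim,
      IsHomeomorph.topologicalKrullDim_eq _
        j.isClosedEmbedding.isEmbedding.toHomeomorph.isHomeomorph, hr]
    exact hd
  have e := h.2 _ (ZClosLib.CohDescent.isCoh_pullback q F hF) hd'
  replace e := (EulerChar.euler_iso k (KFlat.PullTensor.pullTensorIso q F L₀)).trans e
  have b₁ := BigVol.FieldPoint.euler_baseChange (K := k) (X₀ ↘ Spec (CommRingCat.of k₀)) q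
    (X ↘ Spec (CommRingCat.of k)) hsq _ (isCoh_tens k₀ hL₀ hF)
  have b₂ := BigVol.FieldPoint.euler_baseChange (K := k) (X₀ ↘ Spec (CommRingCat.of k₀)) q
    (X ↘ Spec (CommRingCat.of k)) hsq F hF
  exact b₁.symm.trans (e.trans b₂)

/-- A coherent module which becomes invertible after a field extension is invertible. -/
theorem isInvertible_descend {k₀ : Type u} [Field k₀] [Algebra k₀ k] {X X₀ : Scheme.{u}}
    (u₀ : X₀ ⟶ Spec (CommRingCat.of k₀)) [IsProper u₀] (u : X ⟶ Spec (CommRingCat.of k)) (q : X ⟶ X₀)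
    (hsq : IsPullback q u u₀ (Spec.map (CommRingCat.ofHom (algebraMap k₀ k))))
    {F : X₀.Modules} (hF : Coh.IsCoh F) (h : PicF.IsInvertible ((Scheme.Modules.pullback q).obj F)) :
    PicF.IsInvertible F := by
  haveI : IsLocallyNoetherian X₀ := LocallyOfFiniteType.isLocallyNoetherian u₀
  have htop : (⊤ : X₀.Opens) ≤ invLocus F := fun x _ => by
    haveI : Surjective (Spec.map (CommRingCat.ofHom (algebraMap k₀ k))) := ⟨fun y =>
      ⟨Classical.arbitrary _, haveI : Subsingleton ↥(Spec (CommRingCat.of k₀)) :=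
        inferInstanceAs (Subsingleton (PrimeSpectrum k₀)); Subsingleton.elim _ _⟩⟩
    have hs : Surjective q := MorphismProperty.of_isPullback hsq.flip inferInstance
    obtain ⟨w, rfl⟩ := hs.1 x
    exact mem_invLocus_of_fibre F hsq hF (CMReg.isFlatOver_field u₀ F) h w
  intro x
  obtain ⟨V, hV, hxV⟩ := TopologicalSpace.Opens.mem_sSup.mp (htop (TopologicalSpace.Opens.mem_top x))
  exact ⟨V, hxV, hV⟩

/-- Over an algebraic extension of a finite prime field numerically trivial modules are torsion. -/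
theorem exists_pow_trivial (p : ℕ) [Fact p.Prime] [CharP k p]
    (halg : ∀ x : k, ∃ n : ℕ, 0 < n ∧ x ^ (p ^ n) = x)
    {X : Scheme.{u}} [X.Over (Spec (CommRingCat.of k))] [IsProper (X ↘ Spec (CommRingCat.of k))]
    {L : X.Modules} (hL : Num1 k L) :
    ∃ d : ℕ, 0 < d ∧ Nonempty (CohB1.tensorPow L d ≅ Coh.structureModule X) := by
  let u := X ↘ Spec (CommRingCat.of k)
  haveI := EulerChar.isNoetherian k (X := X)
  haveI : LocallyOfFinitePresentation u := MonoVal.locallyOfFinitePresentation_of_lft u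
  haveI : L.IsQuasicoherent := ProjTwist.isQCoh_of_isInvertible hL.1
  obtain ⟨A₀, X₀, u₀, q, F₀, hA, hu₀, hsq, hF₀, -, ⟨e⟩⟩ := CBC.exists_noetherian_model u L
    (HomShQC.isFP_of_isCoh L (Cube.Seesaw.isCoh_of_invertible hL.1)) (CMReg.isFlatOver_field u L)
  haveI := hu₀
  haveI : Finite A₀ := finite_fg p halg A₀ hA
  letI : Field A₀ := (Finite.isField_of_domain (A₀ : Type u)).toField
  letI : X₀.Over (Spec (CommRingCat.of A₀)) := ⟨u₀⟩
  haveI : IsProper (X₀ ↘ Spec (CommRingCat.of A₀)) := hu₀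
  have hinv : PicF.IsInvertible F₀ :=
    isInvertible_descend u₀ u q hsq hF₀ (PicCl.isInvertible_of_iso e.symm hL.1)
  have h₀ : Num1 (A₀ : Type u) F₀ :=
    num1_descend q hsq hinv (num1_iso k e.symm (PicCl.isInvertible_pullback q hinv) hL)
  obtain ⟨d, hd, ⟨φ⟩⟩ := FiniteField.exists_pow_trivial h₀
  obtain ⟨ed⟩ := EulerFam.pullback_tensorPow q F₀ d
  obtain ⟨ec⟩ := FormalFun.nonempty_tensorPow_congr e d
  exact ⟨d, hd, ⟨ec.symm ≪≫ ed.symm ≪≫ (Scheme.Modules.pullback q).mapIso φ ≪≫
    QCoh.pullbackUnitIso q⟩⟩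

end Groth.Agent.NumTriv.PrimeField
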