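import Groth.Agent.NumTriv.IdealBound
import Groth.Agent.NumTriv.AmpleDeg
import Groth.Agent.EulerChar.Cartier

/-!
# The index inequality on surfaces
-/

universe u

open CategoryTheory CategoryTheory.Limits AlgebraicGeometry

set_option linter.style.haveILetI false

noncomputable section

namespace Groth.Agent.NumTriv.Quad

open ProjTwist OnSet

/-- An integer function with constant second difference, bounded above. -/
theorem nonpos_of_bdd {g : ℕ → ℤ} {q B : ℤ} (h : ∀ j, g (j + 2) - 2 * g (j + 1) + g j = q)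
    (hb : ∀ j, g j ≤ B) : q ≤ 0 ∧ (q = 0 → g 1 ≤ g 0) := by
  have hinc : ∀ j : ℕ, g (j + 1) - g j = (g 1 - g 0) + j * q := fun j => by
    induction j with
    | zero => simp
    | succ j ih =>
      have := h j
      push_cast
      linarith
  have key : ∀ j₁ : ℕ, ¬ ∀ j, j₁ ≤ j → 1 ≤ g (j + 1) - g j := fun j₁ hj => by
    have hc : ∀ c : ℕ, g j₁ + c ≤ g (j₁ + c) := fun c => by
      induction c with
      | zero => simp
      | succ c ih =>
        have := hj (j₁ + c) (by omega)
        rw [← add_assoc]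
        push_cast
        linarith
    have h1 := hc ((B - g j₁).toNat + 1)
    have h2 := hb (j₁ + ((B - g j₁).toNat + 1))
    have h3 := Int.self_le_toNat (B - g j₁)
    push_cast at h1
    omega
  refine ⟨?_, fun hq => ?_⟩
  · by_contra hq
    push Not at hq
    refine key ((1 - (g 1 - g 0)).toNat) fun j hj => ?_
    rw [hinc j]
    have h3 := Int.self_le_toNat (1 - (g 1 - g 0))
    have h4 : (j : ℤ) ≤ (j : ℤ) * q := le_mul_of_one_le_right (by positivity) hq
    omega
  · by_contra hlt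
    push Not at hlt
    exact key 0 fun j _ => by rw [hinc j, hq]; omega

variable {k : Type u} [Field k] {X : Scheme.{u}} [X.Over (Spec (CommRingCat.of k))]
  [IsProper (X ↘ Spec (CommRingCat.of k))]

/-- `χ(- ⊗ D²) - 2 χ(- ⊗ D) + χ`. -/
def quad {D : X.Modules} (hD : PicF.IsInvertible D) : SGA6.Kcoh X →+ ℤ :=
  Snapper.chiT k (AmpleLib.isInvertible_tensorMod hD hD) - Snapper.chiT k hD - Snapper.chiT k hD +
    Snapper.chiT k (LFFrame.isInvertible_structureModule X)

theorem quad_kcl {D F : X.Modules} (hD : PicF.IsInvertible D) (hF : Coh.IsCoh F) :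
    quad (k := k) hD (CohDev.kcl F) = Curv2.euler k X (CohB1.tensorMod F (CohB1.tensorMod D D)) -
      2 * Curv2.euler k X (CohB1.tensorMod F D) + Curv2.euler k X F := by
  simp only [quad, AddMonoidHom.add_apply, AddMonoidHom.sub_apply, Snapper.chiT_kcl k _ hF]
  rw [EulerChar.euler_iso k (tensComm (CohB1.tensorMod D D) F), EulerChar.euler_iso k (tensComm D F),
    EulerChar.euler_iso k (tensComm _ F ≪≫ tensOne F)]
  ring

theorem quad_eq_zero {D F : X.Modules} (hD : PicF.IsInvertible D) (hF : Coh.IsCoh F)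
    (hd : topologicalKrullDim ↥(CohB1.support F) ≤ ((1 : ℕ) : WithBot ℕ∞)) :
    quad (k := k) hD (CohDev.kcl F) = 0 := by
  have h := deg1_tens k hF hd hD hD
  rw [quad_kcl hD hF]
  simp only [deg1] at h
  omega

theorem quad_small {D : X.Modules} (hD : PicF.IsInvertible D) {c : SGA6.Kcoh X}
    (hc : c ∈ Snapper.smallK X ((2 : ℕ) : WithBot ℕ∞)) : quad (k := k) hD c = 0 := by
  induction hc using AddSubgroup.closure_induction with
  | mem x hx =>
    obtain ⟨G, hG, hGd, rfl⟩ := hx
    exact quad_eq_zero hD hG (Snapper.le_of_lt_succ hGd)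
  | zero => exact map_zero _
  | add x y _ _ hx hy => rw [map_add, hx, hy, add_zero]
  | neg x _ hx => rw [map_neg, hx, neg_zero]

theorem quad_tens {D A F : X.Modules} (hD : PicF.IsInvertible D) (hA : PicF.IsInvertible A)
    (hF : Coh.IsCoh F) (hd : topologicalKrullDim ↥(CohB1.support F) ≤ ((2 : ℕ) : WithBot ℕ∞)) :
    quad (k := k) hD (CohDev.kcl (CohB1.tensorMod F A)) = quad (k := k) hD (CohDev.kcl F) := by
  haveI := EulerChar.isNoetherian k (X := X)
  rw [CohDev.kcl_iso (tensComm F A) (isCoh_tens k hA hF), ← sub_eq_zero, ← map_sub]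
  exact quad_small hD (Snapper.kcl_tens_sub_small k hA hF hd)

/-- Bounded twists by powers of `D` and of its inverse. -/
theorem quad_nonpos {D D' F : X.Modules} (hD : PicF.IsInvertible D) (hD' : PicF.IsInvertible D')
    (e : CohB1.tensorMod D' D ≅ Coh.structureModule X) (hF : Coh.IsCoh F)
    (hd : topologicalKrullDim ↥(CohB1.support F) ≤ ((2 : ℕ) : WithBot ℕ∞)) {B : ℤ}
    (h₁ : ∀ j : ℕ, Curv2.euler k X (CohB1.tensorMod F (CohB1.tensorPow D j)) ≤ B)
    (h₂ : ∀ j : ℕ, Curv2.euler k X (CohB1.tensorMod F (CohB1.tensorPow D' j)) ≤ B) :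
    quad (k := k) hD (CohDev.kcl F) ≤ 0 ∧ (quad (k := k) hD (CohDev.kcl F) = 0 →
      Curv2.euler k X (CohB1.tensorMod F D) = Curv2.euler k X F) := by
  have hrec : ∀ {E : X.Modules} (hE : PicF.IsInvertible E) (j : ℕ),
      Curv2.euler k X (CohB1.tensorMod F (CohB1.tensorPow E (j + 2))) -
        2 * Curv2.euler k X (CohB1.tensorMod F (CohB1.tensorPow E (j + 1))) +
        Curv2.euler k X (CohB1.tensorMod F (CohB1.tensorPow E j)) =
      quad (k := k) hE (CohDev.kcl F) := fun {E} hE j => by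
    have hEj := AmpleLib.isInvertible_tensorPow hE j
    rw [← quad_tens hE hEj hF hd, quad_kcl hE (isCoh_tens k hEj hF)]
    have e1 : Curv2.euler k X (CohB1.tensorMod F (CohB1.tensorPow E (j + 2))) =
        Curv2.euler k X (CohB1.tensorMod (CohB1.tensorMod F (CohB1.tensorPow E j))
          (CohB1.tensorMod E E)) :=
      EulerChar.euler_iso k (tensCongr (Iso.refl F) (tensAssoc (CohB1.tensorPow E j) E E) ≪≫
        (tensAssoc F _ _).symm)
    have e2 : Curv2.euler k X (CohB1.tensorMod F (CohB1.tensorPow E (j + 1))) =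
        Curv2.euler k X (CohB1.tensorMod (CohB1.tensorMod F (CohB1.tensorPow E j)) E) :=
      EulerChar.euler_iso k (tensAssoc F _ E).symm
    omega
  obtain ⟨hq, hq1⟩ := nonpos_of_bdd (hrec hD) h₁
  obtain ⟨-, hq2⟩ := nonpos_of_bdd (hrec hD') h₂
  refine ⟨hq, fun h0 => ?_⟩
  have hFD' := isCoh_tens k hD' hF
  have hA := AmpleLib.isInvertible_tensorMod hD' hD'
  -- the two quadratic terms agree
  have hsame : quad (k := k) hD' (CohDev.kcl F) = quad (k := k) hD (CohDev.kcl F) := by
    rw [← quad_tens hD hA hF hd, quad_kcl hD' hF, quad_kcl hD (isCoh_tens k hA hF)]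
    let c1 : CohB1.tensorMod (CohB1.tensorMod F (CohB1.tensorMod D' D')) D ≅ CohB1.tensorMod F D' :=
      tensAssoc F _ D ≪≫ tensCongr (Iso.refl F) (tensAssoc D' D' D ≪≫
        tensCongr (Iso.refl D') e ≪≫ tensOne D')
    let c2 : CohB1.tensorMod (CohB1.tensorMod F (CohB1.tensorMod D' D')) (CohB1.tensorMod D D) ≅ F :=
      (tensAssoc _ D D).symm ≪≫ tensCongr c1 (Iso.refl D) ≪≫ tensAssoc F D' D ≪≫
        tensCongr (Iso.refl F) e ≪≫ tensOne F
    rw [EulerChar.euler_iso k c1, EulerChar.euler_iso k c2]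
    ring
  have key := quad_tens (k := k) hD hD' hF hd
  rw [quad_kcl hD hFD', h0] at key
  let c3 : CohB1.tensorMod (CohB1.tensorMod F D') D ≅ F :=
    tensAssoc F D' D ≪≫ tensCongr (Iso.refl F) e ≪≫ tensOne F
  let c4 : CohB1.tensorMod (CohB1.tensorMod F D') (CohB1.tensorMod D D) ≅ CohB1.tensorMod F D :=
    (tensAssoc _ D D).symm ≪≫ tensCongr c3 (Iso.refl D)
  rw [EulerChar.euler_iso k c3, EulerChar.euler_iso k c4] at key
  have a1 := hq1 h0
  have a2 := hq2 (hsame.trans h0)
  have p1 : ∀ E : X.Modules, Curv2.euler k X (CohB1.tensorMod F (CohB1.tensorPow E 1)) =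
      Curv2.euler k X (CohB1.tensorMod F E) := fun E =>
    EulerChar.euler_iso k (tensCongr (Iso.refl F) (oneTens E))
  have p0 : ∀ E : X.Modules, Curv2.euler k X (CohB1.tensorMod F (CohB1.tensorPow E 0)) =
      Curv2.euler k X F := fun E => EulerChar.euler_iso k (tensOne F)
  rw [p1, p0] at a1 a2
  omega

variable {n : ℕ} [IsIntegral X] (i : X ⟶ CohB1.ProjSpace n k) [IsClosedImmersion i]
  (hi : i ≫ CohB1.ProjSpace.toSpec n k = X ↘ Spec (CommRingCat.of k))
  (σ : oX i (-1) ⟶ Coh.structureModule X) (hσ : σ ≠ 0) {S : Set X}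
  (hS : CohB1.support (cokernel σ) ⊆ S)

include hi hσ hS in
/-- The index inequality on an integral surface. -/
theorem surface [Infinite k] (hd : topologicalKrullDim X = ((2 : ℕ) : WithBot ℕ∞))
    {D : X.Modules} (hD : NumOn k S D) :
    quad (k := k) hD.1 (CohDev.kcl (Coh.structureModule X)) ≤ 0 ∧
      (quad (k := k) hD.1 (CohDev.kcl (Coh.structureModule X)) = 0 → Num1 k D) := by
  haveI := EulerChar.isNoetherian k (X := X)
  obtain ⟨D', hD', ⟨e⟩⟩ := PicLaw.exists_inverse hD.1
  let e' := tensComm D' D ≪≫ e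
  have hD'S := numOn_inverse hD hD' e'
  have hd2 : ∀ F : X.Modules, topologicalKrullDim ↥(CohB1.support F) ≤ ((2 : ℕ) : WithBot ℕ∞) :=
    fun F => EulerChar.dim_support_le hd.le
  have main : ∀ (J : X.Modules) (a : J ⟶ Coh.structureModule X), Mono a → Coh.IsCoh J →
      quad (k := k) hD.1 (CohDev.kcl J) ≤ 0 ∧ (quad (k := k) hD.1 (CohDev.kcl J) = 0 →
        Curv2.euler k X (CohB1.tensorMod J D) = Curv2.euler k X J) := fun J a ha hJ => by
    haveI := ha
    obtain ⟨B, hB⟩ := IdealBound.exists_bound i hi σ hσ hS (d := 0) hd a hJ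
    refine quad_nonpos hD.1 hD' e' hJ (hd2 J) (B := B + Curv2.euler k X J) (fun j => ?_) fun j => ?_
    · have := hB _ (numOn_pow hD j); omega
    · have := hB _ (numOn_pow hD'S j); omega
  have hO := ProperFin.isCoh_structureModule X
  obtain ⟨hO1, hO2⟩ := main _ (𝟙 _) inferInstance hO
  refine ⟨hO1, fun h0 => ⟨hD.1, fun F hF hdF => sub_eq_zero.1 ?_⟩⟩
  rw [← dev_kcl k hD.1 hF]
  have hmem := CohDev.kcl_mem_closure_oz hF
  revert hmem
  generalize CohDev.kcl F = c
  intro hmem
  induction hmem using AddSubgroup.closure_induction with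
  | zero => exact map_zero _
  | add x y _ _ hx hy => rw [map_add, hx, hy, add_zero]
  | neg x _ hx => rw [map_neg, hx, neg_zero]
  | mem c hc =>
    obtain ⟨y, hy, rfl⟩ := hc
    rw [dev_kcl k hD.1 (CohDev.isCoh_oz y), sub_eq_zero]
    have hdy : topologicalKrullDim ↥(CohB1.support (Cyc.closureStructureSheaf y)) ≤
        ((1 : ℕ) : WithBot ℕ∞) :=
      ((CohDev.dim_mono ((CohDev.support_oz_subset y).trans
        (closure_minimal (Set.singleton_subset_iff.2 hy) (CohDev.isClosed_support hF)))).trans hdF)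
    let I := IntMult.ptIdeal y
    have hQ : Coh.IsCoh (ClSub.quotMod I) := CohDev.isCoh_oz y
    have hJ : Coh.IsCoh (ClSub.idealMod I) := CohDev.isCoh_kernel (ClSub.toSubscheme I) hO hQ.1
    have hex := EulerChar.shortExact_ideal I
    have hmono : Mono (ClSub.idealModι I) := hex.mono_f
    obtain ⟨-, hJ2⟩ := main _ (ClSub.idealModι I) hmono hJ
    have hK := CohDev.kcl_add hex hJ hO hQ
    have hq := congrArg (quad (k := k) hD.1) hK
    rw [map_add, h0, quad_eq_zero hD.1 hQ hdy, add_zero] at hq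
    have hdev := congrArg (dev k hD.1) hK
    rw [map_add, dev_kcl k hD.1 hO, dev_kcl k hD.1 hJ, dev_kcl k hD.1 hQ, hJ2 hq.symm, hO2 h0,
      sub_self, sub_self, zero_add] at hdev
    exact sub_eq_zero.1 hdev.symm

end Groth.Agent.NumTriv.Quad
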