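import Groth.Agent.NumTriv.Piece

/-!
# Uniform regularity for numerically trivial twists

For a closed subscheme `X ⊆ P^n_k` over an infinite field and `F` coherent on `X`, tensoring with an
invertible module preserving Euler characteristics in dimension `≤ 1` preserves all Euler
characteristics, and the regularity of the twists is uniformly bounded.
-/

universe u

open CategoryTheory CategoryTheory.Limits AlgebraicGeometry

set_option linter.style.haveILetI false

noncomputable section

namespace Groth.Agent.NumTriv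

open ProjTwist ProjTwist.Pn

theorem exists_shift {C : Type*} [Category C] [Preadditive C] {S : ShortComplex C}
    (hS : S.ShortExact) {A : C} (ε : A ≅ S.X₁) :
    ∃ w : (ε.hom ≫ S.f) ≫ S.g = 0, (ShortComplex.mk (ε.hom ≫ S.f) S.g w).ShortExact :=
  ⟨by rw [Category.assoc, S.zero, comp_zero], ShortComplex.shortExact_of_iso
    (ShortComplex.isoMk ε.symm (Iso.refl _) (Iso.refl _) (by simp) (by simp)) hS⟩

variable {k : Type u} [Field k] {n : ℕ} {X : Scheme.{u}} (i : X ⟶ CohB1.ProjSpace n k)
  [IsClosedImmersion i]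

/-- A hyperplane section on the closed subscheme. -/
theorem exists_hyper [Infinite k] {F : X.Modules} (hF : Coh.IsCoh F) :
    ∃ φ : Pic13.twistOn k i F (-1) ⟶ F, Mono φ ∧ ∀ e : ℕ,
      topologicalKrullDim ↥(CohB1.support F) < ((e + 1 : ℕ) : WithBot ℕ∞) →
      topologicalKrullDim ↥(CohB1.support (cokernel φ)) < (e : WithBot ℕ∞) := by
  haveI := isLocallyNoetherian_projSpace n k
  haveI : IsLocallyNoetherian X := LocallyOfFiniteType.isLocallyNoetherian i
  let G₀ := (Coh.push i).obj F
  have hG : Coh.IsCoh G₀ := ProperFin.isCoh_push_of_isFinite i F hF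
  obtain ⟨τ, hτ, hdim⟩ := exists_hyperSection (fun _ : Fin 1 => G₀) fun _ => hG
  have hm : Mono (τ.app G₀) := hτ 0
  let ψ : (Scheme.Modules.pushforward i).obj (Pic13.twistOn k i F (-1)) ⟶
      (Scheme.Modules.pushforward i).obj F := (CMReg.pushTwistIso i F (-1)).inv ≫ τ.app G₀
  have hψ : Mono ψ := @mono_comp _ _ _ _ _ _ inferInstance _ hm
  let φ := (Props.KilledSub.fullyFaithful i).preimage ψ
  have hφ : (Scheme.Modules.pushforward i).map φ = ψ :=
    (Props.KilledSub.fullyFaithful i).map_preimage ψ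
  haveI := (Props.KilledSub.fullyFaithful i).faithful
  haveI : Mono φ := (Scheme.Modules.pushforward i).mono_of_mono_map (by rw [hφ]; exact hψ)
  refine ⟨φ, inferInstance, fun e he => ?_⟩
  have h1 := hdim 0 e (lt_of_le_of_lt (dim_support_push_le i F) he)
  refine lt_of_le_of_lt (dim_support_le_push i (cokernel φ)) (lt_of_le_of_lt ?_ h1)
  haveI := ChgRings.pushPreservesFiniteColimits i
  refine CohDev.dim_mono ?_
  let e₁ : (Coh.push i).obj (cokernel φ) ≅ cokernel (τ.app G₀) :=
    PreservesCokernel.iso (Scheme.Modules.pushforward i) φ ≪≫ cokernelIsoOfEq hφ ≪≫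
      cokernelEpiComp (CMReg.pushTwistIso i F (-1)).inv (τ.app G₀)
  exact CohDev.support_subset_of_mono e₁.hom

variable [X.Over (Spec (CommRingCat.of k))] [IsProper (X ↘ Spec (CommRingCat.of k))]
  (hi : i ≫ CohB1.ProjSpace.toSpec n k = X ↘ Spec (CommRingCat.of k))

/-- The two assertions in dimension `< e`. -/
def Below (e : ℕ) : Prop :=
  ∀ F : X.Modules, Coh.IsCoh F → topologicalKrullDim ↥(CohB1.support F) < (e : WithBot ℕ∞) →
    (∀ M : X.Modules, Num1 k M → Curv2.euler k X (CohB1.tensorMod F M) = Curv2.euler k X F) ∧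
      ∃ m : ℤ, ∀ M : X.Modules, Num1 k M → Curv2.IsMRegular k n (G i F M) m

omit [IsClosedImmersion i] [IsProper (X ↘ Spec (CommRingCat.of k))] in
theorem below_zero : Below i 0 := by
  intro F _ hd
  have hF : IsZero F :=
    CohDev.isZero_of_support_eq_empty (EulerChar.support_eq_empty_of_dim_lt hd)
  have hz : ∀ M : X.Modules, IsZero (CohB1.tensorMod F M) := fun M =>
    ((DCoh.tensorBi (X := X)).flip.obj M).map_isZero hF
  exact ⟨fun M _ => by rw [EulerChar.euler_of_isZero k (hz M), EulerChar.euler_of_isZero k hF],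
    0, fun M _ q _ _ => subsingleton_of_isZero
      ((twFun n k _).map_isZero ((Coh.push i).map_isZero (hz M))) q⟩

include hi in
/-- The step of the induction. -/
theorem below_succ [Infinite k] {e : ℕ} (IH : Below i e) : Below i (e + 1) := by
  intro F hF hd
  haveI := EulerChar.isNoetherian k (X := X)
  haveI := isLocallyNoetherian_projSpace n k
  have hd' : topologicalKrullDim ↥(CohB1.support F) ≤ (e : WithBot ℕ∞) := Snapper.le_of_lt_succ hd
  obtain ⟨φ, hφ, hdim⟩ := exists_hyper i hF
  have hA : Coh.IsCoh (Pic13.twistOn k i F (-1)) := isCoh_twistOn i hF (-1)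
  have hF₁ : Coh.IsCoh (cokernel φ) := CohDev.isCoh_cokernel φ hA.1 hF
  have hd₁ := hdim e hd
  obtain ⟨hC₁, m, hm⟩ := IH _ hF₁ hd₁
  have hlow : ∀ F : X.Modules, Coh.IsCoh F →
      topologicalKrullDim ↥(CohB1.support F) < (e : WithBot ℕ∞) →
      ∀ M : X.Modules, Num1 k M → Curv2.euler k X (CohB1.tensorMod F M) = Curv2.euler k X F :=
    fun F hF h => (IH F hF h).1
  -- the sequences on `P^n`
  have hseq : ∀ M : X.Modules, Num1 k M →
      ∃ (a : twF (G i F M) (-1) ⟶ G i F M) (b : G i F M ⟶ G i (cokernel φ) M) (w : a ≫ b = 0),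
        (ShortComplex.mk a b w).ShortExact := fun M hM => by
    have hS := shortExact_push i
      (ProjTwist.shortExact_tensor hM.1 (HilbPolyX.shortExact_of_mono φ))
    let ε : twF (G i F M) (-1) ≅ G i (Pic13.twistOn k i F (-1)) M :=
      CMReg.pushTwistIso i (CohB1.tensorMod F M) (-1) ≪≫ (Coh.push i).mapIso (twistTens i F M (-1))
    obtain ⟨w, h⟩ := exists_shift hS ε
    exact ⟨_, _, w, h⟩
  -- a bound of `h⁰` at `m - 1`
  obtain ⟨j₁, B₁, hB₁⟩ := exists_h0Tw_bound i hi hlow hF hd'
  let q : ℕ := (Curv2.euler k X (Pic13.twistOn k i (cokernel φ) m)).toNat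
  have hQ : ∀ M : X.Modules, Num1 k M → ∀ j : ℤ, j ≤ m → h0Tw (G i (cokernel φ) M) j ≤ q := by
    intro M hM j hj
    refine (h0Tw_mono (isCoh_G i hM.1 hF₁) hj).trans ?_
    have h := EulerFam.h0Tw_eq_chi (isCoh_G i hM.1 hF₁) (hm M hM)
    rw [chi_G i hi hM.1 hF₁, hlow _ (isCoh_twistOn i hF₁ m)
      (lt_of_le_of_lt (dim_support_twistOn_le i _ m) hd₁) M hM] at h
    simp only [q, ← h, Int.toNat_natCast, le_refl]
  have hgrow : ∀ M : X.Modules, Num1 k M → ∀ j : ℤ, ∀ c : ℕ, j + c ≤ m →
      h0Tw (G i F M) (j + c) ≤ h0Tw (G i F M) j + c * q := by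
    intro M hM j c
    induction c with
    | zero => simp
    | succ c ih =>
      intro hc
      obtain ⟨a, b, w, hS⟩ := hseq M hM
      have h1 := h0Tw_le_add hS (isCoh_tw (isCoh_G i hM.1 hF) (-1)) (isCoh_G i hM.1 hF)
        (isCoh_G i hM.1 hF₁) (j + (c + 1 : ℕ))
      have h2 : h0Tw (twF (G i F M) (-1)) (j + (c + 1 : ℕ)) = h0Tw (G i F M) (j + c) :=
        finrank_iso (twTw (G i F M) (-1) (j + (c + 1 : ℕ)) (j + c) (by push_cast; ring)) 0
      have h3 := hQ M hM (j + (c + 1 : ℕ)) hc
      have h4 := ih (by omega)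
      rw [h2] at h1
      rw [Nat.succ_mul]
      dsimp only at h1
      omega
  obtain ⟨B, hB⟩ : ∃ B : ℕ, ∀ M : X.Modules, Num1 k M → h0Tw (G i F M) (m - 1) ≤ B := by
    refine ⟨B₁ + (m - 1 - min j₁ (m - 1)).toNat * q, fun M hM => ?_⟩
    have h := hgrow M hM (min j₁ (m - 1)) (m - 1 - min j₁ (m - 1)).toNat (by omega)
    rw [show min j₁ (m - 1) + ((m - 1 - min j₁ (m - 1)).toNat : ℤ) = m - 1 by omega] at h
    exact h.trans (Nat.add_le_add_right
      ((h0Tw_mono (isCoh_G i hM.1 hF) (min_le_left _ _)).trans (hB₁ M hM)) _)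
  have hchi : ∀ M : X.Modules, Num1 k M →
      (h0Tw (G i F M) (m - 1) : ℤ) - h1Tw (G i F M) (m - 1) =
        Curv2.euler k X (CohB1.tensorMod (Pic13.twistOn k i F (m - 1)) M) := fun M hM => by
    obtain ⟨a, b, w, hS⟩ := hseq M hM
    rw [← chi_G i hi hM.1 hF, chi_eq_of_vanishing fun q hq =>
      extension_subsingleton a b w hS (isCoh_G i hM.1 hF) (isCoh_G i hM.1 hF₁).1 (hm M hM) q hq
        (m - 1) (by omega)]
  -- Euler characteristics
  let D : X.Modules → ℤ := fun M => Curv2.euler k X (CohB1.tensorMod F M) - Curv2.euler k X F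
  have hle : ∀ M : X.Modules, Num1 k M →
      D M ≤ (B : ℤ) - Curv2.euler k X (Pic13.twistOn k i F (m - 1)) := fun M hM => by
    have h1 := hchi M hM
    have h2 := hB M hM
    have h3 : Curv2.euler k X (CohB1.tensorMod (Pic13.twistOn k i F (m - 1)) M) -
        Curv2.euler k X (Pic13.twistOn k i F (m - 1)) = D M :=
      dev_tens_left k hM.1 (isInvertible_oX i (m - 1)) hF hd' fun G hG h => hlow G hG h M hM
    omega
  have hadd : ∀ M N : X.Modules, Num1 k M → Num1 k N → D (CohB1.tensorMod M N) = D M + D N :=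
    fun M N hM hN => by
      have h1 := dev_tens_left k hN.1 hM.1 hF hd' fun G hG h => hlow G hG h N hN
      rw [EulerChar.euler_iso k (tensAssoc F M N)] at h1
      simp only [D]
      omega
  have hiso : ∀ M N : X.Modules, (M ≅ N) → D M = D N := fun M N e => by
    simp only [D, EulerChar.euler_iso k (tensCongr (Iso.refl F) e)]
  have hone : D (Coh.structureModule X) = 0 := by
    simp only [D, EulerChar.euler_iso k (tensOne F), sub_self]
  have hpow : ∀ M : X.Modules, Num1 k M → ∀ j : ℕ, D (CohB1.tensorPow M j) = j * D M := by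
    intro M hM j
    induction j with
    | zero =>
      show D (Coh.structureModule X) = _
      simp [hone]
    | succ j ih =>
      show D (CohB1.tensorMod (CohB1.tensorPow M j) M) = _
      rw [hadd _ _ (num1_pow k hM j) hM, ih]
      push_cast
      ring
  have hnonpos : ∀ M : X.Modules, Num1 k M → D M ≤ 0 := fun M hM => by
    by_contra h
    push Not at h
    let K := (B : ℤ) - Curv2.euler k X (Pic13.twistOn k i F (m - 1))
    have h1 := hle _ (num1_pow k hM (K.toNat + 1))
    rw [hpow M hM] at h1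
    have h2 : (((K.toNat + 1 : ℕ) : ℤ)) ≤ ((K.toNat + 1 : ℕ) : ℤ) * D M :=
      le_mul_of_one_le_right (by positivity) h
    have h3 := Int.self_le_toNat K
    push_cast at h1 h2
    simp only [K] at *
    linarith
  have hC : ∀ M : X.Modules, Num1 k M →
      Curv2.euler k X (CohB1.tensorMod F M) = Curv2.euler k X F := fun M hM => by
    obtain ⟨M', hM', ⟨e'⟩⟩ := num1_exists_inverse k hM
    have h1 := hadd M' M hM' hM
    rw [hiso _ _ e', hone] at h1
    have h2 := hnonpos M hM
    have h3 := hnonpos M' hM'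
    have : D M = 0 := by omega
    exact sub_eq_zero.1 this
  refine ⟨hC, m + ((B : ℤ) - Curv2.euler k X (Pic13.twistOn k i F (m - 1))).toNat, fun M hM p hp _ => ?_⟩
  obtain ⟨a, b, w, hS⟩ := hseq M hM
  rcases hp.eq_or_lt with rfl | hp2
  · refine extension_subsingleton_one a b w hS (isCoh_G i hM.1 hF) (isCoh_G i hM.1 hF₁).1 (hm M hM) _ ?_
    have h1 := hchi M hM
    have h2 := hB M hM
    have h3 : Curv2.euler k X (CohB1.tensorMod (Pic13.twistOn k i F (m - 1)) M) -
        Curv2.euler k X (Pic13.twistOn k i F (m - 1)) = D M :=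
      dev_tens_left k hM.1 (isInvertible_oX i (m - 1)) hF hd' fun G hG h => hlow G hG h M hM
    have h4 : D M = 0 := sub_eq_zero.2 (hC M hM)
    push_cast
    omega
  · exact extension_subsingleton a b w hS (isCoh_G i hM.1 hF) (isCoh_G i hM.1 hF₁).1 (hm M hM) p hp2 _
      (by omega)

include hi in
theorem below_all [Infinite k] : ∀ e : ℕ, Below i e
  | 0 => below_zero i
  | e + 1 => below_succ i hi (below_all e)

include hi in
/-- Tensoring with such a module preserves `χ`. -/
theorem euler_tens_eq [Infinite k] {F M : X.Modules} (hF : Coh.IsCoh F) (hM : Num1 k M) :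
    Curv2.euler k X (CohB1.tensorMod F M) = Curv2.euler k X F := by
  haveI := EulerChar.isNoetherian k (X := X)
  obtain ⟨D, hD⟩ := HilbPolyX.exists_dim_le k X
  exact (below_all i hi (D + 1) F hF (lt_of_le_of_lt (EulerChar.dim_support_le hD)
    (by exact_mod_cast Nat.lt_succ_self D))).1 M hM

include hi in
/-- Uniform regularity. -/
theorem exists_uniform_regular [Infinite k] {F : X.Modules} (hF : Coh.IsCoh F) :
    ∃ m : ℤ, ∀ M : X.Modules, Num1 k M → Pic13.IsMRegular k i (CohB1.tensorMod F M) m := by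
  haveI := EulerChar.isNoetherian k (X := X)
  obtain ⟨D, hD⟩ := HilbPolyX.exists_dim_le k X
  obtain ⟨-, m, hm⟩ := below_all i hi (D + 1) F hF (lt_of_le_of_lt (EulerChar.dim_support_le hD)
    (by exact_mod_cast Nat.lt_succ_self D))
  refine ⟨m, fun M hM => ?_⟩
  haveI := (isCoh_tens k hM.1 hF).1
  exact CMReg.isMRegular_of_push i (hm M hM)

end Groth.Agent.NumTriv
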