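import Groth.Agent.NumTriv.SurfH1Pn
import Groth.Agent.NumTriv.Piece
import Groth.Agent.NumTriv.Uniform
import Groth.Agent.BigVol.Basic
import Groth.Agent.EulerChar.Cartier
import Groth.Agent.EulerChar.Push
import Groth.Agent.EulerChar.Restrict
import Groth.Agent.EulerChar.Curve
import Groth.Agent.CMReg.Closed
import Groth.Agent.ProperFin.Projective

/-!
# `h¹` of the twists of an invertible sheaf of degree `≤ 0` on a surface, given a curve section
-/

set_option autoImplicit false

universe u

open CategoryTheory CategoryTheory.Limits AlgebraicGeometry TopologicalSpace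

set_option linter.style.haveILetI false

noncomputable section

namespace Groth.Agent.NumTriv.SurfH1

open ProjTwist ProjTwist.Pn

variable {k : Type u} [Field k]

/-- On an integral curve, a module with a section has `χ ≥ χ(O)`. -/
theorem euler_le_of_section {C : Scheme.{u}} [C.Over (Spec (CommRingCat.of k))]
    [IsProper (C ↘ Spec (CommRingCat.of k))] [IsIntegral C]
    (hd : topologicalKrullDim C ≤ ((1 : ℕ) : WithBot ℕ∞)) {M : C.Modules} (hM : PicF.IsInvertible M)
    (h : Nontrivial (Coh.HH C M 0)) :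
    Curv2.euler k C (Coh.structureModule C) ≤ Curv2.euler k C M := by
  haveI := EulerChar.isNoetherian k (X := C)
  have hO := LFFrame.isInvertible_structureModule C
  have hOc := ProperFin.isCoh_structureModule C
  have hMc := BigVol.isCoh_of_isInvertible hM
  obtain ⟨σ, hσ⟩ := exists_ne (0 : Coh.HH C M 0)
  let φ := Props.GenLocus.homOfSec (ProperFin.h0Sec M σ)
  have hφ : φ ≠ 0 := fun h0 => hσ ((ProperFin.h0Sec M).injective (by
    rw [map_zero]
    refine ((Props.GenLocus.sec_homOfSec (ProperFin.h0Sec M σ) ⊤).trans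
      (QCoh.res_self ..)).symm.trans ?_
    show Props.GenLocus.sec φ ⊤ = 0
    rw [h0]
    rfl))
  haveI : Mono φ := EulerChar.mono_of_ne_zero hO hM φ hφ
  have hbij := (EulerChar.bijective_stalk_generic hO hM φ hφ).2
  have hQ : Coh.IsCoh (cokernel φ) := CohDev.isCoh_cokernel φ hOc.1 hMc
  have h := EulerChar.euler_add k (HilbPolyX.shortExact_of_mono φ) hOc hMc hQ
  have hd0 : topologicalKrullDim ↥(CohB1.support (cokernel φ)) ≤ 0 :=
    Snapper.le_of_lt_succ (n := 0) (CohDev.dim_lt_of_irreducible (CohDev.isClosed_support hQ)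
      (IrreducibleSpace.isIrreducible_univ C) (Set.subset_univ _)
      (fun h => CohDev.not_mem_support_cokernel φ hbij (h (Set.mem_univ _))) (n := 1)
      ((IsHomeomorph.topologicalKrullDim_eq _ (Homeomorph.Set.univ C).isHomeomorph).trans_le hd))
  have h0 := EulerChar.euler_nonneg_of_support k hQ hd0
  dsimp only at h
  omega

variable {n : ℕ} {X : Scheme.{u}} [X.Over (Spec (CommRingCat.of k))]
  [IsProper (X ↘ Spec (CommRingCat.of k))] (i : X ⟶ CohB1.ProjSpace n k) [IsClosedImmersion i]
  (hi : i ≫ CohB1.ProjSpace.toSpec n k = X ↘ Spec (CommRingCat.of k)) (I : X.IdealSheafData)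
  [IsIntegral I.subscheme]

include hi in
/-- The bounds, given an integral curve in the class of `O(1)`. -/
theorem bounds_cut [Infinite k] (hd : topologicalKrullDim X ≤ ((2 : ℕ) : WithBot ℕ∞))
    (hId : topologicalKrullDim I.subscheme ≤ ((1 : ℕ) : WithBot ℕ∞))
    (eI : ClSub.idealMod I ≅ oX i (-1)) {L : X.Modules} (hL : PicF.IsInvertible L) (a0 a1 a2 e1 : ℤ)
    (hchiL : ∀ j : ℤ, 2 * Curv2.euler k X (Pic13.twistOn k i L j) =
      a2 * ((j + 2) * (j + 1)) + 2 * a1 * (j + 1) + 2 * a0)
    (hchiO : Curv2.euler k X (Coh.structureModule X) - Curv2.euler k X (oX i (-1)) = a2 + e1)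
    (hδ : a1 ≤ e1) (ha2 : 1 ≤ a2)
    (h0 : Module.finrank k (Coh.HH X (Pic13.twistOn k i L (-1)) 0) = 0) :
    (∀ m : ℤ, (Module.finrank k (Coh.HH X (Pic13.twistOn k i L m) 1) : ℤ) ≤ a1 * (a1 + 1) * a2 - a0) ∧
      a0 ≤ a1 * (a1 + 1) := by
  haveI := EulerChar.isNoetherian k (X := X)
  haveI := isLocallyNoetherian_projSpace n k
  letI : I.subscheme.Over (Spec (CommRingCat.of k)) := ⟨I.subschemeι ≫ (X ↘ Spec (CommRingCat.of k))⟩
  haveI : IsProper (I.subscheme ↘ Spec (CommRingCat.of k)) :=
    inferInstanceAs (IsProper (I.subschemeι ≫ (X ↘ Spec (CommRingCat.of k))))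
  haveI := EulerChar.isNoetherian k (X := I.subscheme)
  have hO := ProperFin.isCoh_structureModule X
  have hQm := EulerChar.isCoh_quotMod k I
  have hJc : Coh.IsCoh (ClSub.idealMod I) :=
    CohDev.isCoh_of_iso eI.symm (BigVol.isCoh_of_isInvertible (isInvertible_oX i (-1)))
  -- the sequence on `P^n`
  let OL := CohB1.tensorMod (Coh.structureModule X) L
  have hS' := shortExact_push i (ProjTwist.shortExact_tensor hL (EulerChar.shortExact_ideal I))
  let ε : twF (NumTriv.G i (Coh.structureModule X) L) (-1) ≅ NumTriv.G i (ClSub.idealMod I) L :=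
    CMReg.pushTwistIso i OL (-1) ≪≫ (Coh.push i).mapIso
      (twistTens i (Coh.structureModule X) L (-1) ≪≫
        tensCongr (oneTens (oX i (-1)) ≪≫ eI.symm) (Iso.refl L))
  obtain ⟨w, hS⟩ := exists_shift hS' ε
  have hG := isCoh_G i hL hO
  have hQ := isCoh_G i hL hQm
  have hdG : topologicalKrullDim ↥(CohB1.support (NumTriv.G i (Coh.structureModule X) L)) ≤
      ((2 : ℕ) : WithBot ℕ∞) :=
    (dim_support_push_le i _).trans (EulerChar.dim_support_le hd)
  have hdI : topologicalKrullDim ↥(I.support : Set X) ≤ ((1 : ℕ) : WithBot ℕ∞) := by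
    rw [← IsHomeomorph.topologicalKrullDim_eq _ (I.subschemeι.isEmbedding.toHomeomorph.trans
      (Homeomorph.setCongr I.range_subschemeι)).isHomeomorph]
    exact hId
  have hdQ : topologicalKrullDim ↥(CohB1.support (NumTriv.G i (ClSub.quotMod I) L)) ≤
      ((1 : ℕ) : WithBot ℕ∞) :=
    (dim_support_push_le i _).trans ((dim_support_tens_le _ L).trans
      ((CohDev.dim_mono (EulerChar.support_quotMod_subset I)).trans hdI))
  -- cohomology of `G`
  have hOLq : Coh.IsQCoh OL := (isCoh_tens k hL hO).1
  have hh : ∀ (j : ℤ) (q : ℕ), Module.finrank k (Coh.HH X (Pic13.twistOn k i L j) q) =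
      hTw (NumTriv.G i (Coh.structureModule X) L) j q := fun j q => by
    haveI := hOLq
    exact (finrank_hh_iso (tensCongr (oneTens L) (Iso.refl (oX i j))) q).symm.trans
      (CMReg.finrank_twistOn i hi OL j q)
  have hchiG : ∀ j : ℤ, chi (NumTriv.G i (Coh.structureModule X) L) j =
      Curv2.euler k X (Pic13.twistOn k i L j) := fun j =>
    (chi_G i hi hL hO j).trans (EulerChar.euler_iso k
      (tensCongr (oneTens (oX i j)) (Iso.refl L) ≪≫ tensComm (oX i j) L))
  -- sections on the curve
  let J := Scheme.Modules.pullback I.subschemeι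
  have hq : ∀ M : X.Modules, PicF.IsInvertible M →
      Curv2.euler k X (CohB1.tensorMod M (ClSub.quotMod I)) = Curv2.euler k I.subscheme (J.obj M) :=
    fun M hM => by
      haveI := (BigVol.isCoh_of_isInvertible (PicCl.isInvertible_pullback I.subschemeι hM)).1
      exact (EulerChar.euler_iso k (EulerChar.tensQuotIso I.subschemeι M)).trans
        (EulerChar.euler_push I.subschemeι rfl _ inferInstance)
  have hCO : Curv2.euler k I.subscheme (Coh.structureModule I.subscheme) = a2 + e1 := by
    rw [← hchiO, ← EulerChar.euler_iso k (QCoh.pullbackUnitIso I.subschemeι),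
      ← hq _ (LFFrame.isInvertible_structureModule X),
      EulerChar.euler_iso k (oneTens (ClSub.quotMod I))]
    have h := EulerChar.euler_add k (EulerChar.shortExact_ideal I) hJc hO hQm
    rw [← EulerChar.euler_iso k eI]
    dsimp only [ClSub.quotMod] at h ⊢
    omega
  have hQ0 : ∀ j : ℤ, j ≤ -1 → hTw (NumTriv.G i (ClSub.quotMod I) L) j 0 = 0 := by
    intro j hj
    let Lj := Pic13.twistOn k i L j
    have hLj : PicF.IsInvertible Lj := AmpleLib.isInvertible_tensorMod hL (isInvertible_oX i j)
    let M := J.obj Lj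
    have hM : PicF.IsInvertible M := PicCl.isInvertible_pullback I.subschemeι hLj
    let e : Pic13.twistOn k i (CohB1.tensorMod (ClSub.quotMod I) L) j ≅
        (Scheme.Modules.pushforward I.subschemeι).obj M :=
      tensAssoc (ClSub.quotMod I) L (oX i j) ≪≫ tensComm (ClSub.quotMod I) Lj ≪≫
        EulerChar.tensQuotIso I.subschemeι Lj
    have h1 : chi (NumTriv.G i (ClSub.quotMod I) L) j = Curv2.euler k I.subscheme M := by
      haveI := (isCoh_tens k hL hQm).1
      refine (chi_push i hi (CohB1.tensorMod (ClSub.quotMod I) L) j).trans ?_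
      refine (EulerChar.euler_iso k e).trans ?_
      exact EulerChar.euler_push I.subschemeι rfl M (BigVol.isCoh_of_isInvertible hM).1
    have h2 : hTw (NumTriv.G i (ClSub.quotMod I) L) j 0 = Module.finrank k (Coh.HH I.subscheme M 0) := by
      haveI := (isCoh_tens k hL hQm).1
      refine ((CMReg.finrank_twistOn i hi (CohB1.tensorMod (ClSub.quotMod I) L) j 0).symm.trans
        (finrank_hh_iso e 0)).trans ?_
      exact (EulerChar.nonempty_pushEquiv I.subschemeι rfl M
        (BigVol.isCoh_of_isInvertible hM).1 0).some.finrank_eq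
    rw [h2]
    rcases subsingleton_or_nontrivial (Coh.HH I.subscheme M 0) with hs | hs
    · exact Module.finrank_zero_of_subsingleton
    exfalso
    have h3 := euler_le_of_section (k := k) hId hM hs
    have hsub : chi (NumTriv.G i (ClSub.quotMod I) L) j =
        chi (NumTriv.G i (Coh.structureModule X) L) j -
          chi (NumTriv.G i (Coh.structureModule X) L) (j - 1) := chi_sub _ _ w hS hG hQ j
    rw [hCO, ← h1, hsub, hchiG, hchiG] at h3
    have h4 := hchiL j
    have h5 := hchiL (j - 1)
    nlinarith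
  have hchi2 : ∀ j : ℤ, 2 * chi (NumTriv.G i (Coh.structureModule X) L) j =
      a2 * ((j + 2) * (j + 1)) + 2 * a1 * (j + 1) + 2 * a0 := fun j => by rw [hchiG]; exact hchiL j
  have hG0 : hTw (NumTriv.G i (Coh.structureModule X) L) (-1) 0 = 0 := (hh (-1) 0).symm.trans h0
  have hb := bounds _ _ w hS hG hQ hdG hdQ hG0 hQ0 a0 a1 a2 hchi2 ha2
  exact ⟨fun m => by rw [hh]; exact hb.1 m, hb.2⟩

end Groth.Agent.NumTriv.SurfH1
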