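import Groth.Agent.NumTriv.SurfH1
import Groth.Agent.NumTriv.ExactCut
import Groth.Agent.NumTriv.ChiBdd
import Groth.Agent.BigVol.FieldPoint
import Groth.Agent.GrModLib.TwistInt
import Groth.Agent.S5644
import Groth.Agent.S5632

/-!
# The surface bounds over an algebraically closed field
-/

set_option autoImplicit false

universe u

open CategoryTheory CategoryTheory.Limits AlgebraicGeometry TopologicalSpace

set_option linter.style.haveILetI false

noncomputable section

namespace Groth.Agent.NumTriv.SurfH1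

open ProjTwist ProjTwist.Pn Groth.Agent.Props.GenLocus

theorem two_sum (c : Fin 3 → ℤ) (m : ℕ) :
    2 * ∑ j : Fin 3, c j * ((m + j).choose j : ℤ) =
      c 2 * (((m : ℤ) + 2) * ((m : ℤ) + 1)) + 2 * c 1 * ((m : ℤ) + 1) + 2 * c 0 := by
  have h : 2 * (((m + 2).choose 2 : ℕ) : ℤ) = ((m : ℤ) + 2) * ((m : ℤ) + 1) := by
    induction m with
    | zero => decide
    | succ m ih =>
      rw [show m + 1 + 2 = (m + 2) + 1 by omega, Nat.choose_succ_succ' (m + 2) 1, Nat.choose_one_right]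
      push_cast
      linarith
  simp only [Fin.sum_univ_three, Fin.val_zero, Fin.val_one, Fin.val_two, Nat.add_zero,
    Nat.choose_zero_right, Nat.choose_one_right]
  push_cast
  linear_combination c 2 * h

/-- A function given by binomial sums on every `[-N, ∞)` is one quadratic. -/
theorem quad_of_nat (p : ℤ → ℤ) (hp : ∀ N : ℕ, ∃ c : Fin 3 → ℤ, ∀ u : ℕ,
      p ((u : ℤ) - N) = ∑ j : Fin 3, c j * ((u + j).choose j : ℤ))
    (a : Fin 3 → ℤ) (ha : ∀ m : ℕ, p m = ∑ j : Fin 3, a j * ((m + j).choose j : ℤ)) (t : ℤ) :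
    2 * p t = a 2 * ((t + 2) * (t + 1)) + 2 * a 1 * (t + 1) + 2 * a 0 := by
  obtain ⟨c, hc⟩ := hp (-t).toNat
  generalize hN : (-t).toNat = N at hc
  obtain ⟨u, hu⟩ : ∃ u : ℕ, t = (u : ℤ) - N := ⟨(t + N).toNat, by omega⟩
  have e : ∀ j : ℕ, c 2 * ((((j + N : ℕ) : ℤ) + 2) * (((j + N : ℕ) : ℤ) + 1)) + 2 * c 1 * (((j + N : ℕ) : ℤ) + 1) + 2 * c 0 =
      a 2 * (((j : ℤ) + 2) * ((j : ℤ) + 1)) + 2 * a 1 * ((j : ℤ) + 1) + 2 * a 0 := fun j => by
    rw [← two_sum c, ← two_sum a, ← hc, ← ha,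
      show ((j + N : ℕ) : ℤ) - N = (j : ℤ) by push_cast; ring]
  have e0 := e 0
  have e1 := e 1
  have e2 := e 2
  push_cast at e0 e1 e2
  have h2 : c 2 = a 2 := by linarith
  rw [h2] at e0 e1
  have h1 : c 1 = a 1 - a 2 * N := by linarith
  rw [hu, hc, two_sum c, h2, h1]
  rw [h1] at e0
  linear_combination e0

variable {k : Type u} [Field k] {n : ℕ} {X : Scheme.{u}} [X.Over (Spec (CommRingCat.of k))]
  [IsProper (X ↘ Spec (CommRingCat.of k))] (i : X ⟶ CohB1.ProjSpace n k) [IsClosedImmersion i]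

/-- Twists have binomial Euler characteristics. -/
theorem exists_coeff (hd : topologicalKrullDim X ≤ ((2 : ℕ) : WithBot ℕ∞)) {G : X.Modules}
    (hG : Coh.IsCoh G) :
    ∃ c : Fin 3 → ℤ, ∀ m : ℕ,
      Curv2.euler k X (Pic13.twistOn k i G m) = ∑ j : Fin 3, c j * ((m + j).choose j : ℤ) := by
  obtain ⟨e1⟩ := nonempty_oX_add i 1 (-1) 0 (by norm_num)
  obtain ⟨e0⟩ := nonempty_oX_zero i
  let I : ℕ → ℤ := fun j => Snapper.intE k (fun _ : Fin j => oX i (-1)) G
  refine ⟨![I 0 - I 1, I 1 - I 2, I 2], fun m => ?_⟩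
  obtain ⟨ep⟩ := nonempty_oX_pow i m
  rw [EulerChar.euler_iso k (show Pic13.twistOn k i G m ≅ CohB1.tensorMod (CohB1.tensorPow (oX i 1) m) G from
      tensComm G (oX i m) ≪≫ tensCongr ep.symm (Iso.refl G)),
    Snapper.euler_tensorPow_eq k (isInvertible_oX i 1) (isInvertible_oX i (-1)) (e1 ≪≫ e0) 2 m hG
      (EulerChar.dim_support_le hd)]
  refine mul_left_cancel₀ (two_ne_zero (α := ℤ)) ?_
  rw [two_sum]
  have h : 2 * (((m + 1).choose 2 : ℕ) : ℤ) = ((m : ℤ) + 1) * (m : ℤ) := by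
    clear ep
    induction m with
    | zero => decide
    | succ m ih =>
      rw [Nat.choose_succ_succ' (m + 1) 1, Nat.choose_one_right]
      push_cast
      linarith
  simp only [Finset.sum_range_succ, Finset.sum_range_zero, Nat.choose_zero_right, I,
    show m + 1 - 1 = m by omega, show m + 2 - 1 = m + 1 by omega, Nat.choose_one_right]
  simp
  linear_combination (Snapper.intE k (fun _ : Fin 2 => oX i (-1)) G) * h

theorem euler_quad (hd : topologicalKrullDim X ≤ ((2 : ℕ) : WithBot ℕ∞)) {G : X.Modules}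
    (hG : Coh.IsCoh G) (a : Fin 3 → ℤ)
    (ha : ∀ m : ℕ, Curv2.euler k X (Pic13.twistOn k i G m) = ∑ j : Fin 3, a j * ((m + j).choose j : ℤ))
    (t : ℤ) : 2 * Curv2.euler k X (Pic13.twistOn k i G t) =
      a 2 * ((t + 2) * (t + 1)) + 2 * a 1 * (t + 1) + 2 * a 0 := by
  refine quad_of_nat (fun t => Curv2.euler k X (Pic13.twistOn k i G t)) (fun N => ?_) a ha t
  obtain ⟨c, hc⟩ := exists_coeff i hd (isCoh_twistOn i hG (-(N : ℤ)))
  refine ⟨c, fun u => ?_⟩
  obtain ⟨e⟩ := nonempty_twistTwist i G (-(N : ℤ)) u ((u : ℤ) - N) (by ring)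
  rw [← hc u]
  exact (EulerChar.euler_iso k e).symm

omit [X.Over (Spec (CommRingCat.of k))] [IsProper (X ↘ Spec (CommRingCat.of k))] in
/-- An ideal inverse to `O(1)`. -/
theorem nonempty_ideal_iso {I : X.IdealSheafData}
    (e : CohB1.tensorMod (oX i 1) (ClSub.idealMod I) ≅ Coh.structureModule X) :
    Nonempty (ClSub.idealMod I ≅ oX i (-1)) := by
  obtain ⟨e1⟩ := nonempty_oX_add i 1 (-1) 0 (by norm_num)
  obtain ⟨e0⟩ := nonempty_oX_zero i
  exact CMReg.nonempty_iso_of_tens_one e (e1 ≪≫ e0)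

set_option maxHeartbeats 800000 in
/-- The bounds on a surface. -/
theorem surface [IsAlgClosed k] (hi : i ≫ CohB1.ProjSpace.toSpec n k = X ↘ Spec (CommRingCat.of k))
    [IsIntegral X] (hdim : topologicalKrullDim X = ((2 : ℕ) : WithBot ℕ∞))
    (L L' : X.Modules) (hL : PicF.IsInvertible L) (hLL' : Nonempty (CohB1.tensorMod L L' ≅ Coh.structureModule X))
    (hdeg : FGA.intNum k X 2 (Matrix.vecCons L' (fun _ : Fin 1 => ((Scheme.Modules.pullback i).obj (Twist.twistProjSpace n k (-1))))) (Coh.structureModule X) ≤ 0)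
    (a : Fin 3 → ℤ)
    (ha : ∀ m : ℕ, FGA.eulerCharLE k X (Pic13.twistOn k i L m) 2 = ∑ j : Fin 3, a j * ((m + j).choose j : ℤ)) :
    (∀ m : ℤ, (Module.finrank k (Coh.HH X (Pic13.twistOn k i L m) 1) : ℤ) ≤ a 1 * (a 1 + 1) * a 2 - a 0) ∧
      a 0 ≤ a 1 * (a 1 + 1) := by
  haveI := EulerChar.isNoetherian k (X := X)
  haveI : CompactSpace X := EulerChar.compactSpace k
  have hO := ProperFin.isCoh_structureModule X
  have hLc := BigVol.isCoh_of_isInvertible hL
  have hd := hdim.le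
  have ha' : ∀ m : ℕ, Curv2.euler k X (Pic13.twistOn k i L m) =
      ∑ j : Fin 3, a j * ((m + j).choose j : ℤ) := fun m => by
    rw [← ha m, Snapper.eulerCharLE_eq k hd]
  obtain ⟨e, he'⟩ := exists_coeff i hd hO
  have he : ∀ m : ℕ, FGA.eulerCharLE k X (Pic13.twistOn k i (Coh.structureModule X) m) 2 =
      ∑ j : Fin 3, e j * ((m + j).choose j : ℤ) := fun m => by
    rw [Snapper.eulerCharLE_eq k hd, he' m]
  have qL := euler_quad i hd hLc a ha'
  have qO := euler_quad i hd hO e he'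
  -- the invariants
  obtain ⟨hae, hpow, hdiff⟩ := Groth.Agent.S5644.result k n X i hi 1 hdim L L' hL hLL' a e ha he
  have hae : a 2 = e 2 := hae
  have hdiff : a 1 - e 1 = FGA.intNum k X 2 (Matrix.vecCons L' (fun _ : Fin 1 =>
      ((Scheme.Modules.pullback i).obj (Twist.twistProjSpace n k (-1))))) (Coh.structureModule X) := hdiff
  have hδ : a 1 ≤ e 1 := by omega
  obtain ⟨em⟩ := nonempty_oX_add i 1 (-1) 0 (by norm_num)
  obtain ⟨ez⟩ := nonempty_oX_zero i
  have ha2 : 1 ≤ a 2 := by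
    have h : a 2 = Snapper.intE k (fun _ : Fin 2 => oX i (-1)) (Coh.structureModule X) := by
      rw [← Snapper.intNum_eq k hd]; exact hpow
    have hp : 0 < Snapper.intE k (fun _ : Fin 2 => oX i (-1)) (Coh.structureModule X) :=
      IntProd70.intE_pos k (L := fun _ : Fin 2 => oX i 1) (fun _ => isAmple_oX_one i)
        (fun _ => ⟨em ≪≫ ez⟩) hO (NefPos.dim_support_structure hdim)
    omega
  -- no sections of `L(-1)`
  have h00 : Module.finrank k (Coh.HH X (Pic13.twistOn k i L (-1)) 0) = 0 := by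
    rcases subsingleton_or_nontrivial (Coh.HH X (Pic13.twistOn k i L (-1)) 0) with hs | hs
    · exact Module.finrank_zero_of_subsingleton
    exfalso
    let L₁ := Pic13.twistOn k i L (-1)
    have hL₁ : PicF.IsInvertible L₁ := AmpleLib.isInvertible_tensorMod hL (isInvertible_oX i (-1))
    obtain ⟨L₁', -, ⟨e₁⟩⟩ := PicLaw.exists_inverse hL₁
    have ha1 : ∀ m : ℕ, FGA.eulerCharLE k X (Pic13.twistOn k i L₁ m) 2 =
        ∑ j : Fin 3, (![a 0 - a 1, a 1 - a 2, a 2] : Fin 3 → ℤ) j * ((m + j).choose j : ℤ) := fun m => by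
      obtain ⟨et⟩ := nonempty_twistTwist i L (-1) m ((m : ℤ) - 1) (by ring)
      refine mul_left_cancel₀ (two_ne_zero (α := ℤ)) ?_
      rw [Snapper.eulerCharLE_eq k hd, EulerChar.euler_iso k et, qL, two_sum]
      simp
      ring
    obtain ⟨-, -, hdiff₁⟩ := Groth.Agent.S5644.result k n X i hi 1 hdim L₁ L₁' hL₁ ⟨e₁⟩ _ e ha1 he
    have hdiff₁ : a 1 - a 2 - e 1 = FGA.intNum k X 2 (Matrix.vecCons L₁' (fun _ : Fin 1 =>
        ((Scheme.Modules.pullback i).obj (Twist.twistProjSpace n k (-1))))) (Coh.structureModule X) := hdiff₁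
    obtain ⟨e₂⟩ := Groth.Agent.S5632.result k n X i hi 1 hdim L₁ L₁' hL₁ ⟨e₁⟩
      (show FGA.intNum k X 2 _ _ ≤ 0 by rw [← hdiff₁]; omega) hs
    have hq : ∀ m : ℕ, 2 * Curv2.euler k X (Pic13.twistOn k i L ((m : ℤ) - 1)) =
        2 * Curv2.euler k X (Pic13.twistOn k i (Coh.structureModule X) m) := fun m => by
      obtain ⟨et⟩ := nonempty_twistTwist i L (-1) m ((m : ℤ) - 1) (by ring)
      rw [← EulerChar.euler_iso k et,
        EulerChar.euler_iso k (show Pic13.twistOn k i L₁ m ≅ Pic13.twistOn k i (Coh.structureModule X) m from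
          tensCongr e₂ (Iso.refl _))]
    have h0 := hq 0
    have h1 := hq 1
    rw [qL, qO] at h0 h1
    norm_num at h0 h1
    omega
  -- over `k(t)`
  haveI : Infinite k := inferInstance
  obtain ⟨N, σ, hσ⟩ := IndexThm.exists_gens k (isInvertible_oX i 1) (ChiBdd.isGloballyGenerated_one i)
  let K := GenForm.K k N
  let r := X ↘ Spec (CommRingCat.of k)
  let X' := GenHyp.XK k N r
  let p : X' ⟶ X := GenHyp.pX k N r
  let q : X' ⟶ Spec (CommRingCat.of K) := GenHyp.qX k N r
  letI : X'.Over (Spec (CommRingCat.of K)) := ⟨q⟩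
  haveI : IsProper (X' ↘ Spec (CommRingCat.of K)) :=
    inferInstanceAs (IsProper (pullback.snd r (GenHyp.g k N)))
  haveI : IsIntegral X' := GenHyp.isIntegral_XK k N r (oX i 1) σ hσ
  haveI : Infinite K := Infinite.of_injective (algebraMap k K) (algebraMap k K).injective
  haveI := EulerChar.isNoetherian K (X := X')
  have hd' : topologicalKrullDim X' = ((2 : ℕ) : WithBot ℕ∞) := (GenHyp.dim_XK k N r).trans hdim
  have hsq : IsPullback p q r (Spec.map (CommRingCat.ofHom (algebraMap k K))) :=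
    IsPullback.of_hasPullback _ _
  have H := ProperFin.isPullback_pnMap n (algebraMap k K)
  let i' : X' ⟶ CohB1.ProjSpace n K := H.lift (p ≫ i) q (by rw [Category.assoc, hi]; exact hsq.w)
  have hi1 : i' ≫ ProperFin.pnMap n (algebraMap k K) = p ≫ i := H.lift_fst _ _ _
  have hi2 : i' ≫ CohB1.ProjSpace.toSpec n K = X' ↘ Spec (CommRingCat.of K) := H.lift_snd _ _ _
  haveI : IsClosedImmersion i' := by
    have hbig : IsPullback p (i' ≫ CohB1.ProjSpace.toSpec n K) (i ≫ CohB1.ProjSpace.toSpec n k)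
        (Spec.map (CommRingCat.ofHom (algebraMap k K))) := by
      rw [hi, hi2]; exact hsq
    exact MorphismProperty.of_isPullback (IsPullback.of_bot hbig hi1.symm H) inferInstance
  let P := Scheme.Modules.pullback p
  let J := fun d : ℤ => ((Scheme.Modules.pullbackComp p i).app (Twist.twistProjSpace n k d) ≪≫
    (Scheme.Modules.pullbackCongr hi1.symm).app _ ≪≫
    ((Scheme.Modules.pullbackComp i' (ProperFin.pnMap n (algebraMap k K))).app _).symm ≪≫
    (Scheme.Modules.pullback i').mapIso (GrModLib.nonempty_pullback_twist_int n (algebraMap k K) d).some :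
      P.obj (oX i d) ≅ oX i' d)
  let T := fun (M : X.Modules) (d : ℤ) => (KFlat.PullTensor.pullTensorIso p M (oX i d) ≪≫
    tensCongr (Iso.refl (P.obj M)) (J d) :
      P.obj (Pic13.twistOn k i M d) ≅ Pic13.twistOn K i' (P.obj M) d)
  have hh : ∀ (M : X.Modules), Coh.IsCoh M → ∀ (j : ℤ) (s : ℕ),
      Module.finrank K (Coh.HH X' (Pic13.twistOn K i' (P.obj M) j) s) =
        Module.finrank k (Coh.HH X (Pic13.twistOn k i M j) s) := fun M hM j s =>
    (finrank_hh_iso (T M j) s).symm.trans (CMReg.finrank_baseChange p q hsq _ (isCoh_twistOn i hM j) s)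
  have he2 : ∀ (M : X.Modules), Coh.IsCoh M → ∀ j : ℤ,
      Curv2.euler K X' (Pic13.twistOn K i' (P.obj M) j) = Curv2.euler k X (Pic13.twistOn k i M j) :=
    fun M hM j => finsum_congr fun s => by rw [hh M hM j s]
  have hL' := PicCl.isInvertible_pullback p hL
  let eO : P.obj (Coh.structureModule X) ≅ Coh.structureModule X' := QCoh.pullbackUnitIso p
  have qO' : ∀ j : ℤ, 2 * Curv2.euler K X' (oX i' j) = e 2 * ((j + 2) * (j + 1)) + 2 * e 1 * (j + 1) + 2 * e 0 :=
    fun j => by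
      rw [← EulerChar.euler_iso K (show Pic13.twistOn K i' (P.obj (Coh.structureModule X)) j ≅ oX i' j from
        tensCongr eO (Iso.refl _) ≪≫ oneTens (oX i' j)), he2 _ hO]
      exact qO j
  obtain ⟨ez'⟩ := nonempty_oX_zero i'
  -- the curve
  let B' := P.obj (oX i 1)
  let s' := GenHyp.sH k N r (oX i 1) σ
  obtain ⟨η, -, hη⟩ := GenHyp.exists_generic_XK k N r (oX i 1) σ hσ
  have hηs : η ∈ CohB1.genLocus _ s' := not_not.1 hη
  have hB' : PicF.IsInvertible B' := PicCl.isInvertible_pullback p (isInvertible_oX i 1)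
  obtain ⟨ζ, hζ⟩ : ∃ ζ, GenHyp.zset k N r (oX i 1) σ = closure {ζ} := by
    rcases GenHyp.zset_irreducible k N r (oX i 1) σ hσ with h | h
    · exfalso
      haveI : Mono s' := IndexThm.mono_of_genLocus hB' s' hηs
      haveI : Epi s' := Preadditive.epi_of_isZero_cokernel s'
        (CohDev.isZero_of_support_eq_empty (Set.eq_empty_iff_forall_notMem.2 fun x =>
          CohDev.not_mem_support_cokernel s' (HilbPolyX.stalk_sec_bijective s'
            (not_not.1 fun hx => (Set.eq_empty_iff_forall_notMem.1 h x) hx)).2))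
      haveI : IsIso s' := isIso_of_mono_of_epi s'
      let eB : oX i' 1 ≅ Coh.structureModule X' := (J 1).symm ≪≫ (asIso s').symm
      have hc : ∀ j : ℤ, Curv2.euler K X' (oX i' (j + 1)) = Curv2.euler K X' (oX i' j) := fun j => by
        obtain ⟨ea⟩ := nonempty_oX_add i' j 1 (j + 1) rfl
        exact EulerChar.euler_iso K (ea.symm ≪≫ tensCongr (Iso.refl _) eB ≪≫ tensOne _)
      have h1 := qO' 0
      have h2 := qO' 1
      have h3 := qO' 2
      have h4 := hc 0
      have h5 := hc 1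
      norm_num at h1 h2 h3 h4 h5
      omega
    · exact h
  obtain ⟨-, ⟨eJ⟩⟩ := ExactCut.exists_inverse k N r (oX i 1) σ hσ (isInvertible_oX i 1) ζ hζ
  let I := IntMult.ptIdeal ζ
  haveI : IsIntegral I.subscheme := S16188.isIntegral_subscheme _ isIrreducible_singleton.closure
  have hId : topologicalKrullDim I.subscheme ≤ ((1 : ℕ) : WithBot ℕ∞) := by
    rw [IsHomeomorph.topologicalKrullDim_eq _ (I.subschemeι.isEmbedding.toHomeomorph.trans
      (Homeomorph.setCongr I.range_subschemeι)).isHomeomorph]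
    show topologicalKrullDim ↥(I.support : Set X') ≤ _
    rw [CohDev.coe_support_ptIdeal]
    refine Snapper.le_of_lt_succ (CohDev.dim_lt_of_irreducible isClosed_closure
      (IrreducibleSpace.isIrreducible_univ X') (Set.subset_univ _) (fun h => hη ?_)
      ((IsHomeomorph.topologicalKrullDim_eq _ (Homeomorph.Set.univ X').isHomeomorph).trans hd').le)
    rw [hζ]
    exact h (Set.mem_univ η)
  obtain ⟨eI⟩ := nonempty_ideal_iso i' (I := I) (tensCongr (J 1).symm (Iso.refl _) ≪≫ eJ)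
  have key := bounds_cut i' hi2 I hd'.le hId eI hL' (a 0) (a 1) (a 2) (e 1)
    (fun j => by rw [he2 L hLc]; exact qL j) ?_ hδ ha2 (by rw [hh L hLc]; exact h00)
  · exact ⟨fun m => by rw [← hh L hLc]; exact key.1 m, key.2⟩
  · have h1 := qO' 0
    have h2 := qO' (-1)
    rw [EulerChar.euler_iso K ez'] at h1
    norm_num at h1 h2
    omega

end Groth.Agent.NumTriv.SurfH1
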