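import Groth.Agent.ProjTwist.Pn.Extension
import Groth.Agent.ProjTwist.Pn.HyperSection
import Groth.Agent.ProjTwist.Pn.SupportVanish
import Groth.Agent.ProjTwist.Pn.Chain
import Groth.Agent.ProjTwist.Pn.TopCohom
import Groth.Agent.NumTriv.Twist

/-!
# `h¹` of the twists of a sheaf of negative degree on a surface in `P^n`

`0 → G(-1) → G → Q → 0` on `P^n_k`, with `Q` on a curve without sections in negative degrees and `G`
on a surface without sections in degree `-1`.
-/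

set_option autoImplicit false

universe u

open CategoryTheory CategoryTheory.Limits AlgebraicGeometry TopologicalSpace

set_option linter.style.haveILetI false

noncomputable section

namespace Groth.Agent.NumTriv.SurfH1

open ProjTwist ProjTwist.Pn

variable {k : Type u} [Field k] {n : ℕ}

theorem subsingleton_twF_of_dim {F : (CohB1.ProjSpace n k).Modules} (hF : Coh.IsCoh F) {d : ℕ}
    (hd : topologicalKrullDim ↥(CohB1.support F) ≤ (d : WithBot ℕ∞)) (j : ℤ) (q : ℕ) (hq : d < q) :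
    Subsingleton (Coh.HH (CohB1.ProjSpace n k) (twF F j) q) := by
  haveI := isLocallyNoetherian_projSpace n k
  haveI : IsProper (CohB1.ProjSpace n k ↘ Spec (CommRingCat.of k)) := ProjProper.Basic.isProper_toSpec n k
  haveI : CompactSpace (CohB1.ProjSpace n k) := EulerChar.compactSpace k
  haveI : IsNoetherian (CohB1.ProjSpace n k) := {}
  exact subsingleton_of_supportDim_le (isCoh_tw hF j) d
    ((topologicalKrullDim_support_twF_le F j).trans hd) q hq

theorem chi_eq_three {F : (CohB1.ProjSpace n k).Modules} (hF : Coh.IsCoh F)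
    (hd : topologicalKrullDim ↥(CohB1.support F) ≤ ((2 : ℕ) : WithBot ℕ∞)) (j : ℤ) :
    chi F j = (hTw F j 0 : ℤ) - hTw F j 1 + hTw F j 2 := by
  haveI : IsProper (CohB1.ProjSpace n k ↘ Spec (CommRingCat.of k)) := ProjProper.Basic.isProper_toSpec n k
  rw [chi, EulerChar.euler_eq_sum k (t := 3) fun q hq => subsingleton_twF_of_dim hF hd j q (by omega)]
  simp [Finset.sum_range_succ, hTw, sub_eq_add_neg]

theorem chi_eq_two {F : (CohB1.ProjSpace n k).Modules} (hF : Coh.IsCoh F)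
    (hd : topologicalKrullDim ↥(CohB1.support F) ≤ ((1 : ℕ) : WithBot ℕ∞)) (j : ℤ) :
    chi F j = (hTw F j 0 : ℤ) - hTw F j 1 :=
  chi_eq_of_vanishing fun q hq => subsingleton_twF_of_dim hF hd j q (by omega)

/-- `h¹` drops on a curve. -/
theorem h1_drop [Infinite k] {Q : (CohB1.ProjSpace n k).Modules} (hQ : Coh.IsCoh Q)
    (hd : topologicalKrullDim ↥(CohB1.support Q) ≤ ((1 : ℕ) : WithBot ℕ∞)) (t : ℕ) :
    hTw Q (-1 + t) 1 ≤ hTw Q (-1) 1 - t := by
  haveI := isLocallyNoetherian_projSpace n k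
  obtain ⟨τ, hτ, hdim⟩ := exists_hyperSection (fun _ : Unit => Q) fun _ => hQ
  haveI : Mono (τ.app Q) := hτ ()
  have hS : (ShortComplex.mk (τ.app Q) (cokernel.π (τ.app Q)) (cokernel.condition _)).ShortExact :=
    ShortComplex.ShortExact.mk' (ShortComplex.exact_cokernel _) (hτ ())
      (inferInstanceAs (Epi (cokernel.π (τ.app Q))))
  have hC : Coh.IsCoh (cokernel (τ.app Q)) := CohDev.isCoh_cokernel _ (isCoh_tw hQ (-1)).1 hQ
  have hd0 := Snapper.le_of_lt_succ
    (hdim () 1 (lt_of_le_of_lt hd (WithBot.coe_lt_coe.2 (by exact_mod_cast Nat.lt_succ_self 1))))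
  have hreg : Curv2.IsMRegular k n (cokernel (τ.app Q)) 0 := fun q hq _ =>
    subsingleton_twF_of_dim hC hd0 ((0 : ℤ) - q) q (by omega)
  have h := h1Tw_bound (τ.app Q) (cokernel.π _) (cokernel.condition _) hS hQ hC.1 hreg t
  simpa [h1Tw, hTw] using h

section
variable {G Q : (CohB1.ProjSpace n k).Modules} (a : twF G (-1) ⟶ G) (b : G ⟶ Q) (w : a ≫ b = 0)
  (hS : (ShortComplex.mk a b w).ShortExact) (hG : Coh.IsCoh G) (hQ : Coh.IsCoh Q)

include hS hG hQ

theorem chi_sub (j : ℤ) : chi Q j = chi G j - chi G (j - 1) := by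
  have h := chi_add hS (isCoh_tw hG (-1)) hG hQ j
  have e := chi_tw G (-1) j
  rw [show (-1 : ℤ) + j = j - 1 by ring] at e
  dsimp only at h
  rw [e] at h
  omega

theorem h2_le (j : ℤ) : hTw G (j - 1) 2 ≤ hTw G j 2 + hTw Q j 1 := by
  rw [← hTw_twF G (-1) j (j - 1) (by ring) 2]
  haveI := finite_hh (isCoh_tw (isCoh_tw hG (-1)) j) 2
  haveI := finite_hh (isCoh_tw hG j) 2
  haveI := finite_hh (isCoh_tw hQ j) 1
  exact @finrank_X₁_succ_le k _ (CohB1.ProjSpace n k) _ (twFun n k j) _ _ (shortExact_tw hS j) 1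
    ‹_› ‹_› ‹_›

theorem h1_pred_le (j : ℤ) : hTw G (j - 1) 1 ≤ hTw G j 1 + hTw Q j 0 := by
  rw [← hTw_twF G (-1) j (j - 1) (by ring) 1]
  haveI := finite_hh (isCoh_tw (isCoh_tw hG (-1)) j) 1
  haveI := finite_hh (isCoh_tw hG j) 1
  haveI := finite_hh (isCoh_tw hQ j) 0
  exact @finrank_X₁_succ_le k _ (CohB1.ProjSpace n k) _ (twFun n k j) _ _ (shortExact_tw hS j) 0
    ‹_› ‹_› ‹_›

theorem h1_le_pred (j : ℤ) : hTw G j 1 ≤ hTw G (j - 1) 1 + hTw Q j 1 := by
  rw [← hTw_twF G (-1) j (j - 1) (by ring) 1]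
  haveI := finite_hh (isCoh_tw (isCoh_tw hG (-1)) j) 1
  haveI := finite_hh (isCoh_tw hG j) 1
  haveI := finite_hh (isCoh_tw hQ j) 1
  exact finrank_middle_le (CohLin.overLin k (CohLin.hMap ((twFun n k j).map a) 1))
    (CohLin.overLin k (CohLin.hMap ((twFun n k j).map b) 1))
    fun x hx => CohLin.exists_hMap_f_eq (shortExact_tw hS j) x hx

/-- The bounds. -/
theorem bounds [Infinite k] (hdG : topologicalKrullDim ↥(CohB1.support G) ≤ ((2 : ℕ) : WithBot ℕ∞))
    (hdQ : topologicalKrullDim ↥(CohB1.support Q) ≤ ((1 : ℕ) : WithBot ℕ∞))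
    (hG0 : hTw G (-1) 0 = 0) (hQ0 : ∀ j : ℤ, j ≤ -1 → hTw Q j 0 = 0) (a0 a1 a2 : ℤ)
    (hchi : ∀ j : ℤ, 2 * chi G j = a2 * ((j + 2) * (j + 1)) + 2 * a1 * (j + 1) + 2 * a0)
    (ha2 : 1 ≤ a2) :
    (∀ m : ℤ, (hTw G m 1 : ℤ) ≤ a1 * (a1 + 1) * a2 - a0) ∧ a0 ≤ a1 * (a1 + 1) := by
  let β : ℕ := hTw Q (-1) 1
  have hb : a1 = -(β : ℤ) := by
    have h1 := chi_sub a b w hS hG hQ (-1)
    have h2 := chi_eq_two hQ hdQ (-1)
    rw [hQ0 (-1) le_rfl] at h2
    have h3 := hchi (-1)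
    have h4 := hchi (-1 - 1)
    push_cast at h2
    simp only [β]
    linarith
  let f : ℕ → ℤ := fun t => ((β - t : ℕ) : ℤ) * (((β - t : ℕ) : ℤ) - 1)
  have hf : ∀ t : ℕ, f t = f (t + 1) + 2 * ((β - (t + 1) : ℕ) : ℤ) := fun t => by
    rcases Nat.lt_or_ge t β with h | h
    · simp only [f]
      rw [show β - t = (β - (t + 1)) + 1 by omega]
      push_cast
      ring
    · simp only [f]
      rw [show β - t = 0 by omega, show β - (t + 1) = 0 by omega]
      simp
  have hf0 : ∀ t, 0 ≤ f t := fun t => by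
    simp only [f]
    rcases Nat.eq_zero_or_pos (β - t) with h | h
    · rw [h]; simp
    · exact mul_nonneg (by positivity) (by omega)
  have hf00 : f 0 = a1 * (a1 + 1) := by
    simp only [f, hb, Nat.sub_zero]
    ring
  have hq : ∀ t : ℕ, (hTw Q (-1 + ((t + 1 : ℕ) : ℤ)) 1 : ℤ) ≤ ((β - (t + 1) : ℕ) : ℤ) :=
    fun t => by exact_mod_cast h1_drop hQ hdQ (t + 1)
  -- `h²`
  obtain ⟨d₀, hd₀⟩ := serre_vanishing G hG
  have hg2 : ∀ c : ℕ, ∀ t : ℕ, d₀ ≤ -1 + (t : ℤ) + c → 2 * (hTw G (-1 + t) 2 : ℤ) ≤ f t := by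
    intro c
    induction c with
    | zero =>
      intro t ht
      haveI := hd₀ (-1 + t) (by simpa using ht) 2 (by omega)
      rw [show hTw G (-1 + t) 2 = 0 from Module.finrank_zero_of_subsingleton]
      simpa using hf0 t
    | succ c ih =>
      intro t ht
      have h1 := ih (t + 1) (by push_cast at ht ⊢; omega)
      have h2 := h2_le a b w hS hG hQ (-1 + ((t + 1 : ℕ) : ℤ))
      rw [show -1 + ((t + 1 : ℕ) : ℤ) - 1 = -1 + (t : ℤ) by push_cast; ring] at h2
      have h3 := hq t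
      rw [hf t]
      omega
  have hh2 : 2 * (hTw G (-1) 2 : ℤ) ≤ a1 * (a1 + 1) := by
    have h := hg2 (d₀ + 1).toNat 0 (by omega)
    rw [hf00] at h
    simpa using h
  have hnn : 0 ≤ a1 * (a1 + 1) := hf00 ▸ hf0 0
  have ha0 : a0 = (hTw G (-1) 2 : ℤ) - hTw G (-1) 1 := by
    have h1 := chi_eq_three hG hdG (-1)
    rw [hG0] at h1
    have h2 := hchi (-1)
    norm_num at h2
    omega
  refine ⟨fun m => ?_, by omega⟩
  have hmul : a1 * (a1 + 1) ≤ a1 * (a1 + 1) * a2 := le_mul_of_one_le_right hnn ha2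
  rcases lt_or_ge m (-1) with hm | hm
  · have key : ∀ c : ℕ, hTw G (-1 - c) 1 ≤ hTw G (-1) 1 := by
      intro c
      induction c with
      | zero => simp
      | succ c ih =>
        have h := h1_pred_le a b w hS hG hQ (-1 - (c : ℤ))
        rw [hQ0 _ (by omega)] at h
        rw [show -1 - ((c + 1 : ℕ) : ℤ) = -1 - (c : ℤ) - 1 by push_cast; ring]
        omega
    have h := key (-1 - m).toNat
    rw [show -1 - (((-1 - m).toNat : ℕ) : ℤ) = m by omega] at h
    omega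
  · have key : ∀ t : ℕ, 2 * (hTw G (-1 + t) 1 : ℤ) + f t ≤ 2 * (hTw G (-1) 1 : ℤ) + f 0 := by
      intro t
      induction t with
      | zero => simp
      | succ t ih =>
        have h2 := h1_le_pred a b w hS hG hQ (-1 + ((t + 1 : ℕ) : ℤ))
        rw [show -1 + ((t + 1 : ℕ) : ℤ) - 1 = -1 + (t : ℤ) by push_cast; ring] at h2
        have h3 := hq t
        rw [hf t] at ih
        omega
    have h := key (m + 1).toNat
    rw [show -1 + (((m + 1).toNat : ℕ) : ℤ) = m by omega, hf00] at h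
    have := hf0 (m + 1).toNat
    omega

end

end Groth.Agent.NumTriv.SurfH1
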