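import Groth.Agent.NumTriv.SurfH1Main
import Groth.Agent.EulerFam.IntBound
import Groth.Agent.PicLaw.Swap

/-!
# The lower bound for the constant coefficient on a surface
-/

set_option autoImplicit false

universe u

open CategoryTheory CategoryTheory.Limits AlgebraicGeometry

set_option linter.style.haveILetI false

noncomputable section

namespace Groth.Agent.NumTriv.SurfLower

open ProjTwist NefPos

variable {k : Type u} [Field k] {X : Scheme.{u}} [X.Over (Spec (CommRingCat.of k))]
  [IsProper (X ↘ Spec (CommRingCat.of k))]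

variable (k) in
/-- `(A · B)` on a surface. -/
abbrev pair (A B : X.Modules) : ℤ := iC k [A, B] (Coh.structureModule X)

theorem pair_eq (A B : X.Modules) : pair k A B =
    Curv2.euler k X (CohB1.tensorMod A B) - Curv2.euler k X A - Curv2.euler k X B +
      Curv2.euler k X (Coh.structureModule X) := by
  simp only [pair, iC_cons, iC_nil]
  rw [EulerChar.euler_iso k (tensOne A), EulerChar.euler_iso k (tensOne B),
    EulerChar.euler_iso k (show CohB1.tensorMod B (CohB1.tensorMod A (Coh.structureModule X)) ≅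
      CohB1.tensorMod A B from tensComm B _ ≪≫ tensCongr (tensOne A) (Iso.refl B))]
  ring

/-- `(A' · B) = -(A · B)` for inverse `A'`. -/
theorem pair_inv (hd : topologicalKrullDim X ≤ ((2 : ℕ) : WithBot ℕ∞)) {A A' B : X.Modules}
    (hA : PicF.IsInvertible A) (hA' : PicF.IsInvertible A') (hB : PicF.IsInvertible B)
    (e : CohB1.tensorMod A A' ≅ Coh.structureModule X) : pair k A' B = - pair k A B := by
  haveI := EulerChar.isNoetherian k (X := X)
  have h := iC_mul k (l := [B]) (by simpa using hB) hA hA' (ProperFin.isCoh_structureModule X)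
    (EulerChar.dim_support_le hd)
  rw [iC_congr k e] at h
  have h0 : iC k [Coh.structureModule X, B] (Coh.structureModule X) = 0 := by
    rw [iC_cons, iC_iso k _ (oneTens _), sub_self]
  rw [h0] at h
  show iC k [A', B] _ = - iC k [A, B] _
  omega

variable {n : ℕ} (i : X ⟶ CohB1.ProjSpace n k) [IsClosedImmersion i]

/-- `χ` of the twists of the inverse. -/
theorem euler_inv_twist (hd : topologicalKrullDim X ≤ ((2 : ℕ) : WithBot ℕ∞)) {L L' : X.Modules}
    (hL : PicF.IsInvertible L) (hL' : PicF.IsInvertible L')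
    (e : CohB1.tensorMod L L' ≅ Coh.structureModule X) (t : ℤ) :
    Curv2.euler k X (Pic13.twistOn k i L' t) =
      pair k L L + 2 * Curv2.euler k X (oX i t) - Curv2.euler k X (Pic13.twistOn k i L t) := by
  have h1 := pair_inv (k := k) hd hL hL' (isInvertible_oX i t) e
  have h2 : pair k L' L = - pair k L L := pair_inv hd hL hL' hL e
  rw [pair_eq, pair_eq] at h1
  rw [pair_eq, EulerChar.euler_iso k (tensComm L' L ≪≫ e)] at h2
  show Curv2.euler k X (CohB1.tensorMod L' (oX i t)) = _ - Curv2.euler k X (CohB1.tensorMod L (oX i t))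
  omega

set_option maxHeartbeats 800000 in
/-- The lower bound. -/
theorem lower [IsAlgClosed k] [IsIntegral X]
    (hi : i ≫ CohB1.ProjSpace.toSpec n k = X ↘ Spec (CommRingCat.of k))
    (hdim : topologicalKrullDim X = ((2 : ℕ) : WithBot ℕ∞)) (L L' : X.Modules) (hL : PicF.IsInvertible L)
    (hLL' : Nonempty (CohB1.tensorMod L L' ≅ Coh.structureModule X)) (δ : ℤ)
    (hδ : FGA.intNum k X 2 (Matrix.vecCons L' (fun _ : Fin 1 => ((Scheme.Modules.pullback i).obj (Twist.twistProjSpace n k (-1))))) (Coh.structureModule X) = δ)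
    (hδ0 : δ ≤ 0) (a : Fin 3 → ℤ)
    (ha : ∀ m : ℕ, FGA.eulerCharLE k X (Pic13.twistOn k i L m) 2 = ∑ j : Fin 3, a j * ((m + j).choose j : ℤ))
    (e : Fin 3 → ℤ)
    (he : ∀ m : ℕ, FGA.eulerCharLE k X (Pic13.twistOn k i (Coh.structureModule X) m) 2 = ∑ j : Fin 3, e j * ((m + j).choose j : ℤ)) :
    FGA.intNum k X 2 (Matrix.vecCons L' (fun _ : Fin 1 => L')) (Coh.structureModule X) + 2 * e 0 +
        (2 * e 1 - a 1) * δ + (2 * e 2 - a 2) * (δ * (δ + 1) / 2) -
        (δ * (e 2 - 1) + e 1) * (δ * (e 2 - 1) + e 1 + 1) ≤ a 0 := by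
  haveI := EulerChar.isNoetherian k (X := X)
  obtain ⟨eL⟩ := hLL'
  have hd := hdim.le
  have hO := LFFrame.isInvertible_structureModule X
  have hOc := ProperFin.isCoh_structureModule X
  have hL' : PicF.IsInvertible L' :=
    PicLaw.isInvertible_of_tensor_left hL (PicCl.isInvertible_of_iso eL.symm hO)
  have qL := SurfH1.euler_quad i hd (BigVol.isCoh_of_isInvertible hL) a
    (fun m => by rw [← ha m, Snapper.eulerCharLE_eq k hd])
  have qO0 := SurfH1.euler_quad i hd hOc e (fun m => by rw [← he m, Snapper.eulerCharLE_eq k hd])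
  have qO : ∀ t : ℤ, 2 * Curv2.euler k X (oX i t) =
      e 2 * ((t + 2) * (t + 1)) + 2 * e 1 * (t + 1) + 2 * e 0 := fun t => by
    rw [← EulerChar.euler_iso k (oneTens (oX i t))]; exact qO0 t
  obtain ⟨hae, hpow, hdiff⟩ := Groth.Agent.S5644.result k n X i hi 1 hdim L L' hL ⟨eL⟩ a e ha he
  have hae : a 2 = e 2 := hae
  have hdiff : a 1 - e 1 = δ := hdiff.trans hδ
  obtain ⟨em⟩ := nonempty_oX_add i 1 (-1) 0 (by norm_num)
  obtain ⟨ez⟩ := nonempty_oX_zero i
  have he2 : 1 ≤ e 2 := by
    have h : a 2 = Snapper.intE k (fun _ : Fin 2 => oX i (-1)) (Coh.structureModule X) := by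
      rw [← Snapper.intNum_eq k hd]; exact hpow
    have hp : 0 < Snapper.intE k (fun _ : Fin 2 => oX i (-1)) (Coh.structureModule X) :=
      IntProd70.intE_pos k (L := fun _ : Fin 2 => oX i 1) (fun _ => isAmple_oX_one i)
        (fun _ => ⟨em ≪≫ ez⟩) hOc (NefPos.dim_support_structure hdim)
    omega
  -- the self-intersection
  have hsq : FGA.intNum k X 2 (Matrix.vecCons L' (fun _ : Fin 1 => L')) (Coh.structureModule X) = pair k L L := by
    have hM : ∀ j, PicF.IsInvertible ((Fin.cons L' (fun _ : Fin 1 => L') : Fin 2 → X.Modules) j) :=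
      Fin.cases hL' fun _ => hL'
    have hM1 : ∀ j : Fin 1, PicF.IsInvertible ((fun _ => L') j : X.Modules) := fun _ => hL'
    have hM0 : ∀ j : Fin 0, PicF.IsInvertible (Fin.elim0 (α := X.Modules) j) := fun j => j.elim0
    have hLO : Coh.IsCoh (CohB1.tensorMod L (Coh.structureModule X)) :=
      Snapper.isCoh_tensorMod k hL hOc
    rw [Snapper.intNum_eq k hd]
    have s1 := EulerFam.intE_twist_top (k := k) hM hL hOc (EulerChar.dim_support_le hd)
    have s2 := EulerFam.intE_twist_top (k := k) hM hL hLO (EulerChar.dim_support_le hd)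
    have h1 : (fun _ : Fin 1 => L') = (Fin.cons L' (Fin.elim0 (α := X.Modules)) : Fin 1 → X.Modules) :=
      funext fun j => by fin_cases j; rfl
    refine ((s2.trans s1).symm.trans (EulerFam.intE_cons_shift (k := k) hM1 hL hL' eL hLO)).trans ?_
    rw [h1, EulerFam.intE_cons_shift (k := k) hM0 hL hL' eL hLO,
      EulerFam.intE_cons_shift (k := k) hM0 hL hL' eL hOc, Snapper.intE_zero, Snapper.intE_zero,
      Snapper.intE_zero, pair_eq,
      EulerChar.euler_iso k (tensCongr (Iso.refl L) (tensOne L)), EulerChar.euler_iso k (tensOne L)]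
    ring
  -- the auxiliary module `L'(δ)`
  let M := Pic13.twistOn k i L' δ
  have hMi : PicF.IsInvertible M := AmpleLib.isInvertible_tensorMod hL' (isInvertible_oX i δ)
  obtain ⟨M', -, ⟨eM⟩⟩ := PicLaw.exists_inverse hMi
  obtain ⟨c, hc⟩ := SurfH1.exists_coeff i hd (BigVol.isCoh_of_isInvertible hMi)
  have hc' : ∀ m : ℕ, FGA.eulerCharLE k X (Pic13.twistOn k i M m) 2 =
      ∑ j : Fin 3, c j * ((m + j).choose j : ℤ) := fun m => by rw [Snapper.eulerCharLE_eq k hd, hc m]
  have qM := SurfH1.euler_quad i hd (BigVol.isCoh_of_isInvertible hMi) c hc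
  have key : ∀ t : ℤ, 2 * Curv2.euler k X (Pic13.twistOn k i M t) = 2 * pair k L L +
      2 * (e 2 * ((δ + t + 2) * (δ + t + 1)) + 2 * e 1 * (δ + t + 1) + 2 * e 0) -
      (a 2 * ((δ + t + 2) * (δ + t + 1)) + 2 * a 1 * (δ + t + 1) + 2 * a 0) := fun t => by
    obtain ⟨et⟩ := nonempty_twistTwist i L' δ t (δ + t) rfl
    rw [EulerChar.euler_iso k et, euler_inv_twist i hd hL hL' eL]
    linarith [qL (δ + t), qO (δ + t)]
  have k0 := (qM (-1)).symm.trans (key (-1))
  have k1 := (qM 0).symm.trans (key 0)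
  obtain ⟨hce, -, hcd⟩ := Groth.Agent.S5644.result k n X i hi 1 hdim M M' hMi ⟨eM⟩ c e hc' he
  have hce : c 2 = e 2 := hce
  have hcd : c 1 - e 1 = FGA.intNum k X 2 (Matrix.vecCons M' (fun _ : Fin 1 =>
      ((Scheme.Modules.pullback i).obj (Twist.twistProjSpace n k (-1))))) (Coh.structureModule X) := hcd
  have hc1 : c 1 = δ * (e 2 - 1) + e 1 := by
    rw [hce, hae, show a 1 = e 1 + δ by omega] at k0 k1
    linarith
  have hdeg : FGA.intNum k X 2 (Matrix.vecCons M' (fun _ : Fin 1 =>
      ((Scheme.Modules.pullback i).obj (Twist.twistProjSpace n k (-1))))) (Coh.structureModule X) ≤ 0 := by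
    rw [← hcd, hc1]
    have := mul_nonpos_of_nonpos_of_nonneg hδ0 (by omega : 0 ≤ e 2 - 1)
    omega
  have hb := (SurfH1.surface i hi hdim M M' hMi ⟨eM⟩ hdeg c hc').2
  rw [hc1] at hb
  obtain ⟨w, hw⟩ := even_iff_two_dvd.1 (Int.even_mul_succ_self δ)
  rw [hw, Int.mul_ediv_cancel_left w two_ne_zero, hsq]
  rw [hce] at k0
  have h : 2 * c 0 = 2 * pair k L L + 4 * e 0 + 2 * ((2 * e 1 - a 1) * δ) + 2 * ((2 * e 2 - a 2) * w) -
      2 * a 0 := by linear_combination k0 + (2 * e 2 - a 2) * hw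
  linarith

end Groth.Agent.NumTriv.SurfLower
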