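import Groth.Agent.NumTriv.TauFibre
import Groth.Agent.IntProd70.Family
import Groth.Agent.BigVol.FieldPoint
import Groth.Agent.S19202
import Groth.Agent.FlatMisc.ValuationRed

/-!
# Numerical triviality passes to the generic fibre over a discrete valuation ring
-/

set_option autoImplicit false

universe u

open CategoryTheory CategoryTheory.Limits AlgebraicGeometry TopologicalSpace

set_option linter.style.haveILetI false

noncomputable section

namespace Groth.Agent.NumTriv.TauFibre

open ProjTwist

set_option maxHeartbeats 1000000 in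
/-- Over a DVR: numerically trivial on the special fibre implies so on the generic one. -/
theorem numAt_generic {R : Type u} [CommRing R] [IsDomain R] [IsDiscreteValuationRing R] {X : Scheme.{u}}
    (f : X ⟶ Spec (CommRingCat.of R)) [IsProper f] {L : X.Modules} (hL : PicF.IsInvertible L)
    (h : NumAt f L ((Spec (CommRingCat.of R)).fromSpecResidueField (IsLocalRing.closedPoint R))) :
    NumAt f L (Spec.map (CommRingCat.ofHom (algebraMap R (FractionRing R)))) := by
  classical
  let S := Spec (CommRingCat.of R)
  let K := FractionRing R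
  let g0 : Spec (CommRingCat.of K) ⟶ S := Spec.map (CommRingCat.ofHom (algebraMap R K))
  haveI : IsPreimmersion g0 := IsPreimmersion.of_isLocalization (R := R) (nonZeroDivisors R)
  haveI : Flat g0 := Flat.SpecMap_iff.2
    (RingHom.flat_algebraMap_iff.2 (IsLocalization.flat K (nonZeroDivisors R)))
  haveI : IsLocallyNoetherian X := LocallyOfFiniteType.isLocallyNoetherian f
  intro Y ι _ hY hdim
  haveI := hY
  let qY : Y ⟶ Spec (CommRingCat.of K) := ι ≫ pullback.snd f g0
  letI : Y.Over (Spec (CommRingCat.of K)) := ⟨qY⟩
  haveI : IsProper (Y ↘ Spec (CommRingCat.of K)) := inferInstanceAs (IsProper (ι ≫ pullback.snd f g0))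
  let φ : Y ⟶ X := ι ≫ pullback.fst f g0
  haveI : QuasiCompact φ := inferInstance
  let C : Closeds X := ⟨closure (Set.range φ), isClosed_closure⟩
  haveI : IsReduced φ.image := by
    have e : φ.ker = Scheme.IdealSheafData.vanishingIdeal C :=
      le_antisymm (RedSub.ker_le_vanishingIdeal φ C le_rfl) (RedSub.vanishingIdeal_le_ker φ C subset_closure)
    show IsReduced φ.ker.subscheme
    rw [e]
    infer_instance
  haveI : Flat qY := inferInstance
  haveI : Flat (φ ≫ f) := by
    rw [show φ ≫ f = qY ≫ g0 by simp only [φ, qY, Category.assoc, pullback.condition]]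
    infer_instance
  let h' : φ.image ⟶ S := φ.imageι ≫ f
  haveI : Flat h' := S19202.result R (φ ≫ f) f φ rfl
  haveI : IsProper h' := inferInstanceAs (IsProper (φ.imageι ≫ f))
  haveI : IsLocallyNoetherian φ.image := LocallyOfFiniteType.isLocallyNoetherian h'
  haveI : LocallyOfFinitePresentation h' := inferInstance
  let M := (Scheme.Modules.pullback φ.imageι).obj L
  have hM : PicF.IsInvertible M := PicCl.isInvertible_pullback _ hL
  let O := Coh.structureModule φ.image
  haveI hqO : O.IsQuasicoherent := ProjTwist.isQuasicoherent_structureModule φ.image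
  obtain ⟨hq1, hfp1⟩ := IntProd70.isFP_tensor (IntProd70.isFP_unit φ.image) hM
  haveI := hq1
  have hl1 := IntProd70.isLocallyConstant_euler (f := h') hfp1
    (TwistFlat.isFlatOver_tensor h' O hM (IntProd70.isFlatOver_unit h'))
  have hl0 := IntProd70.isLocallyConstant_euler (f := h') (IntProd70.isFP_unit φ.image)
    (IntProd70.isFlatOver_unit h')
  haveI : Coh.IsQCoh (CohB1.tensorMod O M) := hq1
  haveI : Coh.IsQCoh O := hqO
  have hc1 : Coh.IsCoh (CohB1.tensorMod O M) := ConsPairLib.isCoh_of_isFP _ hfp1
  have hc0 : Coh.IsCoh O := ProperFin.isCoh_structureModule _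
  let c := IsLocalRing.closedPoint R
  obtain ⟨z⟩ : Nonempty (Spec (CommRingCat.of K)) := inferInstance
  -- generic fibre of the image
  let w : Y ⟶ pullback h' g0 := pullback.lift φ.toImage qY (by
    simp only [h', φ, qY, Scheme.Hom.toImage_imageι_assoc, Category.assoc, pullback.condition])
  let m : pullback h' g0 ⟶ pullback f g0 :=
    pullback.map h' g0 f g0 φ.imageι (𝟙 _) (𝟙 _) (by simp [h']) (by simp)
  have hwm : w ≫ m = ι := by
    refine pullback.hom_ext ?_ ?_
    · rw [Category.assoc, pullback.lift_fst, pullback.lift_fst_assoc, Scheme.Hom.toImage_imageι]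
    · rw [Category.assoc, pullback.lift_snd, Category.comp_id, pullback.lift_snd]
  have hsq : IsPullback (pullback.fst h' g0) m φ.imageι (pullback.fst f g0) :=
    IsPullback.of_bot (t := IsPullback.of_hasPullback f g0)
      (by rw [show m ≫ pullback.snd f g0 = pullback.snd h' g0 from
            (pullback.lift_snd _ _ _).trans (Category.comp_id _)]
          exact IsPullback.of_hasPullback h' g0) (pullback.lift_fst _ _ _).symm
  haveI : IsClosedImmersion m := MorphismProperty.of_isPullback (P := @IsClosedImmersion) hsq inferInstance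
  haveI : IsClosedImmersion w := by
    haveI : IsClosedImmersion (w ≫ m) := hwm ▸ inferInstance
    exact IsClosedImmersion.of_comp w m
  haveI : IsPreimmersion (pullback.fst f g0) := MorphismProperty.pullback_fst _ _ ‹_›
  haveI : IsPreimmersion (pullback.fst h' g0) := MorphismProperty.pullback_fst _ _ ‹_›
  haveI : Flat (pullback.fst h' g0) := MorphismProperty.pullback_fst _ _ ‹_›
  haveI : IsReduced (pullback h' g0) :=
    FlatMisc.ValuationRed.isReduced_of_flat_preimmersion (pullback.fst h' g0)
  haveI : Surjective w := by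
    refine ⟨fun y => ?_⟩
    have hy : pullback.fst f g0 (m y) ∈ closure (Set.range φ) := by
      rw [← Scheme.Hom.comp_apply, ← hsq.w, Scheme.Hom.comp_apply]
      exact (φ.ker.range_subschemeι.trans φ.support_ker).le ⟨_, rfl⟩
    rw [show Set.range φ = pullback.fst f g0 '' Set.range ι by
      rw [← Set.range_comp]; rfl] at hy
    have hy' : m y ∈ Set.range ι := by
      have h2 := (pullback.fst f g0).isEmbedding.isInducing.closure_eq_preimage_closure_image (Set.range ι)
      rw [ι.isClosedEmbedding.isClosed_range.closure_eq] at h2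
      rw [h2]
      exact hy
    obtain ⟨y', hy'⟩ := hy'
    refine ⟨y', m.isClosedEmbedding.injective ?_⟩
    rw [← Scheme.Hom.comp_apply, hwm, hy']
  haveI : IsIso w := isIso_of_isClosedImmersion_of_surjective w
  have hK : IsPullback φ.toImage qY h' g0 :=
    IsPullback.of_iso_pullback ⟨by
      simp only [h', φ, qY, Scheme.Hom.toImage_imageι_assoc, Category.assoc, pullback.condition]⟩
      (asIso w) (pullback.lift_fst _ _ _) (pullback.lift_snd _ _ _)
  have eK : ∀ G : φ.image.Modules, Coh.IsCoh G → Curv2.euler K Y ((Scheme.Modules.pullback φ.toImage).obj G) =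
      @Curv2.euler (S.residueField (g0 z)) _ (h'.fiber (g0 z)) ⟨h'.fiberToSpecResidueField (g0 z)⟩
        ((Scheme.Modules.pullback (h'.fiberι (g0 z))).obj G) := fun G hG =>
    BigVol.FieldPoint.euler_fieldPoint (f := h') hG g0 φ.toImage qY hK z
  -- the special fibre
  let gc : Spec (CommRingCat.of (S.residueField c)) ⟶ S := S.fromSpecResidueField c
  letI : (pullback f gc).Over (Spec (CommRingCat.of (S.residueField c))) := ⟨pullback.snd f gc⟩
  haveI : IsProper (pullback f gc ↘ Spec (CommRingCat.of (S.residueField c))) :=
    inferInstanceAs (IsProper (pullback.snd f gc))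
  letI : (h'.fiber c).Over (Spec (CommRingCat.of (S.residueField c))) := ⟨h'.fiberToSpecResidueField c⟩
  haveI : IsProper (h'.fiber c ↘ Spec (CommRingCat.of (S.residueField c))) :=
    inferInstanceAs (IsProper (pullback.snd h' gc))
  let mc : h'.fiber c ⟶ pullback f gc :=
    pullback.map h' gc f gc φ.imageι (𝟙 _) (𝟙 _) (by simp [h']) (by simp)
  have hmc : mc ≫ pullback.fst f gc = h'.fiberι c ≫ φ.imageι := pullback.lift_fst _ _ _
  have hN := num1_pullback (k := S.residueField c) mc
    ((pullback.lift_snd _ _ _).trans (Category.comp_id _))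
    (num1_of_isNumEquivZero (k := S.residueField c) (PicCl.isInvertible_pullback _ hL) h)
  have hN' : Num1 (S.residueField c) ((Scheme.Modules.pullback (h'.fiberι c)).obj M) :=
    num1_of_iso ((Scheme.Modules.pullbackComp mc (pullback.fst f gc)).app L ≪≫
      (Scheme.Modules.pullbackCongr hmc).app L ≪≫
      ((Scheme.Modules.pullbackComp (h'.fiberι c) φ.imageι).app L).symm) hN
  have hc : Curv2.euler (S.residueField c) (h'.fiber c)
        ((Scheme.Modules.pullback (h'.fiberι c)).obj (CohB1.tensorMod O M)) =
      Curv2.euler (S.residueField c) (h'.fiber c) ((Scheme.Modules.pullback (h'.fiberι c)).obj O) := by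
    exact (EulerChar.euler_iso (S.residueField c) (KFlat.PullTensor.pullTensorIso (h'.fiberι c) O M)).trans
      (AnyField.euler_tens_eq' (ZClosLib.CohDescent.isCoh_pullback (h'.fiberι c) O hc0) hN')
  -- conclude
  have hg : (genericPoint S) ⤳ c := genericPoint_specializes c
  have e1 := hl1.apply_eq_of_isPreconnected (isPreconnected_univ (α := S)) (Set.mem_univ (g0 z)) (Set.mem_univ c)
  have e0 := hl0.apply_eq_of_isPreconnected (isPreconnected_univ (α := S)) (Set.mem_univ (g0 z)) (Set.mem_univ c)
  have key : Curv2.euler K Y ((Scheme.Modules.pullback φ.toImage).obj (CohB1.tensorMod O M)) =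
      Curv2.euler K Y ((Scheme.Modules.pullback φ.toImage).obj O) := by
    rw [eK _ hc1, eK _ hc0]
    exact e1.trans (hc.trans e0.symm)
  have hd : topologicalKrullDim Y ≤ (1 : ℕ) := by rw [hdim]; rfl
  refine sub_eq_zero.2 ((Snapper.eulerCharLE_eq K hd _).trans
    (Eq.trans ?_ (Snapper.eulerCharLE_eq K hd _).symm))
  have eL : (Scheme.Modules.pullback φ.toImage).obj (CohB1.tensorMod O M) ≅
      (Scheme.Modules.pullback ι).obj ((Scheme.Modules.pullback (pullback.fst f g0)).obj L) :=
    (Scheme.Modules.pullback φ.toImage).mapIso (oneTens M) ≪≫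
      (Scheme.Modules.pullbackComp φ.toImage φ.imageι).app L ≪≫
      (Scheme.Modules.pullbackCongr φ.toImage_imageι).app L ≪≫
      ((Scheme.Modules.pullbackComp ι (pullback.fst f g0)).app L).symm
  exact ((EulerChar.euler_iso K eL).symm.trans key).trans (EulerChar.euler_iso K (QCoh.pullbackUnitIso _))

end Groth.Agent.NumTriv.TauFibre
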