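import Groth.Agent.NumTriv.ChiCrit
import Groth.Agent.S14811
import Groth.Agent.S4277
import Groth.Agent.S4278
import Groth.Agent.S4294
import Groth.Agent.RedSub.Basic

/-!
# τ-triviality on geometric fibres as numerical triviality on fibres
-/

set_option autoImplicit false

universe u

open CategoryTheory CategoryTheory.Limits AlgebraicGeometry TopologicalSpace

set_option linter.style.haveILetI false

noncomputable section

namespace Groth.Agent.NumTriv.TauFibre

open ProjTwist

/-- Numerical triviality of `L` on the base change to a field point. -/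
def NumAt {X S : Scheme.{u}} (f : X ⟶ S) (L : X.Modules) {K : Type u} [Field K]
    (g : Spec (CommRingCat.of K) ⟶ S) : Prop :=
  @Pic13.IsNumEquivZero K _ (pullback f g) ⟨pullback.snd f g⟩
    ((Scheme.Modules.pullback (pullback.fst f g)).obj L)

section
variable {k : Type u} [Field k] {X Y : Scheme.{u}} [X.Over (Spec (CommRingCat.of k))]
  [Y.Over (Spec (CommRingCat.of k))] [IsProper (X ↘ Spec (CommRingCat.of k))]
  [IsProper (Y ↘ Spec (CommRingCat.of k))]

omit [Y.Over (Spec (CommRingCat.of k))] [IsProper (Y ↘ Spec (CommRingCat.of k))] in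
theorem num1_of_iso {M M' : X.Modules} (e : M ≅ M') (h : Num1 k M) : Num1 k M' :=
  ⟨PicCl.isInvertible_of_iso e h.1, fun F hF hd =>
    (EulerChar.euler_iso k (tensCongr (Iso.refl F) e.symm)).trans (h.2 F hF hd)⟩

/-- Numerical triviality pulls back along any morphism over the field. -/
theorem numEquiv_pullback (g : Y ⟶ X) (hg : g ≫ (X ↘ Spec (CommRingCat.of k)) = Y ↘ Spec (CommRingCat.of k))
    {M : X.Modules} (hM : PicF.IsInvertible M) {N : Y.Modules}
    (e : (Scheme.Modules.pullback g).obj M ≅ N) (h : Pic13.IsNumEquivZero k X M) :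
    Pic13.IsNumEquivZero k Y N :=
  Section.isNumEquivZero_of_num1
    (num1_of_iso e (num1_pullback g hg (num1_of_isNumEquivZero (k := k) hM h)))

omit [Y.Over (Spec (CommRingCat.of k))] [IsProper (Y ↘ Spec (CommRingCat.of k))] in
/-- A numerically trivial module has degree zero on a one dimensional scheme. -/
theorem deg_eq_zero {M : X.Modules} (h : Num1 k M) (hd : topologicalKrullDim X ≤ (1 : ℕ)) :
    Pic13.curveDeg k (X ↘ Spec (CommRingCat.of k)) M = 0 := by
  have hO := ProperFin.isCoh_structureModule X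
  have h1 : Curv2.euler k X M = Curv2.euler k X (Coh.structureModule X) :=
    (EulerChar.euler_iso k (oneTens M).symm).trans
      (h.2 _ hO (EulerChar.dim_support_le hd))
  exact sub_eq_zero.2 ((Snapper.eulerCharLE_eq k hd _).trans
    (h1.trans (Snapper.eulerCharLE_eq k hd _).symm))

end

/-- Numerical triviality respects isomorphisms. -/
theorem numEquiv_iff_of_iso {k : Type u} [Field k] {X : Scheme.{u}} (q : X ⟶ Spec (CommRingCat.of k))
    [IsProper q] {M M' : X.Modules} (hM : PicF.IsInvertible M) (e : M ≅ M') :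
    @Pic13.IsNumEquivZero k _ X ⟨q⟩ M ↔ @Pic13.IsNumEquivZero k _ X ⟨q⟩ M' := by
  letI : X.Over (Spec (CommRingCat.of k)) := ⟨q⟩
  haveI : IsProper (X ↘ Spec (CommRingCat.of k)) := ‹IsProper q›
  exact ⟨fun h => numEquiv_pullback (k := k) (𝟙 X) (Category.id_comp _) hM
      ((Scheme.Modules.pullbackId _).app _ ≪≫ e) h,
    fun h => numEquiv_pullback (k := k) (𝟙 X) (Category.id_comp _) (PicCl.isInvertible_of_iso e hM)
      ((Scheme.Modules.pullbackId _).app _ ≪≫ e.symm) h⟩

variable {X S : Scheme.{u}} (f : X ⟶ S) [IsProper f] {L : X.Modules}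

/-- Comparison with any cartesian square over the field point. -/
theorem numAt_iff_of_isPullback (hL : PicF.IsInvertible L) {K : Type u} [Field K]
    (g : Spec (CommRingCat.of K) ⟶ S) {X' : Scheme.{u}} (p : X' ⟶ X) (q : X' ⟶ Spec (CommRingCat.of K))
    (H : IsPullback p q f g) :
    NumAt f L g ↔ @Pic13.IsNumEquivZero K _ X' ⟨q⟩ ((Scheme.Modules.pullback p).obj L) := by
  letI : X'.Over (Spec (CommRingCat.of K)) := ⟨q⟩
  haveI : IsProper (X' ↘ Spec (CommRingCat.of K)) :=
    MorphismProperty.of_isPullback (P := @IsProper) H ‹IsProper f›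
  letI : (pullback f g).Over (Spec (CommRingCat.of K)) := ⟨pullback.snd f g⟩
  haveI : IsProper (pullback f g ↘ Spec (CommRingCat.of K)) := inferInstanceAs (IsProper (pullback.snd f g))
  let e := H.isoPullback
  constructor
  · exact fun h => numEquiv_pullback (k := K) e.hom H.isoPullback_hom_snd (PicCl.isInvertible_pullback _ hL)
      ((Scheme.Modules.pullbackComp e.hom (pullback.fst f g)).app L ≪≫
        (Scheme.Modules.pullbackCongr H.isoPullback_hom_fst).app L) h
  · exact fun h => numEquiv_pullback (k := K) e.inv H.isoPullback_inv_snd (PicCl.isInvertible_pullback _ hL)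
      ((Scheme.Modules.pullbackComp e.inv p).app L ≪≫
        (Scheme.Modules.pullbackCongr H.isoPullback_inv_fst).app L) h

/-- Extension of the field. -/
theorem numAt_comp_iff (hL : PicF.IsInvertible L) {K K' : Type u} [Field K] [Field K']
    (g : Spec (CommRingCat.of K) ⟶ S) (φ : CommRingCat.of K ⟶ CommRingCat.of K') :
    NumAt f L g ↔ NumAt f L (Spec.map φ ≫ g) := by
  letI : Algebra K K' := φ.hom.toAlgebra
  letI : (pullback f g).Over (Spec (CommRingCat.of K)) := ⟨pullback.snd f g⟩
  haveI : IsProper (pullback f g ↘ Spec (CommRingCat.of K)) := inferInstanceAs (IsProper (pullback.snd f g))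
  refine (S14811.result K (pullback f g) _ (PicCl.isInvertible_pullback _ hL) K').trans ?_
  let p := pullback.fst (pullback f g ↘ Spec (CommRingCat.of K))
    (Spec.map (CommRingCat.ofHom (algebraMap K K')))
  let q := pullback.snd (pullback f g ↘ Spec (CommRingCat.of K))
    (Spec.map (CommRingCat.ofHom (algebraMap K K')))
  letI : (pullback (pullback f g ↘ Spec (CommRingCat.of K))
      (Spec.map (CommRingCat.ofHom (algebraMap K K')))).Over (Spec (CommRingCat.of K')) := ⟨q⟩
  haveI : IsProper (pullback (pullback f g ↘ Spec (CommRingCat.of K))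
      (Spec.map (CommRingCat.ofHom (algebraMap K K'))) ↘ Spec (CommRingCat.of K')) :=
    inferInstanceAs (IsProper (pullback.snd (pullback f g ↘ Spec (CommRingCat.of K))
      (Spec.map (CommRingCat.ofHom (algebraMap K K')))))
  have H : IsPullback (p ≫ pullback.fst f g) q f (Spec.map φ ≫ g) :=
    (IsPullback.of_hasPullback (pullback f g ↘ Spec (CommRingCat.of K))
      (Spec.map (CommRingCat.ofHom (algebraMap K K')))).paste_horiz (IsPullback.of_hasPullback f g)
  refine Iff.trans ?_ (numAt_iff_of_isPullback f hL _ _ _ H).symm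
  constructor
  · exact fun h => numEquiv_pullback (k := _) (𝟙 _) (Category.id_comp _)
      (PicCl.isInvertible_pullback p (PicCl.isInvertible_pullback _ hL))
      ((Scheme.Modules.pullbackId _).app _ ≪≫ (Scheme.Modules.pullbackComp p (pullback.fst f g)).app L) h
  · exact fun h => numEquiv_pullback (k := _) (𝟙 _) (Category.id_comp _)
      (PicCl.isInvertible_pullback _ hL)
      ((Scheme.Modules.pullbackId _).app _ ≪≫ ((Scheme.Modules.pullbackComp p (pullback.fst f g)).app L).symm) h

/-- A field point only matters through its image. -/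
theorem numAt_iff_residue (hL : PicF.IsInvertible L) {K : Type u} [Field K]
    (g : Spec (CommRingCat.of K) ⟶ S) (z : Spec (CommRingCat.of K)) :
    NumAt f L g ↔ NumAt f L (S.fromSpecResidueField (g z)) := by
  obtain ⟨⟨s, φ⟩, rfl⟩ := (Scheme.SpecToEquivOfField K S).symm.surjective g
  have hs : ((Scheme.SpecToEquivOfField K S).symm ⟨s, φ⟩) z = s :=
    S.fromSpecResidueField_apply s (Spec.map φ z)
  rw [hs]
  exact (numAt_comp_iff f hL (S.fromSpecResidueField s) φ).symm

/-- Numerical triviality at field points with the same image. -/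
theorem numAt_congr (hL : PicF.IsInvertible L) {K K' : Type u} [Field K] [Field K']
    (g : Spec (CommRingCat.of K) ⟶ S) (g' : Spec (CommRingCat.of K') ⟶ S)
    (z : Spec (CommRingCat.of K)) (z' : Spec (CommRingCat.of K')) (h : g z = g' z') :
    NumAt f L g ↔ NumAt f L g' := by
  rw [numAt_iff_residue f hL g z, h, ← numAt_iff_residue f hL g' z']

/-- `τ`-equivalence at an algebraically closed point. -/
theorem tau_iff_numAt (hL : PicF.IsInvertible L) {Ω : Type u} [Field Ω] [IsAlgClosed Ω]
    (σ : Spec (CommRingCat.of Ω) ⟶ S) :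
    @Pic13.IsTauEquivZero Ω _ (pullback f σ) ⟨pullback.snd f σ⟩
      ((Scheme.Modules.pullback (pullback.fst f σ)).obj L) ↔ NumAt f L σ := by
  letI : (pullback f σ).Over (Spec (CommRingCat.of Ω)) := ⟨pullback.snd f σ⟩
  haveI : IsProper (pullback f σ ↘ Spec (CommRingCat.of Ω)) := inferInstanceAs (IsProper (pullback.snd f σ))
  exact ⟨fun h => S4278.result Ω _ _ (PicCl.isInvertible_pullback _ hL) h,
    fun h => S4277.result Ω _ _ (PicCl.isInvertible_pullback _ hL) h⟩

/-- The geometric point over a point. -/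
def geomPt (S : Scheme.{u}) (s : S) : Spec (CommRingCat.of (AlgebraicClosure (S.residueField s))) ⟶ S :=
  Spec.map (CommRingCat.ofHom (algebraMap (S.residueField s) (AlgebraicClosure (S.residueField s)))) ≫
    S.fromSpecResidueField s

theorem range_geomPt (S : Scheme.{u}) (s : S) : Set.range (geomPt S s).base = {s} :=
  Set.range_eq_singleton_iff.2 fun _ => S.fromSpecResidueField_apply s _

/-- The locus in question in terms of one field point. -/
theorem mem_iff (hL : PicF.IsInvertible L) (s : S) :
    Pic13.IsTauTrivialAt f L s ↔ NumAt f L (S.fromSpecResidueField s) := by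
  constructor
  · intro h
    exact (numAt_comp_iff f hL (S.fromSpecResidueField s) _).2
      ((tau_iff_numAt f hL (geomPt S s)).1 (h _ _ (range_geomPt S s)))
  · intro h Ω _ _ σ hσ
    refine (tau_iff_numAt f hL σ).2 ?_
    obtain ⟨z⟩ : Nonempty (Spec (CommRingCat.of Ω)) := inferInstance
    have hz : σ z = s := by
      have : σ.base z ∈ Set.range σ.base := ⟨z, rfl⟩
      rw [hσ] at this
      exact this
    rw [numAt_iff_residue f hL σ z, hz]
    exact h

/-- Membership through an arbitrary field point over the point. -/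
theorem mem_iff' (hL : PicF.IsInvertible L) {K : Type u} [Field K] (g : Spec (CommRingCat.of K) ⟶ S)
    (z : Spec (CommRingCat.of K)) : Pic13.IsTauTrivialAt f L (g z) ↔ NumAt f L g :=
  (mem_iff f hL (g z)).trans (numAt_iff_residue f hL g z).symm

/-- Base change. -/
theorem mem_baseChange (hL : PicF.IsInvertible L) {S' : Scheme.{u}} (u : S' ⟶ S) (s' : S') :
    Pic13.IsTauTrivialAt (pullback.snd f u) ((Scheme.Modules.pullback (pullback.fst f u)).obj L) s' ↔
      Pic13.IsTauTrivialAt f L (u s') := by
  have hL' := PicCl.isInvertible_pullback (pullback.fst f u) hL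
  obtain ⟨z⟩ : Nonempty (Spec (CommRingCat.of (S'.residueField s'))) := inferInstance
  let g := S'.fromSpecResidueField s'
  have hg : g z = s' := S'.fromSpecResidueField_apply s' z
  have hgu : (g ≫ u) z = u s' := by rw [Scheme.Hom.comp_apply, hg]
  refine (mem_iff _ hL' s').trans ?_
  rw [← hgu]
  refine Iff.trans ?_ (mem_iff' f hL _ z).symm
  have H : IsPullback (pullback.fst (pullback.snd f u) g ≫ pullback.fst f u)
      (pullback.snd (pullback.snd f u) g) f (g ≫ u) :=
    (IsPullback.of_hasPullback _ _).paste_horiz (IsPullback.of_hasPullback f u)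
  refine Iff.trans ?_ (numAt_iff_of_isPullback f hL _ _ _ H).symm
  haveI : IsProper (pullback.snd f u) := inferInstance
  haveI : IsProper (pullback.snd (pullback.snd f u) g) := MorphismProperty.pullback_snd _ _ ‹IsProper (pullback.snd f u)›
  exact @numEquiv_iff_of_iso (S'.residueField s') _ _ (pullback.snd (pullback.snd f u) g)
    (by exact ‹IsProper (pullback.snd (pullback.snd f u) g)›) _ _ (PicCl.isInvertible_pullback _ hL')
    ((Scheme.Modules.pullbackComp _ (pullback.fst f u)).app L)

/-- Descent along a surjective proper morphism. -/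
theorem mem_of_surjective (hL : PicF.IsInvertible L) {X' : Scheme.{u}} (π : X' ⟶ X) [IsProper π]
    [Surjective π] (s : S) :
    Pic13.IsTauTrivialAt (π ≫ f) ((Scheme.Modules.pullback π).obj L) s ↔ Pic13.IsTauTrivialAt f L s := by
  refine forall_congr' fun Ω => forall_congr' fun hF => forall_congr' fun hA =>
    forall_congr' fun σ => forall_congr' fun _ => ?_
  letI : (pullback f σ).Over (Spec (CommRingCat.of Ω)) := ⟨pullback.snd f σ⟩
  letI : (pullback (π ≫ f) σ).Over (Spec (CommRingCat.of Ω)) := ⟨pullback.snd (π ≫ f) σ⟩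
  haveI : IsProper (pullback f σ ↘ Spec (CommRingCat.of Ω)) := inferInstanceAs (IsProper (pullback.snd f σ))
  haveI : IsProper (pullback (π ≫ f) σ ↘ Spec (CommRingCat.of Ω)) :=
    inferInstanceAs (IsProper (pullback.snd (π ≫ f) σ))
  let w : pullback (π ≫ f) σ ⟶ pullback f σ :=
    pullback.map (π ≫ f) σ f σ π (𝟙 _) (𝟙 _) (by simp) (by simp)
  have hw₁ : w ≫ pullback.fst f σ = pullback.fst (π ≫ f) σ ≫ π := pullback.lift_fst _ _ _
  have hw₂ : w ≫ pullback.snd f σ = pullback.snd (π ≫ f) σ :=
    (pullback.lift_snd _ _ _).trans (Category.comp_id _)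
  haveI : Surjective w := MorphismProperty.of_isPullback (P := @Surjective)
    (IsPullback.of_bot (t := IsPullback.of_hasPullback f σ)
      (by rw [hw₂]; exact IsPullback.of_hasPullback (π ≫ f) σ) hw₁.symm :
      IsPullback (pullback.fst (π ≫ f) σ) w π (pullback.fst f σ)) ‹Surjective π›
  let e : (Scheme.Modules.pullback w).obj ((Scheme.Modules.pullback (pullback.fst f σ)).obj L) ≅
      (Scheme.Modules.pullback (pullback.fst (π ≫ f) σ)).obj ((Scheme.Modules.pullback π).obj L) :=
    (Scheme.Modules.pullbackComp w (pullback.fst f σ)).app L ≪≫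
      (Scheme.Modules.pullbackCongr hw₁).app L ≪≫
      ((Scheme.Modules.pullbackComp (pullback.fst (π ≫ f) σ) π).app L).symm
  have hiso : ∀ {M M' : (pullback (π ≫ f) σ).Modules}, (M ≅ M') →
      Pic13.IsTauEquivZero Ω _ M → Pic13.IsTauEquivZero Ω _ M' := by
    rintro M M' e' ⟨n, hn, halg⟩
    exact ⟨n, hn, EulerFam.isAlgEquivZero_of_iso (AmpleLib.tensorPowIso e' n) halg⟩
  exact ⟨fun h => S4294.result Ω _ _ w hw₂ _ (PicCl.isInvertible_pullback _ hL) (hiso e.symm h),
    fun h => hiso e (EulerFam.isTauEquivZero_pullback (k := Ω) w hw₂ h)⟩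

/-- A curve sits in one member of a finite closed cover. -/
theorem numAt_of_cover {ι : Type*} [Finite ι] {Z : ι → Scheme.{u}} (j : ∀ i, Z i ⟶ X)
    [∀ i, IsClosedImmersion (j i)] (hcov : ∀ x : X, ∃ i, x ∈ Set.range (j i))
    (hL : PicF.IsInvertible L) {K : Type u} [Field K] (g : Spec (CommRingCat.of K) ⟶ S)
    (h : ∀ i, NumAt (j i ≫ f) ((Scheme.Modules.pullback (j i)).obj L) g) : NumAt f L g := by
  letI : (pullback f g).Over (Spec (CommRingCat.of K)) := ⟨pullback.snd f g⟩
  haveI : IsProper (pullback f g ↘ Spec (CommRingCat.of K)) := inferInstanceAs (IsProper (pullback.snd f g))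
  intro Y ι' _ hY hdim
  haveI := hY
  let pY : Y ⟶ X := ι' ≫ pullback.fst f g
  obtain ⟨i, hi⟩ : ∃ i, Set.range pY ⊆ Set.range (j i) := by
    obtain ⟨i, hi⟩ := hcov (pY (genericPoint Y))
    refine ⟨i, ?_⟩
    rintro _ ⟨y, rfl⟩
    exact ((genericPoint_specializes y).map pY.continuous).mem_closed
      (j i).isClosedEmbedding.isClosed_range hi
  obtain ⟨a, ha⟩ := RedSub.exists_lift_closed (j i) pY hi
  letI : (pullback (j i ≫ f) g).Over (Spec (CommRingCat.of K)) := ⟨pullback.snd (j i ≫ f) g⟩
  haveI : IsProper (pullback (j i ≫ f) g ↘ Spec (CommRingCat.of K)) :=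
    inferInstanceAs (IsProper (pullback.snd (j i ≫ f) g))
  letI : Y.Over (Spec (CommRingCat.of K)) := ⟨ι' ≫ (pullback f g ↘ Spec (CommRingCat.of K))⟩
  haveI : IsProper (Y ↘ Spec (CommRingCat.of K)) :=
    inferInstanceAs (IsProper (ι' ≫ (pullback f g ↘ Spec (CommRingCat.of K))))
  let b : Y ⟶ pullback (j i ≫ f) g := pullback.lift a (ι' ≫ pullback.snd f g) (by
    rw [← Category.assoc, ha, Category.assoc, pullback.condition, Category.assoc])
  have hb₁ : b ≫ pullback.fst (j i ≫ f) g = a := pullback.lift_fst _ _ _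
  have hN := num1_pullback b (pullback.lift_snd _ _ _)
    (num1_of_isNumEquivZero (k := K) (PicCl.isInvertible_pullback _ (PicCl.isInvertible_pullback _ hL)) (h i))
  refine deg_eq_zero (k := K) (num1_of_iso ?_ hN) (by rw [hdim]; rfl)
  exact (Scheme.Modules.pullbackComp b (pullback.fst (j i ≫ f) g)).app _ ≪≫
    (Scheme.Modules.pullbackComp _ (j i)).app L ≪≫
    (Scheme.Modules.pullbackCongr (show (b ≫ pullback.fst (j i ≫ f) g) ≫ j i = ι' ≫ pullback.fst f g by
      rw [hb₁]; exact ha)).app L ≪≫
    ((Scheme.Modules.pullbackComp ι' (pullback.fst f g)).app L).symm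

end Groth.Agent.NumTriv.TauFibre
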