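import Groth.Agent.NumTriv.TauDVR
import Groth.Agent.S4301
import Groth.Agent.S5641
import Groth.Agent.Chow.Main
import Groth.Agent.FlatMor.AmpleBase
import Groth.Agent.RatMapExt.Valuative

/-!
# Openness of the τ-trivial locus
-/

set_option autoImplicit false

universe u

open CategoryTheory CategoryTheory.Limits AlgebraicGeometry TopologicalSpace

set_option linter.style.haveILetI false

noncomputable section

namespace Groth.Agent.NumTriv.TauFibre

open ProjTwist

/-- A set in a Noetherian space is open when its trace on each irreducible closed set it meets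
contains a nonempty open of that set. -/
theorem isOpen_of_forall_irreducible {α : Type u} [TopologicalSpace α] [NoetherianSpace α] (T : Set α)
    (h : ∀ Z : Set α, IsClosed Z → IsIrreducible Z → (T ∩ Z).Nonempty →
      ∃ O : Set α, IsOpen O ∧ (O ∩ Z).Nonempty ∧ O ∩ Z ⊆ T) : IsOpen T := by
  by_contra hT
  obtain ⟨s, hsT, hs⟩ : ∃ s ∈ T, s ∈ closure Tᶜ := by
    by_contra hc
    push Not at hc
    refine hT ?_
    rw [← isClosed_compl_iff, ← closure_subset_iff_isClosed]
    exact fun x hx hxT => hc x hxT hx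
  -- choose one whose trace is dense in it
  classical
  let Q : Closeds α → Prop := fun C => s ∈ closure (Tᶜ ∩ (C : Set α))
  obtain ⟨C, hC, hmin⟩ := (wellFounded_lt (α := Closeds α)).has_min {C | Q C}
    ⟨⊤, show s ∈ closure (Tᶜ ∩ ((⊤ : Closeds α) : Set α)) by simpa using hs⟩
  obtain ⟨𝒯, hfT, hclT, hirrT, hUT⟩ := NoetherianSpace.exists_finite_set_isClosed_irreducible C.isClosed
  have hsub' : closure (Tᶜ ∩ (C : Set α)) ⊆ ⋃ D ∈ 𝒯, closure (Tᶜ ∩ D) := by
    rw [← hfT.closure_biUnion]
    refine closure_mono fun x hx => ?_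
    obtain ⟨D, hD, hxD⟩ := Set.mem_sUnion.1 (hUT.le hx.2)
    exact Set.mem_biUnion hD ⟨hx.1, hxD⟩
  obtain ⟨D, hD, hsD⟩ := Set.mem_iUnion₂.1 (hsub' hC)
  obtain ⟨O, hO, ⟨y, hyO, hyD⟩, hOT⟩ := h D (hclT D hD) (hirrT D hD)
    ⟨s, hsT, closure_minimal Set.inter_subset_right (hclT D hD) hsD⟩
  have hDC : D ⊆ (C : Set α) := fun x hx => hUT.ge (Set.mem_sUnion.2 ⟨D, hD, hx⟩)
  let C' : Closeds α := ⟨D \ O, (hclT D hD).sdiff hO⟩
  refine hmin C' ?_ ?_
  · refine closure_mono ?_ hsD
    exact fun x hx => ⟨hx.1, hx.2, fun hxO => hx.1 (hOT ⟨hxO, hx.2⟩)⟩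
  · refine lt_of_le_of_ne (fun x hx => hDC hx.1) fun hE => ?_
    have : y ∈ (C' : Set α) := hE ▸ hDC hyD
    exact this.2 hyO

/-- The comparison map of projective spaces. -/
def psoMap (n : ℕ) {S' S : Scheme.{u}} (u : S' ⟶ S) : CohB1.ProjSpaceOver n S' ⟶ CohB1.ProjSpaceOver n S :=
  pullback.lift (pullback.fst _ _) (CohB1.ProjSpaceOver.toBase n S' ≫ u)
    (pullback.condition.trans (specULiftZIsTerminal.hom_ext _ _))

theorem isPullback_psoMap (n : ℕ) {S' S : Scheme.{u}} (u : S' ⟶ S) :
    IsPullback (psoMap n u) (CohB1.ProjSpaceOver.toBase n S') (CohB1.ProjSpaceOver.toBase n S) u := by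
  refine IsPullback.of_right (h₁₂ := pullback.fst _ _) (v₁₃ := CohB1.ProjSpace.toSpec n (ULift.{u} ℤ))
    (h₂₂ := specULiftZIsTerminal.from S) ?_ (pullback.lift_snd _ _ _) (IsPullback.of_hasPullback _ _)
  have h1 := IsPullback.of_hasPullback (CohB1.ProjSpace.toSpec n (ULift.{u} ℤ)) (specULiftZIsTerminal.from S')
  have e1 : psoMap n u ≫ pullback.fst _ _ = pullback.fst _ _ := pullback.lift_fst _ _ _
  have e2 : u ≫ specULiftZIsTerminal.from S = specULiftZIsTerminal.from S' := specULiftZIsTerminal.hom_ext _ _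
  exact e1.symm ▸ e2.symm ▸ h1

/-- The locus contains the generic point as soon as it is nonempty. -/
theorem genericPoint_mem {X S : Scheme.{u}} [IsNoetherian S] [IsIntegral S] (f : X ⟶ S) [IsProper f]
    {L : X.Modules} (hL : PicF.IsInvertible L) {s : S} (hs : Pic13.IsTauTrivialAt f L s) :
    Pic13.IsTauTrivialAt f L (genericPoint S) := by
  by_cases hne : genericPoint S = s
  · rw [hne]; exact hs
  obtain ⟨R, _, _, _, v, hv0, hv1⟩ := Groth.Agent.RatMapExt.exists_dvr_of_specializes
    (genericPoint_specializes s) hne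
  let g0 : Spec (CommRingCat.of (FractionRing R)) ⟶ Spec (CommRingCat.of R) :=
    Spec.map (CommRingCat.ofHom (algebraMap R (FractionRing R)))
  let c : Spec (CommRingCat.of R) := IsLocalRing.closedPoint R
  have hL' := PicCl.isInvertible_pullback (pullback.fst f v) hL
  have h0 : Pic13.IsTauTrivialAt (pullback.snd f v) ((Scheme.Modules.pullback (pullback.fst f v)).obj L) c :=
    (mem_baseChange f hL v c).2 (hv0.symm ▸ hs)
  have h1 := numAt_generic (pullback.snd f v) hL' ((mem_iff _ hL' c).1 h0)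
  obtain ⟨z⟩ : Nonempty (Spec (CommRingCat.of (FractionRing R))) := inferInstance
  have h2 := (mem_baseChange f hL v (g0 z)).1 ((mem_iff' _ hL' g0 z).2 h1)
  have hz : v (g0 z) = genericPoint S := hv1 z
  rwa [hz] at h2

set_option maxHeartbeats 1000000 in
/-- The locus contains a nonempty open as soon as it contains the generic point. -/
theorem exists_open_subset {X S : Scheme.{u}} [IsNoetherian S] [IsIntegral S] (f : X ⟶ S) [IsProper f]
    {L : X.Modules} (hL : PicF.IsInvertible L) (hη : Pic13.IsTauTrivialAt f L (genericPoint S)) :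
    ∃ V : S.Opens, (V : Set S).Nonempty ∧ ∀ s ∈ V, Pic13.IsTauTrivialAt f L s := by
  obtain ⟨n, X₁, π, j, hj, hjb, hπ, hπs, -⟩ := Chow.chow f
  haveI := hj; haveI := hπ; haveI := hπs
  haveI : IsProper (j ≫ CohB1.ProjSpaceOver.toBase n S) := hjb ▸ inferInstance
  haveI : IsClosedImmersion j := FlatMor.AmpleBase.isClosedImmersion_of_comp_proper j
  let f₁ := π ≫ f
  let L₁ := (Scheme.Modules.pullback π).obj L
  have hL₁ : PicF.IsInvertible L₁ := PicCl.isInvertible_pullback π hL
  have hη₁ : Pic13.IsTauTrivialAt f₁ L₁ (genericPoint S) := (mem_of_surjective f hL π _).2 hη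
  obtain ⟨V, S', h, hV, hS'i, hfin, hflat, hsurj, hcomp⟩ := S5641.result f₁
  haveI := hS'i; haveI := hfin; haveI := hsurj
  let u : S' ⟶ S := h ≫ V.ι
  haveI : IsNoetherian V.toScheme := by
    haveI : IsLocallyNoetherian V.toScheme := inferInstance
    haveI : CompactSpace V.toScheme := isCompact_iff_compactSpace.1 (NoetherianSpace.isCompact (V : Set S))
    exact {}
  haveI : IsLocallyNoetherian S' := LocallyOfFiniteType.isLocallyNoetherian h
  haveI : CompactSpace S' := QuasiCompact.compactSpace_of_compactSpace h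
  haveI : IsNoetherian S' := {}
  have hgen : u (genericPoint S') = genericPoint S := by
    have hgV : genericPoint S ∈ V :=
      ((genericPoint_spec S).mem_open_set_iff V.2).2 (by simpa using hV)
    obtain ⟨x, hx⟩ := hsurj.surj ⟨genericPoint S, hgV⟩
    have h1 : u (genericPoint S') ⤳ u x := (genericPoint_specializes x).map u.continuous
    have h2 : u x = genericPoint S := by
      show V.ι (h x) = _
      rw [show h x = _ from hx]
      rfl
    rw [h2] at h1
    exact (h1.antisymm (genericPoint_specializes _)).eq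
  let f₂ := pullback.snd f₁ u
  let L₂ := (Scheme.Modules.pullback (pullback.fst f₁ u)).obj L₁
  have hL₂ : PicF.IsInvertible L₂ := PicCl.isInvertible_pullback _ hL₁
  have hη₂ : Pic13.IsTauTrivialAt f₂ L₂ (genericPoint S') := (mem_baseChange f₁ hL₁ u _).2 (hgen.symm ▸ hη₁)
  haveI : IsLocallyNoetherian (pullback f₁ u) := LocallyOfFiniteType.isLocallyNoetherian f₂
  haveI : CompactSpace ↥(pullback f₁ u) := QuasiCompact.compactSpace_of_compactSpace f₂
  haveI : IsNoetherian (pullback f₁ u) := {}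
  have hfinC : (irreducibleComponents ↥(pullback f₁ u)).Finite := NoetherianSpace.finite_irreducibleComponents
  haveI := hfinC.to_subtype
  let Z : irreducibleComponents ↥(pullback f₁ u) → Scheme.{u} := fun C =>
    (Scheme.IdealSheafData.vanishingIdeal ⟨C.1, isClosed_of_mem_irreducibleComponents C.1 C.2⟩).subscheme
  let ι : ∀ C, Z C ⟶ pullback f₁ u := fun C =>
    (Scheme.IdealSheafData.vanishingIdeal ⟨C.1, isClosed_of_mem_irreducibleComponents C.1 C.2⟩).subschemeι
  haveI : ∀ C, IsClosedImmersion (ι C) := fun C => inferInstance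
  have hrange : ∀ C, Set.range (ι C) = C.1 := fun C => RedSub.range_vanishingIdeal_subschemeι _
  -- the closed embedding in projective space over `S'`
  let j' : pullback f₁ u ⟶ CohB1.ProjSpaceOver n S' :=
    (isPullback_psoMap n u).lift (pullback.fst f₁ u ≫ j) f₂ (by
      rw [Category.assoc, hjb]; exact pullback.condition)
  have hj'b : j' ≫ CohB1.ProjSpaceOver.toBase n S' = f₂ := (isPullback_psoMap n u).lift_snd _ _ _
  haveI : IsClosedImmersion j' := MorphismProperty.of_isPullback (P := @IsClosedImmersion)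
    (IsPullback.of_bot (t := isPullback_psoMap n u)
      (by rw [hj'b, hjb]; exact IsPullback.of_hasPullback f₁ u)
      ((isPullback_psoMap n u).lift_fst _ _ _).symm :
      IsPullback (pullback.fst f₁ u) j' j (psoMap n u)) ‹IsClosedImmersion j›
  have hall : ∀ s' : S', Pic13.IsTauTrivialAt f₂ L₂ s' := by
    intro s'
    have hs' : ∀ C, Pic13.IsTauTrivialAt (ι C ≫ f₂) ((Scheme.Modules.pullback (ι C)).obj L₂) s' := by
      intro C
      haveI : IsReduced (Z C) := RedSub.isReduced_vanishingIdeal _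
      obtain ⟨hfl, hgi⟩ := hcomp (Z C) (ι C) (by rw [hrange]; exact C.2)
      let i := ι C ≫ j'
      have hi : i ≫ CohB1.ProjSpaceOver.toBase n S' = ι C ≫ f₂ := by simp [i, hj'b]
      haveI : Flat (i ≫ CohB1.ProjSpaceOver.toBase n S') := hi ▸ hfl
      have hint : ∀ (Ω : Type u) [Field Ω] [IsAlgClosed Ω] (σ : Spec (CommRingCat.of Ω) ⟶ S'),
          IsIntegral (pullback (i ≫ CohB1.ProjSpaceOver.toBase n S') σ) := by
        intro Ω _ _ σ
        haveI : GeometricallyIntegral (i ≫ CohB1.ProjSpaceOver.toBase n S') := hi ▸ hgi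
        exact GeometricallyIntegral.geometrically_isIntegral σ (pullback.fst _ _) (pullback.snd _ _)
          (IsPullback.of_hasPullback _ _)
      have hLC : PicF.IsInvertible ((Scheme.Modules.pullback (ι C)).obj L₂) :=
        PicCl.isInvertible_pullback _ hL₂
      have hcl := Groth.Agent.S4301.result n i hint _ hLC
      rw [hi] at hcl
      have hgenC : Pic13.IsTauTrivialAt (ι C ≫ f₂) ((Scheme.Modules.pullback (ι C)).obj L₂)
          (genericPoint S') := by
        intro Ω _ _ σ hσ
        letI : (pullback f₂ σ).Over (Spec (CommRingCat.of Ω)) := ⟨pullback.snd f₂ σ⟩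
        letI : (pullback (ι C ≫ f₂) σ).Over (Spec (CommRingCat.of Ω)) := ⟨pullback.snd (ι C ≫ f₂) σ⟩
        let w : pullback (ι C ≫ f₂) σ ⟶ pullback f₂ σ :=
          pullback.map (ι C ≫ f₂) σ f₂ σ (ι C) (𝟙 _) (𝟙 _) (by simp) (by simp)
        obtain ⟨m, hm, halg⟩ := EulerFam.isTauEquivZero_pullback (k := Ω) w
          ((pullback.lift_snd _ _ _).trans (Category.comp_id _)) (hη₂ Ω σ hσ)
        exact ⟨m, hm, EulerFam.isAlgEquivZero_of_iso (AmpleLib.tensorPowIso
          ((Scheme.Modules.pullbackComp w (pullback.fst f₂ σ)).app L₂ ≪≫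
            (Scheme.Modules.pullbackCongr (pullback.lift_fst _ _ _)).app L₂ ≪≫
            ((Scheme.Modules.pullbackComp _ (ι C)).app L₂).symm) m) halg⟩
      exact hcl.closure_subset_iff.2 (Set.singleton_subset_iff.2 hgenC)
        (specializes_iff_mem_closure.1 (genericPoint_specializes s'))
    refine (mem_iff f₂ hL₂ s').2 (numAt_of_cover f₂ ι (fun x => ?_) hL₂ _ fun C => ?_)
    · exact ⟨⟨irreducibleComponent x, irreducibleComponent_mem_irreducibleComponents x⟩,
        (hrange _).ge mem_irreducibleComponent⟩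
    · exact (mem_iff _ (PicCl.isInvertible_pullback _ hL₂) s').1 (hs' C)
  refine ⟨V, hV, fun s hs => ?_⟩
  obtain ⟨s', hs'⟩ := hsurj.surj ⟨s, hs⟩
  have hu : u s' = s := by
    show V.ι (h s') = _
    rw [show h s' = _ from hs']
    rfl
  exact hu ▸ (mem_of_surjective f hL π _).1 ((mem_baseChange f₁ hL₁ u s').1 (hall s'))

/-- Openness of the τ-trivial locus. -/
theorem isOpen_tauTrivial {X S : Scheme.{u}} [IsNoetherian S] (f : X ⟶ S) [IsProper f]
    {L : X.Modules} (hL : PicF.IsInvertible L) : IsOpen {s : S | Pic13.IsTauTrivialAt f L s} := by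
  refine isOpen_of_forall_irreducible _ fun Z hZ hirr hne => ?_
  let I := Scheme.IdealSheafData.vanishingIdeal (⟨Z, hZ⟩ : Closeds S)
  let j := I.subschemeι
  have hjr : Set.range j = Z := RedSub.range_vanishingIdeal_subschemeι _
  haveI : IsReduced I.subscheme := RedSub.isReduced_vanishingIdeal _
  haveI : IrreducibleSpace I.subscheme := FlatMor.GeomIntComp.irreducibleSpace_of_range j (hjr ▸ hirr)
  haveI : IsIntegral I.subscheme := isIntegral_of_irreducibleSpace_of_isReduced _
  haveI : IsLocallyNoetherian I.subscheme := LocallyOfFiniteType.isLocallyNoetherian j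
  haveI : CompactSpace I.subscheme := QuasiCompact.compactSpace_of_compactSpace j
  haveI : IsNoetherian I.subscheme := {}
  obtain ⟨s, hsT, hsZ⟩ := hne
  obtain ⟨s', rfl⟩ := hjr.ge hsZ
  have hL' := PicCl.isInvertible_pullback (pullback.fst f j) hL
  obtain ⟨V, ⟨v, hv⟩, hVT⟩ := exists_open_subset (pullback.snd f j) hL'
    (genericPoint_mem (pullback.snd f j) hL' ((mem_baseChange f hL j s').2 hsT))
  obtain ⟨O, hO, hOV⟩ := j.isEmbedding.isInducing.isOpen_iff.1 V.2
  refine ⟨O, hO, ⟨j v, ?_, hjr.le ⟨v, rfl⟩⟩, ?_⟩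
  · have : v ∈ j ⁻¹' O := hOV.symm ▸ hv
    exact this
  · rintro x ⟨hxO, hxZ⟩
    obtain ⟨w, rfl⟩ := hjr.ge hxZ
    exact (mem_baseChange f hL j w).1 (hVT w (hOV.subset hxO))

end Groth.Agent.NumTriv.TauFibre
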